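import Mathlib
import Cfsg.Prelude.Def_OddOrderLocal
import Cfsg.Agent.S1404
import Cfsg.Agent.Lib.helper55.NormalElemAb

/-!
# Bender-Glauberman Proposition 10.11 (a)-(c), reduced to B-G 12.4(a) (helper86)

`bg1424` proves the statement of S1424 from the landed S1404 and from the first clause of S1416
(`C_G(A) ≤ M` for `A ≤ M` elementary abelian of order `p ^ 2`), taken as a hypothesis.
The reduction is due to helper76.
-/

set_option autoImplicit false

namespace Cfsg.Agent.Lib.helper86.BG1424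

variable {G : Type*} [Group G]

/-- A `p`-subgroup `T` containing `S` with `N_T(S) ≤ S` is contained in `S`. -/
theorem le_of_normalizer_inf_le [Finite G] {p : ℕ} [Fact p.Prime] {S T : Subgroup G}
    (hT : IsPGroup p T) (hST : S ≤ T) (h : T ⊓ Subgroup.normalizer (S : Set G) ≤ S) : T ≤ S := by
  by_contra hne
  have : Group.IsNilpotent T := hT.isNilpotent
  have hlt : S.subgroupOf T < ⊤ := by
    rw [lt_top_iff_ne_top]
    intro htop
    apply hne
    intro x hx
    have : (⟨x, hx⟩ : T) ∈ S.subgroupOf T := by rw [htop]; trivial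
    exact Subgroup.mem_subgroupOf.mp this
  have hgrow := Group.normalizerCondition_of_isNilpotent (G := T) (S.subgroupOf T) hlt
  obtain ⟨y, hyN, hyS⟩ := SetLike.exists_of_lt hgrow
  apply hyS
  rw [Subgroup.mem_subgroupOf]
  apply h
  refine ⟨y.2, ?_⟩
  show (y : G) ∈ Subgroup.normalizer (S : Set G)
  rw [Subgroup.mem_normalizer_iff]
  intro s
  rw [Subgroup.mem_normalizer_iff] at hyN
  constructor
  · intro hs
    have := (hyN ⟨s, hST hs⟩).mp (Subgroup.mem_subgroupOf.mpr hs)
    exact Subgroup.mem_subgroupOf.mp this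
  · intro hs
    have hsT : s ∈ T := by
      have h1 : (y : G) * s * (y : G)⁻¹ ∈ T := hST hs
      have h2 : (y : G)⁻¹ * ((y : G) * s * (y : G)⁻¹) * (y : G) ∈ T :=
        T.mul_mem (T.mul_mem (T.inv_mem y.2) h1) y.2
      simpa [mul_assoc] using h2
    have := (hyN ⟨s, hsT⟩).mpr (Subgroup.mem_subgroupOf.mpr hs)
    exact Subgroup.mem_subgroupOf.mp this

/-- Subgroups of a cyclic subgroup are normalized by its normalizer. -/
theorem normalizer_le_of_le_cyclic {S X : Subgroup G} (hS : IsCyclic S) (hXS : X ≤ S) :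
    Subgroup.normalizer (S : Set G) ≤ Subgroup.normalizer (X : Set G) := by
  obtain ⟨⟨s, hs⟩, hgen⟩ := hS
  have key : ∀ g ∈ Subgroup.normalizer (S : Set G), ∀ x ∈ X, g * x * g⁻¹ ∈ X := by
    intro g hg x hx
    have h1 : g * s * g⁻¹ ∈ S := (Subgroup.mem_normalizer_iff.mp hg s).mp hs
    obtain ⟨k, hk⟩ := hgen ⟨g * s * g⁻¹, h1⟩
    obtain ⟨j, hj⟩ := hgen ⟨x, hXS hx⟩
    have hk' : s ^ k = g * s * g⁻¹ := by
      have := congrArg Subtype.val hk
      simpa using this
    have hj' : s ^ j = x := by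
      have := congrArg Subtype.val hj
      simpa using this
    have : g * x * g⁻¹ = x ^ k := by
      rw [← hj', ← zpow_mul, mul_comm, zpow_mul, hk']
      simp [conj_zpow]
    rw [this]
    exact X.zpow_mem hx k
  intro g hg
  rw [Subgroup.mem_normalizer_iff]
  intro x
  constructor
  · exact key g hg x
  · intro hx
    have := key g⁻¹ (Subgroup.inv_mem _ hg) _ hx
    simpa [mul_assoc] using this

/-- For `q ∈ σ(M)`, the normalizer in `G` of every Sylow `q`-subgroup of `M` lies in `M`. -/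
theorem sigma_normalizer_le [Finite G] {M : Subgroup G} {q : ℕ} [Fact q.Prime]
    (hq : q ∈ Cfsg.sigma M) (Q : Sylow q M) :
    Subgroup.normalizer (((Q : Subgroup M).map M.subtype : Subgroup G) : Set G) ≤ M := by
  obtain ⟨-, -, P, hP⟩ := hq
  obtain ⟨m, hm⟩ := MulAction.exists_smul_eq M P Q
  have conjPQ : ∀ y : G, y ∈ (P : Subgroup M).map M.subtype ↔
      (m : G) * y * (m : G)⁻¹ ∈ (Q : Subgroup M).map M.subtype := by
    intro y
    constructor
    · rintro ⟨y', hy', rfl⟩
      refine ⟨m * y' * m⁻¹, ?_, by simp⟩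
      rw [← hm, Sylow.coe_subgroup_smul]
      exact Subgroup.smul_mem_pointwise_smul y' (MulAut.conj m) (P : Subgroup M) hy'
    · rintro ⟨z, hz, hzy⟩
      rw [← hm, Sylow.coe_subgroup_smul] at hz
      obtain ⟨w, hw, rfl⟩ := hz
      refine ⟨w, hw, ?_⟩
      have h1 : (m : G) * (w : G) * (m : G)⁻¹ = (m : G) * y * (m : G)⁻¹ := by
        rw [← hzy]
        simp [MulAut.smul_def]
      have h2 := mul_right_cancel h1
      exact mul_left_cancel h2
  intro n hn
  have key : (m : G)⁻¹ * n * (m : G) ∈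
      Subgroup.normalizer (((P : Subgroup M).map M.subtype : Subgroup G) : Set G) := by
    rw [Subgroup.mem_normalizer_iff]
    intro x
    rw [conjPQ x, conjPQ ((m : G)⁻¹ * n * (m : G) * x * ((m : G)⁻¹ * n * (m : G))⁻¹)]
    have h1 : (m : G) * ((m : G)⁻¹ * n * (m : G) * x * ((m : G)⁻¹ * n * (m : G))⁻¹) * (m : G)⁻¹
        = n * ((m : G) * x * (m : G)⁻¹) * n⁻¹ := by group
    rw [h1]
    exact Subgroup.mem_normalizer_iff.mp hn _
  have h3 := hP key
  have h4 : (m : G) * ((m : G)⁻¹ * n * (m : G)) * (m : G)⁻¹ ∈ M :=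
    M.mul_mem (M.mul_mem m.2 h3) (M.inv_mem m.2)
  have h5 : (m : G) * ((m : G)⁻¹ * n * (m : G)) * (m : G)⁻¹ = n := by group
  rwa [h5] at h4

/-- The statement of S1424 (B-G Proposition 10.11 (a)-(c)), from S1404 and the first clause of
S1416 (`h16`). -/
theorem bg1424 [Finite G] (hG : Cfsg.IsMinSimpleOddOrder G)
    (h16 : ∀ (M : Subgroup G), IsCoatom M → ∀ (p : ℕ) [Fact p.Prime] (A : Subgroup G),
      (A ≤ M ∧ Cfsg.IsElementaryAbelian p A ∧ Nat.card A = p ^ 2) →
      Subgroup.centralizer (A : Set G) ≤ M)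
    (M : Subgroup G) (hM : IsCoatom M) (q : ℕ) [Fact q.Prime] (hq : q ∈ Cfsg.sigma M)
    (X : Subgroup G) (hXq : IsPGroup q X) (hX1 : X ≠ ⊥) (hXM : X ≤ M)
    (Mstar : Subgroup G) (hMs : IsCoatom Mstar) (hne : Mstar ≠ M)
    (hNX : Subgroup.normalizer (X : Set G) ≤ Mstar)
    (S : Sylow q ↥(M ⊓ Mstar))
    (hXS : X ≤ (S : Subgroup ↥(M ⊓ Mstar)).map (M ⊓ Mstar).subtype) :
    (∀ g : G, Mstar ≠ M.map (MulAut.conj g).toMonoidHom) ∧
      Subgroup.normalizer
        (((S : Subgroup ↥(M ⊓ Mstar)).map (M ⊓ Mstar).subtype : Subgroup G) : Set G) ≤ M ∧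
      ¬ q ∣ ((S : Subgroup ↥(M ⊓ Mstar)).map (M ⊓ Mstar).subtype).relIndex Mstar := by
  classical
  obtain ⟨SG, hSG⟩ : ∃ SG : Subgroup G,
      SG = (S : Subgroup ↥(M ⊓ Mstar)).map (M ⊓ Mstar).subtype := ⟨_, rfl⟩
  rw [← hSG] at hXS ⊢
  have hSGle : SG ≤ M ⊓ Mstar := by rw [hSG]; exact Subgroup.map_subtype_le _
  have hSGq : IsPGroup q SG := by rw [hSG]; exact S.isPGroup'.map _
  have hSG1 : SG ≠ ⊥ := fun h => hX1 (le_bot_iff.mp (h ▸ hXS))
  have hXMs : X ≤ Mstar := le_trans Subgroup.le_normalizer hNX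
  have hq2 : q ≠ 2 := by
    rintro rfl
    obtain ⟨-, hdvd, -⟩ := hq
    have h1 : 2 ∣ Nat.card G := hdvd.trans (Subgroup.card_subgroup_dvd_card M)
    exact (Nat.not_even_iff_odd.mpr hG.1) (even_iff_two_dvd.mpr h1)
  -- Sylow maximality of `S` in `M ⊓ Mstar`
  have hmax : ∀ K : Subgroup G, IsPGroup q K → K ≤ M ⊓ Mstar → SG ≤ K → K ≤ SG := by
    intro K hK hKle hSK
    have h1 : (S : Subgroup ↥(M ⊓ Mstar)) ≤ K.subgroupOf (M ⊓ Mstar) := by
      intro x hx
      rw [Subgroup.mem_subgroupOf]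
      apply hSK
      rw [hSG]
      exact Subgroup.mem_map_of_mem _ hx
    have h2 : IsPGroup q (K.subgroupOf (M ⊓ Mstar)) := hK.comap_subtype
    have h3 := S.is_maximal' h2 h1
    intro k hk
    rw [hSG]
    refine ⟨⟨k, hKle hk⟩, ?_, rfl⟩
    have h4 : (⟨k, hKle hk⟩ : ↥(M ⊓ Mstar)) ∈ K.subgroupOf (M ⊓ Mstar) :=
      Subgroup.mem_subgroupOf.mpr hk
    rw [h3] at h4
    exact h4
  -- S1404 for `SG`
  obtain ⟨-, hN4⟩ := Cfsg.Agent.S1404.result hG M hM q hq SG hSGq hSG1 (hSGle.trans inf_le_left)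
  -- (b)
  have hb : Subgroup.normalizer (SG : Set G) ≤ M := by
    by_cases hcyc : IsCyclic SG
    · -- cyclic case: `SG` is a Sylow subgroup of `M`
      have hNle : Subgroup.normalizer (SG : Set G) ≤ Mstar :=
        (normalizer_le_of_le_cyclic hcyc hXS).trans hNX
      obtain ⟨Q, hQ⟩ := (hSGq.comap_subtype (K := M) : IsPGroup q (SG.subgroupOf M)).exists_le_sylow
      have hQG : SG ≤ (Q : Subgroup M).map M.subtype := by
        intro x hx
        exact ⟨⟨x, (hSGle.trans inf_le_left) hx⟩, hQ (Subgroup.mem_subgroupOf.mpr hx), rfl⟩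
      have hQq : IsPGroup q ((Q : Subgroup M).map M.subtype) := Q.isPGroup'.map _
      have hle : (Q : Subgroup M).map M.subtype ≤ SG := by
        apply le_of_normalizer_inf_le hQq hQG
        apply hmax _ (hQq.to_le inf_le_left)
        · exact le_inf (inf_le_left.trans (Subgroup.map_subtype_le _)) (inf_le_right.trans hNle)
        · exact le_inf hQG Subgroup.le_normalizer
      have heq : SG = (Q : Subgroup M).map M.subtype := le_antisymm hQG hle
      rw [heq]
      exact sigma_normalizer_le hq Q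
    · -- noncyclic case
      obtain ⟨B, -, hBe, hBc⟩ := Cfsg.Agent.Lib.helper55.exists_normal_elemAb_sq hq2 hSGq hcyc
      have hBG : Cfsg.IsElementaryAbelian q (B.map SG.subtype) := by
        refine ⟨?_, ?_⟩
        · exact ⟨⟨by
            rintro ⟨_, a, ha, rfl⟩ ⟨_, b, hb, rfl⟩
            have := hBe.1.is_comm.comm ⟨a, ha⟩ ⟨b, hb⟩
            apply Subtype.ext
            have h1 := congrArg (fun z : B => ((z : SG) : G)) this
            simpa using h1⟩⟩
        · rintro _ ⟨a, ha, rfl⟩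
          have := hBe.2 a ha
          have h1 := congrArg (fun z : SG => (z : G)) this
          simpa using h1
      have hBcard : Nat.card (B.map SG.subtype) = q ^ 2 := by
        rw [← hBc]
        exact Nat.card_congr (B.equivMapOfInjective SG.subtype SG.subtype_injective).symm.toEquiv
      have hBle : B.map SG.subtype ≤ SG := Subgroup.map_subtype_le _
      have hC : Subgroup.centralizer (SG : Set G) ≤ M :=
        (Subgroup.centralizer_le hBle).trans
          (h16 M hM q (B.map SG.subtype) ⟨hBle.trans (hSGle.trans inf_le_left), hBG, hBcard⟩)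
      rw [hN4]
      exact sup_le inf_le_left hC
  refine ⟨?_, hb, ?_⟩
  · -- (a)
    intro g hg
    apply hne
    obtain ⟨h4, -⟩ := Cfsg.Agent.S1404.result hG M hM q hq X hXq hX1 hXM
    have hconj : X.map (MulAut.conj g⁻¹).toMonoidHom ≤ M := by
      rintro _ ⟨x, hx, rfl⟩
      have hx' : x ∈ M.map (MulAut.conj g).toMonoidHom := hg ▸ hXMs hx
      obtain ⟨y, hy, hyx⟩ := hx'
      have : (MulAut.conj g⁻¹).toMonoidHom x = y := by
        rw [← hyx]
        show g⁻¹ * (g * y * g⁻¹) * g⁻¹⁻¹ = y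
        group
      rw [this]
      exact hy
    obtain ⟨m, hm, c, hc, hgmc⟩ := h4 g⁻¹ hconj
    have hcM : c ∈ Mstar := hNX (Subgroup.centralizer_le_normalizer _ hc)
    have hle : M ≤ Mstar := by
      intro y hy
      have h1 : g * (m * y * m⁻¹) * g⁻¹ ∈ Mstar := by
        rw [hg]
        exact ⟨m * y * m⁻¹, M.mul_mem (M.mul_mem hm hy) (M.inv_mem hm), rfl⟩
      have hg' : g = c⁻¹ * m⁻¹ := by
        have := congrArg (fun z => z⁻¹) hgmc
        simpa using this
      have h2 : g * (m * y * m⁻¹) * g⁻¹ = c⁻¹ * y * c := by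
        rw [hg']
        group
      rw [h2] at h1
      have h3 : c * (c⁻¹ * y * c) * c⁻¹ ∈ Mstar :=
        Mstar.mul_mem (Mstar.mul_mem hcM h1) (Mstar.inv_mem hcM)
      have h5 : c * (c⁻¹ * y * c) * c⁻¹ = y := by group
      rwa [h5] at h3
    rcases hM.le_iff.mp hle with h | h
    · exact absurd h hMs.1
    · exact h
  · -- (c)
    obtain ⟨T, hT⟩ :=
      (hSGq.comap_subtype (K := Mstar) : IsPGroup q (SG.subgroupOf Mstar)).exists_le_sylow
    have hTG : SG ≤ (T : Subgroup Mstar).map Mstar.subtype := by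
      intro x hx
      exact ⟨⟨x, (hSGle.trans inf_le_right) hx⟩, hT (Subgroup.mem_subgroupOf.mpr hx), rfl⟩
    have hTq : IsPGroup q ((T : Subgroup Mstar).map Mstar.subtype) := T.isPGroup'.map _
    have hle : (T : Subgroup Mstar).map Mstar.subtype ≤ SG := by
      apply le_of_normalizer_inf_le hTq hTG
      apply hmax _ (hTq.to_le inf_le_left)
      · exact le_inf (inf_le_right.trans hb) (inf_le_left.trans (Subgroup.map_subtype_le _))
      · exact le_inf hTG Subgroup.le_normalizer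
    have heq : SG = (T : Subgroup Mstar).map Mstar.subtype := le_antisymm hTG hle
    have h1 : SG.subgroupOf Mstar = (T : Subgroup Mstar) := by
      rw [heq]
      ext x
      rw [Subgroup.mem_subgroupOf]
      constructor
      · rintro ⟨y, hy, hyx⟩
        have : y = x := Subtype.ext hyx
        rwa [← this]
      · intro hx
        exact ⟨x, hx, rfl⟩
    show ¬ q ∣ (SG.subgroupOf Mstar).index
    rw [h1]
    exact T.not_dvd_index

end Cfsg.Agent.Lib.helper86.BG1424
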