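/-
Bender-Glauberman, towards Theorem 14.2 (statement S1430): the open case `NAHyp` of the regularity
hypothesis (O-a) (`Cfsg.Agent.Lib.helper71.BGRegNA.NAHyp`) is impossible.

Setting: `r ∈ τ₂(M)`, Sylow `r`-subgroups of `G` nonabelian, `A ≤ E` elementary abelian of order
`r ^ 2`, `R := A ∩ C_G(M_σ)`, `P ≤ E` of order `p ∈ τ₁(M)` singular on `M_σ` and centralizing `R`.
Pieces (see tools/S1430_NA_SPEC.md): N1 (helper54), N2 (helper60), N3 (helper87), N4, N6 (helper27),
N5a (helper51), N5b (helper32), N5c (helper63); here: the Sylow kill (N5d) and the assembly (N7).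
-/
import Mathlib
import Cfsg.Agent.S0005
import Cfsg.Agent.S1408
import Cfsg.Agent.S1411
import Cfsg.Agent.S1417
import Cfsg.Agent.Lib.helper25.BGTenNineC
import Cfsg.Agent.Lib.helper66.PGroupAction
import Cfsg.Agent.Lib.helper71.BGRegNA
import Cfsg.Agent.Lib.helper97.BGEight2
import Cfsg.Agent.Lib.helper90.BG1428S
import Cfsg.Agent.Lib.helper54.BGNAN1
import Cfsg.Agent.Lib.helper60.BGNAN2
import Cfsg.Agent.Lib.helper87.BGNAN3
import Cfsg.Agent.Lib.helper27.BGNAN4
import Cfsg.Agent.Lib.helper51.BGNAN5a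
import Cfsg.Agent.Lib.helper32.BGNAN5b
import Cfsg.Agent.Lib.helper63.BGNAN5c
import Cfsg.Agent.Lib.helper27.BGNAN6

set_option autoImplicit false
open Cfsg

namespace Cfsg.Agent.Lib.helper86.BGNA

variable {G : Type*} [Group G]

open scoped commutatorElement

/-- A complement of a Sylow subgroup in its normalizer containing a given subgroup of the
normalizer of coprime order (Hall, in the solvable normalizer). -/
theorem exists_isComplIn_sylow_ge [Finite G] (hG : IsMinSimpleOddOrder G) (r : ℕ) [Fact r.Prime]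
    (S : Sylow r G) (hS1 : (S : Subgroup G) ≠ ⊥)
    (P : Subgroup G) (hPN : P ≤ Subgroup.normalizer ((S : Subgroup G) : Set G))
    (hPr : (Nat.card P).Coprime r) :
    ∃ V : Subgroup G,
      IsComplIn (S : Subgroup G) V (Subgroup.normalizer ((S : Subgroup G) : Set G)) ∧ P ≤ V ∧
      (Nat.card V).Coprime r := by
  have hrp : r.Prime := Fact.out
  obtain ⟨-, -, -, hsolv⟩ := id hG
  set N := Subgroup.normalizer ((S : Subgroup G) : Set G) with hN
  have hSN : (S : Subgroup G) ≤ N := Subgroup.le_normalizer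
  have hNtop : N ≠ ⊤ :=
    Cfsg.Agent.Lib.helper25.BGT.normalizer_ne_top_of_isPGroup hG r S S.isPGroup' hS1
  have hNsolv : Group.IsSolvable ↥N := hsolv N hNtop
  set H : Subgroup N := (S : Subgroup G).subgroupOf N with hH
  have hcardH : Nat.card H = Nat.card (S : Subgroup G) :=
    Nat.card_congr (Subgroup.subgroupOfEquivOfLe hSN).toEquiv
  have hidx : ¬ r ∣ H.index := by
    intro h
    exact S.not_dvd_index (h.trans (Subgroup.relIndex_dvd_index_of_le hSN))
  obtain ⟨n, hn⟩ := IsPGroup.iff_card.mp S.isPGroup'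
  have hcop : (H.index).Coprime (Nat.card H) := by
    rw [hcardH, hn]
    exact (Nat.Coprime.pow_left n ((Nat.Prime.coprime_iff_not_dvd hrp).mpr hidx)).symm
  have hcardN : Nat.card ↥N = H.index * Nat.card H := by
    rw [mul_comm]; exact (Subgroup.card_mul_index H).symm
  have hK : (Nat.card (P.subgroupOf N)).Coprime (Nat.card H) := by
    rw [Nat.card_congr (Subgroup.subgroupOfEquivOfLe hPN).toEquiv, hcardH, hn]
    exact Nat.Coprime.pow_right n hPr
  obtain ⟨K, hKc, hPK⟩ := Cfsg.Agent.S0005.result (G := ↥N) H.index (Nat.card H) hcardN hcop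
    (P.subgroupOf N) hK
  have hcompl : Subgroup.IsComplement' H K := by
    apply Subgroup.isComplement'_of_coprime
    · rw [hKc, mul_comm]; exact hcardN.symm
    · rw [hKc]; exact hcop.symm
  have hcardV : Nat.card (K.map N.subtype) = Nat.card K :=
    Subgroup.card_map_of_injective N.subtype_injective
  refine ⟨K.map N.subtype, ⟨hSN, Subgroup.map_subtype_le K, ?_, ?_⟩, ?_, ?_⟩
  · rw [eq_bot_iff]
    rintro x ⟨hx1, ⟨k, hk, rfl⟩⟩
    have h1 : k ∈ H ⊓ K := ⟨Subgroup.mem_subgroupOf.mpr hx1, hk⟩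
    rw [hcompl.disjoint.eq_bot, Subgroup.mem_bot] at h1
    rw [Subgroup.mem_bot, h1]
    rfl
  · intro m hm
    obtain ⟨⟨h, k⟩, hhk, -⟩ := (Subgroup.isComplement'_def.mp hcompl).existsUnique ⟨m, hm⟩
    refine ⟨(h : N), Subgroup.mem_subgroupOf.mp h.2, (k : N), ⟨k, k.2, rfl⟩, ?_⟩
    have := congrArg Subtype.val hhk
    exact this.symm
  · intro x hx
    exact ⟨⟨x, hPN hx⟩, hPK (Subgroup.mem_subgroupOf.mpr hx), rfl⟩
  · rw [hcardV, hKc]
    exact (Nat.Prime.coprime_iff_not_dvd hrp).mpr hidx |>.symm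

theorem sylow_kill [Finite G] (hG : IsMinSimpleOddOrder G) (r : ℕ) [Fact r.Prime] (S : Sylow r G)
    (A : Subgroup G) (hAS : A ≤ (S : Subgroup G)) (hAe : IsElementaryAbelian r A)
    (hA2 : Nat.card A = r ^ 2)
    (hAmax : ∀ B : Subgroup G, IsElementaryAbelian r B → A ≤ B → B = A)
    (R : Subgroup G) (hRA : R ≤ A) (hR : Nat.card R = r)
    (hRS : ¬ (S : Subgroup G) ≤ Subgroup.centralizer (R : Set G))
    (hNR : Subgroup.normalizer (R : Set G) ≤ Subgroup.centralizer (R : Set G))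
    (P : Subgroup G) (hPN : P ≤ Subgroup.normalizer ((S : Subgroup G) : Set G))
    (hPr : (Nat.card P).Coprime r) (hPR : P ≤ Subgroup.centralizer (R : Set G))
    (hF : IsCyclic ↥((S : Subgroup G) ⊓ Subgroup.centralizer (P : Set G))) : False := by
  have hrp : r.Prime := Fact.out
  obtain ⟨-, -, -, hsolv⟩ := id hG
  have hRS' : R ≤ (S : Subgroup G) := hRA.trans hAS
  have hS1 : (S : Subgroup G) ≠ ⊥ := by
    intro h
    have h1 : R = ⊥ := by rw [eq_bot_iff, ← h]; exact hRS'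
    rw [h1, Subgroup.card_bot] at hR
    exact hrp.one_lt.ne hR
  obtain ⟨V, hVc, hPV, hVcop⟩ := exists_isComplIn_sylow_ge hG r S hS1 P hPN hPr
  have hVN : V ≤ Subgroup.normalizer ((S : Subgroup G) : Set G) := hVc.2.1
  have h5a := Cfsg.Agent.Lib.helper51.BGNA.na_comm_cent hG r S A hAS hAe hA2 hAmax V hVN hVcop
  -- `V` normalizes `F = S ∩ C(P)`
  have hVF : ∀ v ∈ V, ∀ f ∈ (S : Subgroup G) ⊓ Subgroup.centralizer (P : Set G),
      v * f * v⁻¹ ∈ (S : Subgroup G) ⊓ Subgroup.centralizer (P : Set G) := by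
    intro v hv f hf
    have hvfS : v * f * v⁻¹ ∈ (S : Subgroup G) :=
      (Subgroup.mem_normalizer_iff.mp (hVN hv) f).mp hf.1
    refine ⟨hvfS, ?_⟩
    show v * f * v⁻¹ ∈ Subgroup.centralizer (P : Set G)
    rw [Subgroup.mem_centralizer_iff]
    intro x hx
    have hxf : x * f = f * x := Subgroup.mem_centralizer_iff.mp hf.2 x hx
    have hc : ⁅x, v⁆ ∈ ⁅V, V⁆ := Subgroup.commutator_mem_commutator (hPV hx) hv
    have hc' := Subgroup.mem_centralizer_iff.mp (h5a hc) (v * f * v⁻¹) hvfS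
    rw [commutatorElement_def] at hc'
    -- hc' : v f v⁻¹ * (x v x⁻¹ v⁻¹) = (x v x⁻¹ v⁻¹) * v f v⁻¹
    have e1 : x * v * x⁻¹ * v⁻¹ * (v * f * v⁻¹) = x * v * (x⁻¹ * f * x) * x⁻¹ * v⁻¹ := by group
    have e2 : x⁻¹ * f * x = f := by rw [mul_assoc, ← hxf, inv_mul_cancel_left]
    have e3 : x * (v * f * v⁻¹) = (x * v * x⁻¹ * v⁻¹ * (v * f * v⁻¹)) * (v * x * v⁻¹) := by
      rw [e1, e2]; group
    rw [e3, ← hc']; group
  have hRF : R ≤ (S : Subgroup G) ⊓ Subgroup.centralizer (P : Set G) := by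
    refine le_inf hRS' ?_
    exact Subgroup.le_centralizer_iff.mp hPR
  have hVR : V ≤ Subgroup.normalizer (R : Set G) := by
    intro v hv
    have hconj : R.map (MulAut.conj v).toMonoidHom = R := by
      have := hF
      apply Cfsg.Agent.Lib.helper66.eq_of_card_eq_of_isCyclic
        (E := (S : Subgroup G) ⊓ Subgroup.centralizer (P : Set G)) _ hRF
      · exact Subgroup.card_map_of_injective (MulAut.conj v).injective
      · rintro _ ⟨x, hx, rfl⟩
        exact hVF v hv x (hRF hx)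
    rw [Subgroup.mem_normalizer_iff]
    intro x
    constructor
    · intro hx
      rw [← hconj]
      exact ⟨x, hx, rfl⟩
    · intro hx
      rw [← hconj] at hx
      obtain ⟨y, hy, hyx⟩ := hx
      have : y = x := by
        have h1 : v * y * v⁻¹ = v * x * v⁻¹ := hyx
        exact mul_left_cancel (mul_right_cancel h1)
      rw [← this]; exact hy
  have hVCR : V ≤ Subgroup.centralizer (R : Set G) := hVR.trans hNR
  obtain ⟨h11, -⟩ := Cfsg.Agent.S1411.result hG r S V hVc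
  have hSVle : (S : Subgroup G) ⊔ V ≤ Subgroup.normalizer ((S : Subgroup G) : Set G) :=
    sup_le Subgroup.le_normalizer hVN
  have hNtop : Subgroup.normalizer ((S : Subgroup G) : Set G) ≠ ⊤ :=
    Cfsg.Agent.Lib.helper25.BGT.normalizer_ne_top_of_isPGroup hG r S S.isPGroup' hS1
  have hsolvSV : Group.IsSolvable ↥((S : Subgroup G) ⊔ V) := by
    apply hsolv
    intro h
    apply hNtop
    rw [eq_top_iff, ← h]; exact hSVle
  have hcop : (Nat.card (S : Subgroup G)).Coprime (Nat.card V) := by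
    obtain ⟨n, hn⟩ := IsPGroup.iff_card.mp S.isPGroup'
    rw [hn]
    exact Nat.Coprime.pow_left n hVcop.symm
  have h5c := Cfsg.Agent.Lib.helper63.BGNA.na_fix_le_comm (S : Subgroup G) V hVN hcop hsolvSV (le_of_eq h11)
  have hRcomm : R ≤ ⁅(S : Subgroup G), (S : Subgroup G)⁆ := by
    intro x hx
    apply h5c
    refine ⟨hRS' hx, ?_⟩
    exact (Subgroup.le_centralizer_iff.mp hVCR) hx
  exact Cfsg.Agent.Lib.helper32.BGNA.na_not_le_comm hG r S A hAS hAe hA2 hAmax R hRA hR hRS hRcomm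

/-- ASSEMBLY. -/
theorem naHyp [Finite G] (hG : IsMinSimpleOddOrder G) :
    Cfsg.Agent.Lib.helper71.BGRegNA.NAHyp G := by
  intro M hM E hE r _ hr hS A hAE hAe hA2 p hp P hPE hP hY hRP
  have hrp : r.Prime := Fact.out
  have hpp : p.Prime := hp.1
  have hEM : E ≤ M := hE.1
  obtain ⟨hR, hRM, hCR, hNR, hAP, hpr, hZA, hZ, -, hZP, hZσ⟩ :=
    Cfsg.Agent.Lib.helper54.BGNA.na_basic hG M hM E hE r hr hS A hAE hAe hA2 p hp P hPE hP hY hRP
  obtain ⟨H, hH, hNPH⟩ :=
    Cfsg.Agent.Lib.helper90.BG1428.s_exists_coatom_normalizer_le hG P p hpp hP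
  obtain ⟨hcyc, hrH, hpH⟩ :=
    Cfsg.Agent.Lib.helper60.BGNA.na_H hG M hM E hE r hr hS A hAE hAe hA2 p hp P hPE hP hY hRP hR hCR hpr H hH hNPH
  have h1 := Cfsg.Agent.Lib.helper87.BGNA.na_tau1 hG M hM E hE r hr hS A hAE hAe hA2 p hp P hPE hP hY hZA hZ hZP hZσ
  have hMC := Cfsg.Agent.Lib.helper27.BGNA.na_cent hG M hM E hE r hr hS A hAE hAe hA2 p hp P hPE hP hRP hR hRM h1 H hH hNPH
    hrH hpH
  obtain ⟨S, hAS, hPS⟩ := Cfsg.Agent.Lib.helper27.BGNA.na_M1 hG M hM E hE r hr A hAE hAe hA2 p hp P hPE hP hAP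
  have hAmax : ∀ B : Subgroup G, IsElementaryAbelian r B → A ≤ B → B = A :=
    (Cfsg.Agent.S1408.result hG M hM r hr.2.1 hr.2.2.1 hr.2.2.2).2 A (hAE.trans hEM) hAe hA2
  have h17 : Cfsg.Agent.Lib.helper97.BG7FiveHyp G :=
    fun M hM p _ hp A hA => Cfsg.Agent.S1417.result hG M hM p hp A hA
  have hpr' : p ≠ r := by
    rintro rfl
    exact hr.2.2.2 hp.2.2.2.2
  refine sylow_kill hG r S A hAS hAe hA2 hAmax
    (A ⊓ Subgroup.centralizer (sigmaCore M : Set G)) inf_le_left hR ?_ (hNR.trans hMC) P hPS ?_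
    (Subgroup.le_centralizer_iff.mp hRP) ?_
  · intro hSR
    have hSM : (S : Subgroup G) ≤ M := hSR.trans hCR
    have hc := Cfsg.Agent.Lib.helper97.bg8_psub_comm h17 M hM r hr A ⟨hAE.trans hEM, hAe, hA2⟩
      (S : Subgroup G) hSM S.isPGroup'
    exact hS S ⟨⟨fun a b => Subtype.ext (hc a a.2 b b.2)⟩⟩
  · rw [hP]
    exact (Nat.coprime_primes hpp hrp).mpr hpr'
  · apply hcyc
    · exact inf_le_right.trans ((Subgroup.centralizer_le_normalizer _).trans hNPH)
    · exact S.isPGroup'.to_le inf_le_left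

end Cfsg.Agent.Lib.helper86.BGNA
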