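import Mathlib
import Cfsg.Prelude.Def_OddOrderLocal
import Cfsg.Agent.Lib.helper65.Fitting

set_option autoImplicit false

/-!
# S1356: small shared lemmas on `fittingOf`, `fittingHallOf` (helper86)
-/

namespace Cfsg.Agent.Lib.helper86.BG1356

open Cfsg Subgroup

variable {G : Type*} [Group G]

/-- **L0.** A nilpotent subgroup of `M` normalized by `M` lies in `F(M)`. -/
theorem le_fittingOf [Finite G] (M N : Subgroup G) (hNM : N ≤ M)
    (hn : M ≤ normalizer (N : Set G)) (hnil : Group.IsNilpotent ↥N) : N ≤ fittingOf M := by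
  have hnorm : (N.subgroupOf M).Normal := by
    constructor
    intro x hx g
    rw [Subgroup.mem_subgroupOf] at hx ⊢
    have hg := hn g.2
    rw [Subgroup.mem_normalizer_iff] at hg
    have := (hg (x : G)).mp hx
    simpa using this
  have hnil' : Group.IsNilpotent ↥(N.subgroupOf M) :=
    Group.nilpotent_of_mulEquiv (G := ↥N) (Subgroup.subgroupOfEquivOfLe hNM).symm
  have hle : N.subgroupOf M ≤ fittingSubgroup ↥M := le_sSup ⟨hnorm, hnil'⟩
  intro x hx
  exact ⟨⟨x, hNM hx⟩, hle (Subgroup.mem_subgroupOf.mpr hx), rfl⟩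

/-- `M_F ≤ F(M)` inside `M`. -/
theorem fittingHall_le_fittingSubgroup (M : Type*) [Group M] :
    fittingHall M ≤ fittingSubgroup M := by
  apply sSup_le
  intro N hN
  exact le_sSup ⟨hN.1, hN.2.1⟩

/-- **B0.** `M_F ≤ F(M)`. -/
theorem fittingHallOf_le_fittingOf (M : Subgroup G) : fittingHallOf M ≤ fittingOf M :=
  Subgroup.map_mono (fittingHall_le_fittingSubgroup ↥M)

/-- `F(M)` is nilpotent. -/
theorem fittingOf_isNilpotent [Finite G] (M : Subgroup G) :
    Group.IsNilpotent ↥(fittingOf M) := by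
  have h : Group.IsNilpotent ↥(fittingSubgroup ↥M) :=
    Cfsg.Agent.Lib.helper65.fittingSubgroup_isNilpotent
  exact Group.nilpotent_of_mulEquiv (G := ↥(fittingSubgroup ↥M))
    ((fittingSubgroup ↥M).equivMapOfInjective M.subtype M.subtype_injective)

/-- **B0'.** `M_F` is nilpotent. -/
theorem fittingHallOf_isNilpotent [Finite G] (M : Subgroup G) :
    Group.IsNilpotent ↥(fittingHallOf M) := by
  have h : Group.IsNilpotent ↥(fittingOf M) := fittingOf_isNilpotent M
  have e := Subgroup.subgroupOfEquivOfLe (fittingHallOf_le_fittingOf M)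
  exact Group.nilpotent_of_mulEquiv (G := ↥((fittingHallOf M).subgroupOf (fittingOf M))) e

/-- `F(M) ≤ M`. -/
theorem fittingOf_le_self (M : Subgroup G) : fittingOf M ≤ M := by
  rintro _ ⟨x, -, rfl⟩
  exact x.2

/-- `M` normalizes `F(M)`. -/
theorem le_normalizer_fittingOf (M : Subgroup G) : M ≤ normalizer (fittingOf M : Set G) := by
  intro m hm
  rw [Subgroup.mem_normalizer_iff]
  intro x
  have hN : (fittingSubgroup ↥M).Normal := Subgroup.sSup_normal _ (fun _ h => h.1)
  constructor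
  · rintro ⟨y, hy, rfl⟩
    exact ⟨⟨m, hm⟩ * y * ⟨m, hm⟩⁻¹, hN.conj_mem y hy ⟨m, hm⟩, rfl⟩
  · rintro ⟨y, hy, hyx⟩
    refine ⟨⟨m, hm⟩⁻¹ * y * ⟨m, hm⟩, ?_, ?_⟩
    · have := hN.conj_mem y hy (⟨m, hm⟩⁻¹)
      simpa using this
    · have h2 : (y : G) = m * x * m⁻¹ := hyx
      simp only [Subgroup.coe_subtype, Subgroup.coe_mul, Subgroup.coe_inv, h2]
      group

end Cfsg.Agent.Lib.helper86.BG1356
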