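import Mathlib

/-!
S3928 split project (architect helper86): shared definitions.
`ivI α` : the odd-order elements inverted by the automorphism `α`;
`IvHyp α` : `α` is involutive and `[G, α] = G`;
`ivQ α h2 N hN` : the automorphism induced by `α` on `G ⧸ N` for an `α`-invariant normal subgroup `N`;
`ivE m B` : the bound for the first non-central layer.
-/

set_option autoImplicit false

namespace Cfsg.Agent.Lib.helper86.IV

/-- the odd-order elements inverted by `α` -/
def ivI {G : Type*} [Group G] (α : MulAut G) : Set G := {g | Odd (orderOf g) ∧ α g = g⁻¹}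

theorem mem_ivI {G : Type*} [Group G] (α : MulAut G) (g : G) :
    g ∈ ivI α ↔ Odd (orderOf g) ∧ α g = g⁻¹ := Iff.rfl

/-- `α` is involutive and `[G, α] = G` -/
structure IvHyp {G : Type*} [Group G] (α : MulAut G) : Prop where
  invol : ∀ g, α (α g) = g
  gen : Subgroup.closure (Set.range (fun c : G => c * (α c)⁻¹)) = ⊤

theorem iv_map_eq {G : Type*} [Group G] (α : MulAut G) (h2 : ∀ g, α (α g) = g) (N : Subgroup G)
    (hN : ∀ n ∈ N, α n ∈ N) : N.map (α : G →* G) = N := by
  ext x
  constructor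
  · rintro ⟨n, hn, rfl⟩
    exact hN n hn
  · intro hx
    exact ⟨α x, hN x hx, h2 x⟩

/-- the automorphism induced by `α` on `G ⧸ N` -/
noncomputable def ivQ {G : Type*} [Group G] (α : MulAut G) (h2 : ∀ g, α (α g) = g) (N : Subgroup G)
    [N.Normal] (hN : ∀ n ∈ N, α n ∈ N) : MulAut (G ⧸ N) :=
  QuotientGroup.congr N N α (iv_map_eq α h2 N hN)

theorem ivQ_mk {G : Type*} [Group G] (α : MulAut G) (h2 : ∀ g, α (α g) = g) (N : Subgroup G)
    [N.Normal] (hN : ∀ n ∈ N, α n ∈ N) (g : G) :
    ivQ α h2 N hN (QuotientGroup.mk g : G ⧸ N) = (QuotientGroup.mk (α g) : G ⧸ N) := rfl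

/-- the bound for the order of the first non-central layer -/
def ivE (m B : ℕ) : ℕ :=
  (m + 1) ^ (2 * B) + Nat.factorial m + (2 * (Nat.factorial m) ^ 2) ^ (4 * B * (Nat.factorial m) ^ 2)

theorem one_le_ivE (m B : ℕ) : 1 ≤ ivE m B := by
  unfold ivE
  have : 1 ≤ (m + 1) ^ (2 * B) := Nat.one_le_pow _ _ (Nat.succ_pos m)
  omega

end Cfsg.Agent.Lib.helper86.IV
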