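import Mathlib
import Cfsg.Prelude.Def_OddOrderLocal
import Cfsg.Agent.S1446
import Cfsg.Agent.Lib.helper1.Coprime
import Cfsg.Agent.Lib.helper54.BGNAN1

set_option autoImplicit false

namespace Cfsg.Agent.Lib.helper86.BG1356

open Cfsg Subgroup

/-- **A1a** (spare copy by helper86). -/
theorem h86_frob_derived_centralizes_abelian {X : Type*} [Group X] [Finite X] (F D K : Subgroup X)
    (hFab : ∀ a ∈ F, ∀ b ∈ F, a * b = b * a) (hDF : D ≤ normalizer (F : Set X))
    (hKF : K ≤ normalizer (F : Set X)) (hKD : K ≤ normalizer (D : Set X)) (hK1 : K ≠ ⊥)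
    (hDK : D ⊓ K = ⊥)
    (hfrob : ∀ k ∈ K, k ≠ 1 → D ⊓ centralizer ({k} : Set X) = ⊥)
    (hsolv : Group.IsSolvable ↥(D ⊔ K)) (hodd : Odd (Nat.card ↥(D ⊔ K)))
    (hcop : (Nat.card ↥(D ⊔ K)).Coprime (Nat.card F))
    (C : Subgroup X) (hC : IsCyclic C)
    (hpr : ∀ k ∈ K, k ≠ 1 → F ⊓ centralizer ({k} : Set X) = C) :
    ⁅D, D⁆ ≤ centralizer (F : Set X) := by
  classical
  by_cases hD1 : D = ⊥
  · rw [hD1, Subgroup.commutator_bot_left]; exact bot_le
  have hM₀F : ⁅F, D⁆ ≤ F := Cfsg.Agent.Lib.helper1.commutator_le_of_le_normalizer hDF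
  have hDD : ⁅D, D⁆ ≤ D := Subgroup.commutator_le_self D
  have hcopD : (Nat.card D).Coprime (Nat.card F) :=
    Nat.Coprime.coprime_dvd_left (Subgroup.card_dvd_of_le (le_sup_left : D ≤ D ⊔ K)) hcop
  have hFcomm : ∀ (S : Subgroup X), S ≤ F → Group.IsNilpotent ↥S := by
    intro S hS
    have : IsMulCommutative ↥S := ⟨⟨fun a b => Subtype.ext (hFab a (hS a.2) b (hS b.2))⟩⟩
    let _ : CommGroup ↥S := { (inferInstance : Group ↥S) with
      mul_comm := fun a b => Subtype.ext (hFab a (hS a.2) b (hS b.2)) }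
    infer_instance
  have hFsolv : Group.IsSolvable ↥F := by
    have := hFcomm F le_rfl
    infer_instance
  -- F = [F,D] C_F(D)
  have hsup : ⁅F, D⁆ ⊔ (F ⊓ centralizer (D : Set X)) = F :=
    Cfsg.Agent.Lib.helper1.commutator_sup_fixed D F hDF hcopD (Or.inr hFsolv)
  -- it suffices that [D,D] centralizes [F,D]
  have key : ⁅D, D⁆ ≤ centralizer ((⁅F, D⁆ : Subgroup X) : Set X) →
      ⁅D, D⁆ ≤ centralizer (F : Set X) := by
    intro h
    rw [Subgroup.le_centralizer_iff]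
    rw [Subgroup.le_centralizer_iff] at h
    calc F = ⁅F, D⁆ ⊔ (F ⊓ centralizer (D : Set X)) := hsup.symm
      _ ≤ centralizer ((⁅D, D⁆ : Subgroup X) : Set X) := by
        apply sup_le h
        exact inf_le_right.trans (Subgroup.centralizer_le hDD)
  apply key
  by_cases hM1 : ⁅F, D⁆ = ⊥
  · rw [hM1]
    intro x _ y hy
    rw [Subgroup.coe_bot, Set.mem_singleton_iff] at hy
    rw [hy]; simp
  -- apply S1446
  have hKM : K ≤ normalizer ((⁅F, D⁆ : Subgroup X) : Set X) := by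
    intro k hk
    rw [Subgroup.mem_normalizer_iff_map_conj_eq, Subgroup.map_commutator,
      Subgroup.mem_normalizer_iff_map_conj_eq.mp (hKF hk),
      Subgroup.mem_normalizer_iff_map_conj_eq.mp (hKD hk)]
  have hCK : ∀ k ∈ K, C ≤ centralizer ({k} : Set X) := by
    intro k hk
    by_cases hk1 : k = 1
    · rw [hk1]; intro c _ y hy
      rw [Set.mem_singleton_iff] at hy; rw [hy]; simp
    · rw [← hpr k hk hk1]; exact inf_le_right
  have hCK' : C ≤ centralizer (K : Set X) := by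
    intro c hc k hk
    exact hCK k hk hc k rfl
  have hinf : ∀ k ∈ K, k ≠ 1 → ⁅F, D⁆ ⊓ centralizer ({k} : Set X) = ⁅F, D⁆ ⊓ C := by
    intro k hk hk1
    rw [← hpr k hk hk1, ← inf_assoc, inf_eq_left.mpr hM₀F]
  have hinfK : ⁅F, D⁆ ⊓ centralizer (K : Set X) = ⁅F, D⁆ ⊓ C := by
    obtain ⟨k, hk1⟩ := (Subgroup.ne_bot_iff_exists_ne_one.mp hK1)
    have hk' : (k : X) ≠ 1 := fun h => hk1 (Subtype.ext h)
    apply le_antisymm
    · rw [← hinf k k.2 hk']
      apply inf_le_inf_left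
      apply Subgroup.centralizer_le
      intro y hy
      rw [Set.mem_singleton_iff] at hy; rw [hy]; exact k.2
    · exact inf_le_inf_left _ hCK'
  obtain ⟨-, -, h3⟩ := Cfsg.Agent.S1446.result D K ⁅F, D⁆ hD1 hK1 hDK hKD hfrob hsolv hodd hM1
    (hFcomm _ hM₀F) (Cfsg.Agent.Lib.helper1.right_le_normalizer_commutator hDF) hKM
    (Nat.Coprime.coprime_dvd_right (Subgroup.card_dvd_of_le hM₀F) hcop)
    (Cfsg.Agent.Lib.helper54.BGNA.abel_comm_inf_cent F D hFab hDF hcopD.symm)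
    (fun x hx hx1 => by rw [hinf x hx hx1, hinfK])
  apply h3
  rw [hinfK]
  have hle : ⁅F, D⁆ ⊓ C ≤ C := inf_le_right
  exact Subgroup.isCyclic_of_le hle
end Cfsg.Agent.Lib.helper86.BG1356
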