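import Mathlib
import Cfsg.Prelude.Def_OddOrderLocal
import Cfsg.Agent.Lib.helper1.Coprime
import Cfsg.Agent.Lib.helper86.BG1356A1a

set_option autoImplicit false

namespace Cfsg.Agent.Lib.helper86.BG1356

open Cfsg Subgroup
open scoped commutatorElement

/-- In a finite nilpotent group a subgroup which generates the group together with the
commutator subgroup is everything. -/
theorem h86_eq_top_of_sup_commutator {H : Type*} [Group H] [Finite H] [Group.IsNilpotent H]
    (S : Subgroup H) (h : S ⊔ commutator H = ⊤) : S = ⊤ := by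
  by_contra hS
  obtain ⟨M, hM, hSM⟩ := (eq_top_or_exists_le_coatom S).resolve_left hS
  have hMn : M.Normal :=
    Subgroup.NormalizerCondition.normal_of_coatom M Group.normalizerCondition_of_isNilpotent hM
  obtain ⟨g, -, hg⟩ := SetLike.exists_of_lt (lt_top_iff_ne_top.mpr hM.1)
  have hsup : M ⊔ Subgroup.zpowers g = ⊤ := by
    apply hM.2
    refine lt_of_le_of_ne le_sup_left ?_
    intro heq
    apply hg
    rw [heq]
    exact (le_sup_right : Subgroup.zpowers g ≤ M ⊔ Subgroup.zpowers g) (Subgroup.mem_zpowers g)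
  have hcomm : commutator H ≤ M :=
    hMn.commutator_le_of_self_sup_commutative_eq_top hsup inferInstance
  have : (⊤ : Subgroup H) ≤ M := h ▸ sup_le hSM hcomm
  exact hM.1 (top_le_iff.mp this)

theorem h86_le_of_le_sup_commutator {X : Type*} [Group X] (F S : Subgroup X) [Finite F]
    [Group.IsNilpotent F] (hS : S ≤ F) (h : F ≤ S ⊔ ⁅F, F⁆) : F ≤ S := by
  have e : commutator ↥F = (⁅F, F⁆).subgroupOf F := by
    apply Subgroup.map_injective F.subtype_injective
    rw [Subgroup.map_subgroupOf_eq_of_le (Subgroup.commutator_le_self F)]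
    rw [commutator_def, Subgroup.map_commutator, ← MonoidHom.range_eq_map, Subgroup.range_subtype]
  have h1 : S.subgroupOf F = ⊤ := by
    apply h86_eq_top_of_sup_commutator
    rw [e, ← Subgroup.subgroupOf_sup hS (Subgroup.commutator_le_self F)]
    rw [Subgroup.subgroupOf_eq_top]; exact h
  exact Subgroup.subgroupOf_eq_top.mp h1

/-- **A1b** (spare copy by helper86). -/
theorem h86_frob_derived_centralizes {X : Type*} [Group X] [Finite X] (F D K : Subgroup X)
    (hFn : Group.IsNilpotent F) (hDF : D ≤ normalizer (F : Set X))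
    (hKF : K ≤ normalizer (F : Set X)) (hKD : K ≤ normalizer (D : Set X)) (hK1 : K ≠ ⊥)
    (hDK : D ⊓ K = ⊥)
    (hfrob : ∀ k ∈ K, k ≠ 1 → D ⊓ centralizer ({k} : Set X) = ⊥)
    (hsolv : Group.IsSolvable ↥(D ⊔ K)) (hodd : Odd (Nat.card ↥(D ⊔ K)))
    (hcop : (Nat.card ↥(D ⊔ K)).Coprime (Nat.card F))
    (C : Subgroup X) (hC : IsCyclic C)
    (hpr : ∀ k ∈ K, k ≠ 1 → F ⊓ centralizer ({k} : Set X) = C) :
    ⁅D, D⁆ ≤ centralizer (F : Set X) := by
  classical
  have hF'F : ⁅F, F⁆ ≤ F := Subgroup.commutator_le_self F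
  have hnormF' : ∀ (S : Subgroup X), S ≤ normalizer (F : Set X) →
      S ≤ normalizer ((⁅F, F⁆ : Subgroup X) : Set X) := by
    intro S hS s hs
    rw [Subgroup.mem_normalizer_iff_map_conj_eq, Subgroup.map_commutator,
      Subgroup.mem_normalizer_iff_map_conj_eq.mp (hS hs)]
  have hFN := hnormF' F Subgroup.le_normalizer
  have hDN := hnormF' D hDF
  have hKN := hnormF' K hKF
  have hDKF : (D ⊔ K) ⊓ F = ⊥ := disjoint_iff.mp (Subgroup.disjoint_of_coprime_natCard hcop)
  have hDF0 : D ⊓ F = ⊥ := eq_bot_iff.mpr (hDKF ▸ inf_le_inf_right F le_sup_left)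
  have hKF0 : K ⊓ F = ⊥ := eq_bot_iff.mpr (hDKF ▸ inf_le_inf_right F le_sup_right)
  generalize hF' : (⁅F, F⁆ : Subgroup X) = F' at *
  generalize hN : normalizer (F' : Set X) = N at *
  have hnorm : (F'.subgroupOf N).Normal := by
    rw [← hN]; exact Subgroup.normal_in_normalizer
  let φ : ↥N →* ↥N ⧸ (F'.subgroupOf N) := QuotientGroup.mk' _
  have hφ1 : ∀ x : ↥N, φ x = 1 ↔ (x : X) ∈ F' := by
    intro x
    rw [QuotientGroup.mk'_apply, QuotientGroup.eq_one_iff]; exact Subgroup.mem_subgroupOf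
  let im : Subgroup X → Subgroup (↥N ⧸ (F'.subgroupOf N)) := fun S => (S.subgroupOf N).map φ
  have him : ∀ (S : Subgroup X) (y), y ∈ im S ↔ ∃ x : ↥N, (x : X) ∈ S ∧ φ x = y := by
    intro S y
    simp only [im, Subgroup.mem_map, Subgroup.mem_subgroupOf]
  have hcard : ∀ S : Subgroup X, S ≤ N → Nat.card (im S) ∣ Nat.card S := by
    intro S hS
    have h1 : Nat.card (im S) ∣ Nat.card (S.subgroupOf N) := Subgroup.card_map_dvd _ φ
    have h2 : Nat.card (S.subgroupOf N) = Nat.card S :=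
      Nat.card_congr (Subgroup.subgroupOfEquivOfLe hS).toEquiv
    rwa [h2] at h1
  have hnorm' : ∀ A B : Subgroup X, A ≤ normalizer (B : Set X) →
      im A ≤ normalizer ((im B : Subgroup _) : Set _) := by
    intro A B hAB
    calc im A = (A.subgroupOf N).map φ := rfl
      _ ≤ (normalizer ((B.subgroupOf N : Subgroup N) : Set N)).map φ :=
          Subgroup.map_mono (le_trans (Subgroup.comap_mono hAB) (Subgroup.le_normalizer_comap _))
      _ ≤ normalizer _ := Subgroup.le_normalizer_map φ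
  have hFab' : ∀ a ∈ im F, ∀ b ∈ im F, a * b = b * a := by
    intro a ha b hb
    obtain ⟨x, hx, rfl⟩ := (him F a).mp ha
    obtain ⟨y, hy, rfl⟩ := (him F b).mp hb
    have h1 : φ ⁅x, y⁆ = 1 := by
      rw [hφ1, ← hF']
      exact Subgroup.commutator_mem_commutator hx hy
    rw [map_commutatorElement, commutatorElement_eq_one_iff_mul_comm] at h1
    exact h1
  have hK1' : im K ≠ ⊥ := by
    obtain ⟨k, hk1⟩ := Subgroup.ne_bot_iff_exists_ne_one.mp hK1
    intro hbot
    have hk' : φ ⟨k, hKN k.2⟩ ∈ im K := (him K _).mpr ⟨⟨k, hKN k.2⟩, k.2, rfl⟩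
    rw [hbot, Subgroup.mem_bot, hφ1] at hk'
    have : (k : X) ∈ K ⊓ F := Subgroup.mem_inf.mpr ⟨k.2, hF'F hk'⟩
    rw [hKF0, Subgroup.mem_bot] at this
    exact hk1 (Subtype.ext this)
  have hDK' : im D ⊓ im K = ⊥ := by
    rw [eq_bot_iff]
    intro y hy
    obtain ⟨hyD, hyK⟩ := Subgroup.mem_inf.mp hy
    obtain ⟨d, hd, rfl⟩ := (him D y).mp hyD
    obtain ⟨k, hk, hkd⟩ := (him K _).mp hyK
    have h1 : φ (d⁻¹ * k) = 1 := by rw [map_mul, map_inv, hkd]; group
    have h2 : ((d⁻¹ * k : ↥N) : X) ∈ F' := (hφ1 _).mp h1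
    have h3 : ((d : X))⁻¹ * (k : X) ∈ (D ⊔ K) ⊓ F :=
      Subgroup.mem_inf.mpr ⟨Subgroup.mul_mem _ (Subgroup.inv_mem _ ((le_sup_left : D ≤ D ⊔ K) hd))
        ((le_sup_right : K ≤ D ⊔ K) hk), hF'F h2⟩
    rw [hDKF, Subgroup.mem_bot, inv_mul_eq_one] at h3
    have h5 : (d : X) ∈ D ⊓ K := Subgroup.mem_inf.mpr ⟨hd, h3 ▸ hk⟩
    rw [hDK, Subgroup.mem_bot] at h5
    rw [Subgroup.mem_bot]
    have : d = 1 := Subtype.ext h5
    rw [this, map_one]
  have hfrob' : ∀ k ∈ im K, k ≠ 1 → im D ⊓ centralizer ({k} : Set _) = ⊥ := by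
    intro kb hkb hkb1
    obtain ⟨k, hk, rfl⟩ := (him K kb).mp hkb
    have hk1 : (k : X) ≠ 1 := by
      intro h
      apply hkb1
      have : k = 1 := Subtype.ext h
      rw [this, map_one]
    rw [eq_bot_iff]
    intro y hy
    obtain ⟨hyD, hyc⟩ := Subgroup.mem_inf.mp hy
    obtain ⟨d, hd, rfl⟩ := (him D y).mp hyD
    have hc : φ k * φ d = φ d * φ k := (Subgroup.mem_centralizer_iff.mp hyc) (φ k) rfl
    have h1 : φ (k⁻¹ * d⁻¹ * k * d) = 1 := by
      rw [map_mul, map_mul, map_mul, map_inv, map_inv, mul_assoc, hc]; group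
    have h2 := (hφ1 _).mp h1
    have h3 : (k : X)⁻¹ * (d : X)⁻¹ * k * d ∈ D ⊓ F := by
      refine Subgroup.mem_inf.mpr ⟨?_, hF'F h2⟩
      have h4 := (Subgroup.mem_normalizer_iff.mp (inv_mem (hKD hk)) _).mp (inv_mem hd)
      rw [inv_inv] at h4
      exact Subgroup.mul_mem _ h4 hd
    rw [hDF0, Subgroup.mem_bot] at h3
    have h5 : (d : X) ∈ D ⊓ centralizer ({(k : X)} : Set X) := by
      refine Subgroup.mem_inf.mpr ⟨hd, ?_⟩
      rw [Subgroup.mem_centralizer_iff]
      intro z hz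
      rw [Set.mem_singleton_iff] at hz
      rw [hz]
      have : (k : X) * d = d * k := by
        have h6 : (k : X) * d = d * k * ((k : X)⁻¹ * (d : X)⁻¹ * k * d) := by group
        rw [h6, h3, mul_one]
      exact this
    rw [hfrob k hk hk1, Subgroup.mem_bot] at h5
    rw [Subgroup.mem_bot]
    have : d = 1 := Subtype.ext h5
    rw [this, map_one]
  have e1 : im D ⊔ im K = im (D ⊔ K) := by
    simp only [im]; rw [← Subgroup.map_sup, ← Subgroup.subgroupOf_sup hDN hKN]
  have hsolv' : Group.IsSolvable ↥(im D ⊔ im K) := by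
    rw [e1]
    have : Group.IsSolvable ↥((D ⊔ K).subgroupOf N) :=
      Group.isSolvable_of_isSolvable_injective
        (f := ((D ⊔ K).subgroupOfEquivOfLe (sup_le hDN hKN)).toMonoidHom) (MulEquiv.injective _)
    exact Group.isSolvable_of_surjective (f := φ.subgroupMap ((D ⊔ K).subgroupOf N))
      (MonoidHom.subgroupMap_surjective _ _)
  have hodd' : Odd (Nat.card ↥(im D ⊔ im K)) := by
    rw [e1]; exact Odd.of_dvd_nat hodd (hcard _ (sup_le hDN hKN))
  have hcop' : (Nat.card ↥(im D ⊔ im K)).Coprime (Nat.card (im F)) := by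
    rw [e1]
    exact Nat.Coprime.coprime_dvd_left (hcard _ (sup_le hDN hKN))
      (Nat.Coprime.coprime_dvd_right (hcard F hFN) hcop)
  have hCF : C ≤ F := by
    obtain ⟨k, hk1⟩ := Subgroup.ne_bot_iff_exists_ne_one.mp hK1
    have hk' : (k : X) ≠ 1 := fun h => hk1 (Subtype.ext h)
    rw [← hpr k k.2 hk']; exact inf_le_left
  have hCN : C ≤ N := hCF.trans hFN
  have hC' : IsCyclic (im C) := by
    have : IsCyclic ↥(C.subgroupOf N) := (Subgroup.subgroupOfEquivOfLe hCN).isCyclic.mpr hC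
    exact isCyclic_of_surjective (φ.subgroupMap (C.subgroupOf N))
      (MonoidHom.subgroupMap_surjective _ _)
  have hpr' : ∀ k ∈ im K, k ≠ 1 → im F ⊓ centralizer ({k} : Set _) = im C := by
    intro kb hkb hkb1
    obtain ⟨k, hk, rfl⟩ := (him K kb).mp hkb
    have hk1 : (k : X) ≠ 1 := by
      intro h
      apply hkb1
      have : k = 1 := Subtype.ext h
      rw [this, map_one]
    have hCeq := hpr k hk hk1
    apply le_antisymm
    · intro y hy
      obtain ⟨hyF, hyc⟩ := Subgroup.mem_inf.mp hy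
      obtain ⟨f, hf, rfl⟩ := (him F y).mp hyF
      have hc : φ k * φ f = φ f * φ k := (Subgroup.mem_centralizer_iff.mp hyc) (φ k) rfl
      have hzN : Subgroup.zpowers (k : X) ≤ normalizer (F' : Set X) := by
        rw [hN]; exact Subgroup.zpowers_le.mpr k.2
      have hzcop : (Nat.card (Subgroup.zpowers (k : X))).Coprime (Nat.card F') :=
        Nat.Coprime.coprime_dvd_left
          (Subgroup.card_dvd_of_le
            (show Subgroup.zpowers (k : X) ≤ D ⊔ K from
              (Subgroup.zpowers_le.mpr hk).trans le_sup_right))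
          (Nat.Coprime.coprime_dvd_right (Subgroup.card_dvd_of_le hF'F) hcop)
      have hzs : Group.IsSolvable ↥(Subgroup.zpowers (k : X)) := by
        apply Group.isSolvable_of_comm
        rintro ⟨a, ha⟩ ⟨b, hb⟩
        obtain ⟨m, rfl⟩ := Subgroup.mem_zpowers_iff.mp ha
        obtain ⟨n, rfl⟩ := Subgroup.mem_zpowers_iff.mp hb
        exact Subtype.ext (zpow_mul_comm _ _ _)
      have hg : ∀ a ∈ Subgroup.zpowers (k : X), a * (f : X) * a⁻¹ * (f : X)⁻¹ ∈ F' := by
        intro a ha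
        obtain ⟨n, rfl⟩ := Subgroup.mem_zpowers_iff.mp ha
        have h1 : φ (k ^ n * f * (k ^ n)⁻¹ * f⁻¹) = 1 := by
          rw [map_mul, map_mul, map_mul, map_inv, map_inv, map_zpow]
          have hcn : φ k ^ n * φ f = φ f * φ k ^ n :=
            (Commute.zpow_left (show Commute (φ k) (φ f) from hc) n).eq
          rw [hcn]; group
        exact (hφ1 _).mp h1
      obtain ⟨c, hc1, hc2⟩ := Cfsg.Agent.Lib.helper1.coset_fixed (Subgroup.zpowers (k : X)) F'
        hzN hzcop (Or.inl hzs) (f : X) hg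
      have hcF : c ∈ F := by
        have := Subgroup.mul_mem _ (hF'F hc2) hf
        simpa using this
      have hcC : c ∈ C := by
        rw [← hCeq]; refine Subgroup.mem_inf.mpr ⟨hcF, ?_⟩
        refine Subgroup.centralizer_le ?_ hc1
        intro z hz
        rw [Set.mem_singleton_iff] at hz
        rw [hz]; exact Subgroup.mem_zpowers _
      rw [him]
      refine ⟨⟨c, hFN hcF⟩, hcC, ?_⟩
      have h7 : φ (⟨c, hFN hcF⟩ * f⁻¹) = 1 := (hφ1 _).mpr hc2
      rw [map_mul, map_inv, mul_inv_eq_one] at h7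
      exact h7
    · intro y hy
      obtain ⟨c, hc, rfl⟩ := (him C y).mp hy
      rw [← hCeq] at hc
      obtain ⟨hcF, hcc⟩ := Subgroup.mem_inf.mp hc
      refine Subgroup.mem_inf.mpr ⟨(him F _).mpr ⟨c, hcF, rfl⟩, ?_⟩
      rw [Subgroup.mem_centralizer_iff]
      intro z hz
      rw [Set.mem_singleton_iff] at hz
      rw [hz]
      have h8 : (k : X) * c = c * k := (Subgroup.mem_centralizer_iff.mp hcc) k rfl
      rw [← map_mul, ← map_mul]
      congr 1
      exact Subtype.ext h8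
  have key := h86_frob_derived_centralizes_abelian (im F) (im D) (im K) hFab' (hnorm' D F hDF)
    (hnorm' K F hKF) (hnorm' K D hKD) hK1' hDK' hfrob' hsolv' hodd' hcop' (im C) hC' hpr'
  have hT : ⁅D, D⁆ ≤ ((centralizer ((im F : Subgroup _) : Set _)).comap φ).map N.subtype := by
    rw [Subgroup.commutator_le]
    intro d1 hd1 d2 hd2
    refine ⟨⁅(⟨d1, hDN hd1⟩ : ↥N), ⟨d2, hDN hd2⟩⁆, ?_, rfl⟩
    rw [SetLike.mem_coe, Subgroup.mem_comap, map_commutatorElement]
    apply key
    exact Subgroup.commutator_mem_commutator ((him D _).mpr ⟨_, hd1, rfl⟩)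
      ((him D _).mpr ⟨_, hd2, rfl⟩)
  have hFD1 : ⁅F, ⁅D, D⁆⁆ ≤ F' := by
    rw [Subgroup.commutator_le]
    intro f hf d hd
    obtain ⟨x, hx, rfl⟩ := hT hd
    have hdc : φ x ∈ centralizer ((im F : Subgroup _) : Set _) := hx
    have h1 : φ ⟨f, hFN hf⟩ * φ x = φ x * φ ⟨f, hFN hf⟩ :=
      (Subgroup.mem_centralizer_iff.mp hdc) _ ((him F _).mpr ⟨_, hf, rfl⟩)
    have h2 : φ ⁅(⟨f, hFN hf⟩ : ↥N), x⁆ = 1 := by
      rw [map_commutatorElement, commutatorElement_eq_one_iff_mul_comm]; exact h1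
    exact (hφ1 _).mp h2
  have hD1F : ⁅D, D⁆ ≤ normalizer (F : Set X) := (Subgroup.commutator_le_self D).trans hDF
  have hcopD1 : (Nat.card ↥⁅D, D⁆).Coprime (Nat.card F) :=
    Nat.Coprime.coprime_dvd_left
      (Subgroup.card_dvd_of_le ((Subgroup.commutator_le_self D).trans le_sup_left)) hcop
  have := hFn
  have hFsolv : Group.IsSolvable ↥F := inferInstance
  have hsup := Cfsg.Agent.Lib.helper1.commutator_sup_fixed ⁅D, D⁆ F hD1F hcopD1 (Or.inr hFsolv)
  have hle : F ≤ F ⊓ centralizer ((⁅D, D⁆ : Subgroup X) : Set X) := by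
    apply h86_le_of_le_sup_commutator F _ inf_le_left
    rw [hF']
    exact hsup.ge.trans (sup_le (hFD1.trans le_sup_right) le_sup_left)
  rw [Subgroup.le_centralizer_iff]
  exact hle.trans inf_le_right

end Cfsg.Agent.Lib.helper86.BG1356
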