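import Mathlib
import Cfsg.Prelude.Def_OddOrderLocal
import Cfsg.Agent.Lib.helper86.BG1356Defs
import Cfsg.Agent.Lib.helper86.BG1356L
import Cfsg.Agent.Lib.helper29.FittingHall
import Cfsg.Agent.Lib.helper71.BGTenA
import Cfsg.Agent.Lib.helper10.BG1356A2a
import Cfsg.Agent.Lib.helper32.BG1356A2b
import Cfsg.Agent.Lib.helper64.BG1356A2d
import Cfsg.Agent.Lib.helper64.BG1356B1
import Cfsg.Agent.Lib.helper89.BG1356A3
import Cfsg.Agent.Lib.helper89.BG1356B3
import Cfsg.Agent.Lib.helper10.BG1356A2c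
import Cfsg.Agent.Lib.helper43.BG1356K1
import Cfsg.Agent.Lib.helper43.BG1356B2
import Cfsg.Agent.Lib.helper43.BG1356C1
import Cfsg.Agent.Lib.helper86.BG1356A1b

set_option autoImplicit false

/-!
# S1356 (B-G Theorem 15.2(b)): assembly (helper86)

`M'' ≤ F(M) = C_M(M_F) M_F`, and `F(M) ≤ M'` when `κ(M) ≠ ∅`, modulo the frozen rows
S1351, S1352, S1355, S1364, S1365 in ∀-form (`H13xx G` of `BG1356Defs`).
Pieces: A1a/A1b (helper86), A2d/B1 (helper64), A2a/A2c (helper10), A2b (helper32),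
A3/B3 (helper89), K1/B2/C1 (helper43).
-/

namespace Cfsg.Agent.Lib.helper86.BG1356

open Cfsg Subgroup

variable {G : Type*} [Group G]

/-- **A2c.** In type P1 the derived group of such a complement centralizes `M_F`
(helper10's `p1_derived_cent_of` with A1b = `h86_frob_derived_centralizes`). -/
theorem h86_p1_derived_cent [Finite G] (hG : IsMinSimpleOddOrder G) (h64 : H1364 G)
    (M : Subgroup G) (hM : IsCoatom M) (K : Subgroup G) (hKU : IsSigmaDecomposition M K ⊥)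
    (hK1 : K ≠ ⊥) (D : Subgroup G) (hD : IsComplIn (fittingHallOf M) D (sigmaCore M))
    (hKD : K ≤ normalizer (D : Set G)) :
    ⁅D, D⁆ ≤ centralizer (fittingHallOf M : Set G) :=
  p1_derived_cent_of
    (fun F D K hFn hDF hKF hKD hK1 hDK hfrob hsolv hodd hcop C hC hpr =>
      h86_frob_derived_centralizes F D K hFn hDF hKF hKD hK1 hDK hfrob hsolv hodd hcop C hC hpr)
    hG h64 M hM K hKU hK1 D hD hKD

/-- **A2.** `M'' ≤ F(M)` when `M_σ` is not nilpotent (assembly of A2a–A2d + S1365: `M' = M_σ`). -/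
theorem derived2_le_fitting_of_not_nilpotent [Finite G] (hG : IsMinSimpleOddOrder G)
    (h51 : H1351 G) (h55 : H1355 G) (h64 : H1364 G) (h65 : H1365 G)
    (M : Subgroup G) (hM : IsCoatom M) (hnn : ¬ Group.IsNilpotent ↥(sigmaCore M)) :
    ⁅⁅M, M⁆, ⁅M, M⁆⁆ ≤ fittingOf M := by
  obtain ⟨K, hKU, hK1⟩ := p1_of_not_nilpotent hG h51 M hM hnn
  obtain ⟨D, hD, hKD, hDn⟩ := p1_compl hG h55 M hM K hKU hK1
  have hcent := h86_p1_derived_cent hG h64 M hM K hKU hK1 D hD hKD
  have hM' : ⁅M, M⁆ = sigmaCore M := by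
    have := (h65 M hM K ⊥ hKU hK1).1
    rw [this, bot_sup_eq]
  rw [hM']
  have hσM : sigmaCore M ≤ M := Cfsg.Agent.Lib.helper71.BGA.sigmaCore_le M
  have hMσ : M ≤ normalizer (sigmaCore M : Set G) :=
    Cfsg.Agent.Lib.helper71.BGA.le_normalizer_sigmaCore M
  have hnil : Group.IsNilpotent ↥⁅sigmaCore M, sigmaCore M⁆ :=
    derived_nilpotent_of_compl (fittingHallOf M) D (sigmaCore M) hD
      (hσM.trans (Cfsg.Agent.Lib.helper29.le_normalizer_fittingHallOf M))
      (fittingHallOf_isNilpotent M) hDn hcent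
  refine le_fittingOf M _ ((Subgroup.commutator_mono hσM hσM).trans ?_) ?_ hnil
  · exact Subgroup.commutator_le_self M
  · intro m hm
    rw [Subgroup.mem_normalizer_iff_map_conj_eq, Subgroup.map_commutator]
    rw [Subgroup.mem_normalizer_iff_map_conj_eq.mp (hMσ hm)]

/-! ## ASSEMBLY -/

theorem bg1356 [Finite G] (hG : IsMinSimpleOddOrder G) (h51 : H1351 G) (h52 : H1352 G)
    (h55 : H1355 G) (h64 : H1364 G) (h65 : H1365 G)
    (M : Subgroup G) (hM : IsCoatom M) :
    ⁅⁅M, M⁆, ⁅M, M⁆⁆ ≤ Cfsg.fittingOf M ∧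
      Cfsg.fittingOf M = (M ⊓ Subgroup.centralizer (Cfsg.fittingHallOf M : Set G)) ⊔ Cfsg.fittingHallOf M ∧
      ((Cfsg.kappa M).Nonempty → Cfsg.fittingOf M ≤ ⁅M, M⁆) := by
  classical
  refine ⟨?_, ?_, fun hκ => fitting_le_derived hG h51 h52 h64 h65 M hM hκ⟩
  · by_cases hn : Group.IsNilpotent ↥(sigmaCore M)
    · exact derived2_le_fitting_of_nilpotent hG M hM hn
    · exact derived2_le_fitting_of_not_nilpotent hG h51 h55 h64 h65 M hM hn
  · apply le_antisymm (fittingOf_le M)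
    apply sup_le _ (fittingHallOf_le_fittingOf M)
    by_cases hκ : (kappa M).Nonempty
    · exact cent_le_fitting_of_kappa hG h51 h52 h55 h64 h65 M hM hκ
    · exact cent_le_fitting_of_no_kappa hG M hM (Set.not_nonempty_iff_eq_empty.mp hκ)

end Cfsg.Agent.Lib.helper86.BG1356
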