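import Cfsg.Agent.Lib.helper74.QODefs

/-!
# S1935, piece REP: the replacement step, modulo the six ring/counting pieces

`replacement_of` is the Skel statement `replacement` with the pieces L1, L2, L5a, L5b, L6c, L7
(specialised to the ring `AddMonoid.End V`) as explicit hypotheses.
-/

set_option autoImplicit false

namespace Cfsg.Agent.Lib.helper86.QO

open Cfsg.Agent.Lib.helper74.QO

section ring

variable {R : Type*} [Ring R]

/-- `A ≃ A - 1`. -/
theorem card_addSub (A : Subgroup Rˣ) (hA : Quad A) :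
    Nat.card ↥A = Nat.card ↥(addSub A hA) := by
  let f : ↥A → ↥(addSub A hA) := fun a => ⟨((a : Rˣ) : R) - 1, ⟨a, a.2, rfl⟩⟩
  have hinj : Function.Injective f := by
    intro a b hab
    have h1 : ((a : Rˣ) : R) - 1 = ((b : Rˣ) : R) - 1 := congrArg Subtype.val hab
    have h2 : ((a : Rˣ) : R) = ((b : Rˣ) : R) := sub_left_injective h1
    exact Subtype.ext (Units.ext h2)
  have hsurj : Function.Surjective f := by
    rintro ⟨r, a, ha, rfl⟩
    exact ⟨⟨a, ha⟩, rfl⟩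
  exact Nat.card_congr (Equiv.ofBijective f ⟨hinj, hsurj⟩)

/-- Every element of a square-zero additive subgroup `L` gives the unit `1 + l`. -/
theorem exists_unit_of_mem (L : AddSubgroup R) (hL : ∀ l ∈ L, ∀ l' ∈ L, l * l' = 0)
    (l : R) (hl : l ∈ L) : ∃ u ∈ unitsOf L hL, ((u : Rˣ) : R) - 1 = l := by
  have h := hL l hl l hl
  have e1 : (1 + l) * (1 - l) = 1 := by
    have : (1 + l) * (1 - l) = 1 - l * l := by noncomm_ring
    rw [this, h, sub_zero]
  have e2 : (1 - l) * (1 + l) = 1 := by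
    have : (1 - l) * (1 + l) = 1 - l * l := by noncomm_ring
    rw [this, h, sub_zero]
  refine ⟨⟨1 + l, 1 - l, e1, e2⟩, ?_, ?_⟩
  · show (1 + l) - 1 ∈ L
    rw [add_sub_cancel_left]
    exact hl
  · show (1 + l) - 1 = l
    rw [add_sub_cancel_left]

/-- `1 + L ≃ L`. -/
theorem card_unitsOf (L : AddSubgroup R) (hL : ∀ l ∈ L, ∀ l' ∈ L, l * l' = 0) :
    Nat.card ↥(unitsOf L hL) = Nat.card ↥L := by
  let f : ↥(unitsOf L hL) → ↥L := fun u => ⟨((u : Rˣ) : R) - 1, u.2⟩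
  have hinj : Function.Injective f := by
    intro a b hab
    have h1 : ((a : Rˣ) : R) - 1 = ((b : Rˣ) : R) - 1 := congrArg Subtype.val hab
    have h2 : ((a : Rˣ) : R) = ((b : Rˣ) : R) := sub_left_injective h1
    exact Subtype.ext (Units.ext h2)
  have hsurj : Function.Surjective f := by
    rintro ⟨l, hl⟩
    obtain ⟨u, hu, hul⟩ := exists_unit_of_mem L hL l hl
    exact ⟨⟨u, hu⟩, Subtype.ext hul⟩
  exact Nat.card_congr (Equiv.ofBijective f ⟨hinj, hsurj⟩)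

/-- The terms of the potential of `A`, in terms of `A - 1`. -/
theorem card_pot_addSub (A : Subgroup Rˣ) (hA : Quad A) (E : AddSubgroup R) :
    Nat.card {a : Rˣ // a ∈ A ∧ (a : R) - 1 ∈ E} = Nat.card ↥(addSub A hA ⊓ E) := by
  let f : {a : Rˣ // a ∈ A ∧ (a : R) - 1 ∈ E} → ↥(addSub A hA ⊓ E) :=
    fun a => ⟨((a : Rˣ) : R) - 1, ⟨⟨a, a.2.1, rfl⟩, a.2.2⟩⟩
  have hinj : Function.Injective f := by
    intro a b hab
    have h1 : ((a : Rˣ) : R) - 1 = ((b : Rˣ) : R) - 1 := congrArg Subtype.val hab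
    have h2 : ((a : Rˣ) : R) = ((b : Rˣ) : R) := sub_left_injective h1
    exact Subtype.ext (Units.ext h2)
  have hsurj : Function.Surjective f := by
    rintro ⟨r, ⟨a, ha, rfl⟩, hr⟩
    exact ⟨⟨a, ha, hr⟩, rfl⟩
  exact Nat.card_congr (Equiv.ofBijective f ⟨hinj, hsurj⟩)

/-- The terms of the potential of `1 + L`, in terms of `L`. -/
theorem card_pot_unitsOf (L : AddSubgroup R) (hL : ∀ l ∈ L, ∀ l' ∈ L, l * l' = 0)
    (E : AddSubgroup R) :
    Nat.card {a : Rˣ // a ∈ unitsOf L hL ∧ (a : R) - 1 ∈ E} = Nat.card ↥(L ⊓ E) := by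
  let f : {a : Rˣ // a ∈ unitsOf L hL ∧ (a : R) - 1 ∈ E} → ↥(L ⊓ E) :=
    fun a => ⟨((a : Rˣ) : R) - 1, ⟨a.2.1, a.2.2⟩⟩
  have hinj : Function.Injective f := by
    intro a b hab
    have h1 : ((a : Rˣ) : R) - 1 = ((b : Rˣ) : R) - 1 := congrArg Subtype.val hab
    have h2 : ((a : Rˣ) : R) = ((b : Rˣ) : R) := sub_left_injective h1
    exact Subtype.ext (Units.ext h2)
  have hsurj : Function.Surjective f := by
    rintro ⟨l, hl, hlE⟩
    obtain ⟨u, hu, hul⟩ := exists_unit_of_mem L hL l hl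
    exact ⟨⟨u, hu, by rw [hul]; exact hlE⟩, Subtype.ext hul⟩
  exact Nat.card_congr (Equiv.ofBijective f ⟨hinj, hsurj⟩)

/-- For a unit `x` with `(x - 1)^2 = 0`, the inverse is `1 - (x - 1)`. -/
theorem inv_val_of_sq_zero (x : Rˣ) (hxq : ((x : R) - 1) * ((x : R) - 1) = 0) :
    ((x⁻¹ : Rˣ) : R) = 1 - ((x : R) - 1) := by
  apply Units.inv_eq_of_mul_eq_one_right
  have : (x : R) * (1 - ((x : R) - 1)) = 1 - ((x : R) - 1) * ((x : R) - 1) := by noncomm_ring
  rw [this, hxq, sub_zero]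

/-- If `x⁻¹ A x ⊆ A` for a finite subgroup `A`, then `x` normalizes `A`. -/
theorem mem_normalizer_of_conj_mem {Γ : Type*} [Group Γ] (A : Subgroup Γ) [Finite ↥A] (x : Γ)
    (h : ∀ a ∈ A, x⁻¹ * a * x ∈ A) : x ∈ Subgroup.normalizer (A : Set Γ) := by
  rw [Subgroup.mem_normalizer_iff]
  let f : ↥A → ↥A := fun a => ⟨x⁻¹ * (a : Γ) * x, h a a.2⟩
  have hinj : Function.Injective f := by
    intro a b hab
    have h1 : x⁻¹ * (a : Γ) * x = x⁻¹ * (b : Γ) * x := congrArg Subtype.val hab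
    apply Subtype.ext
    have h2 := mul_right_cancel h1
    exact mul_left_cancel h2
  have hsurj := Finite.surjective_of_injective hinj
  intro g
  constructor
  · intro hg
    obtain ⟨a, ha⟩ := hsurj ⟨g, hg⟩
    have h1 : x⁻¹ * (a : Γ) * x = g := congrArg Subtype.val ha
    have h2 : x * g * x⁻¹ = (a : Γ) := by rw [← h1]; group
    rw [h2]
    exact a.2
  · intro hg
    have h1 := h _ hg
    have h2 : x⁻¹ * (x * g * x⁻¹) * x = g := by group
    rwa [h2] at h1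

end ring

section main

variable {V : Type*} [AddCommGroup V] [Finite V]

omit [Finite V] in
/-- The fixed points of `A`, in terms of `A - 1`. -/
theorem fix_addSub (A : Subgroup (AddMonoid.End V)ˣ) (hA : Quad A) (v : V) :
    v ∈ Cfsg.Agent.Lib.helper74.QO.Fix A ↔ ∀ w ∈ addSub A hA, w v = 0 := by
  constructor
  · rintro hv w ⟨a, ha, rfl⟩
    have h1 := hv a ha
    show ((a : (AddMonoid.End V)ˣ) : AddMonoid.End V) v - (1 : AddMonoid.End V) v = 0
    rw [h1, AddMonoid.End.one_apply, sub_self]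
  · intro hv a ha
    have h1 := hv _ ⟨a, ha, rfl⟩
    have h2 : ((a : (AddMonoid.End V)ˣ) : AddMonoid.End V) v - (1 : AddMonoid.End V) v = 0 := h1
    rw [AddMonoid.End.one_apply] at h2
    exact sub_eq_zero.mp h2

omit [Finite V] in
/-- The fixed points of `1 + L`, in terms of `L`. -/
theorem fix_unitsOf (L : AddSubgroup (AddMonoid.End V))
    (hL : ∀ l ∈ L, ∀ l' ∈ L, l * l' = 0) (v : V) :
    v ∈ Cfsg.Agent.Lib.helper74.QO.Fix (unitsOf L hL) ↔ ∀ l ∈ L, l v = 0 := by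
  constructor
  · intro hv l hl
    obtain ⟨u, hu, hul⟩ := exists_unit_of_mem L hL l hl
    have h1 := hv u hu
    rw [← hul]
    show ((u : (AddMonoid.End V)ˣ) : AddMonoid.End V) v - (1 : AddMonoid.End V) v = 0
    rw [h1, AddMonoid.End.one_apply, sub_self]
  · intro hv u hu
    have h1 := hv _ hu
    have h2 : ((u : (AddMonoid.End V)ˣ) : AddMonoid.End V) v - (1 : AddMonoid.End V) v = 0 := h1
    rw [AddMonoid.End.one_apply] at h2
    exact sub_eq_zero.mp h2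

/-- **Piece REP, modulo L1, L2, L5a, L5b, L6c, L7.** -/
theorem replacement_of (p : ℕ) [Fact p.Prime]
    (hp2 : p ≠ 2) (hV : ∀ v : V, p • v = 0) (𝔾 : Subgroup (AddMonoid.End V)ˣ)
    (E : ℕ → AddSubgroup (AddMonoid.End V)) (n : ℕ) (hn : E n = ⊥)
    (hmono : ∀ i, E (i + 1) ≤ E i)
    (hE1 : ∀ g ∈ 𝔾, ((g : (AddMonoid.End V)ˣ) : AddMonoid.End V) - 1 ∈ E 1)
    (hEm : ∀ i, ∀ e ∈ E i, ∀ g ∈ 𝔾,
        (((g : (AddMonoid.End V)ˣ) : AddMonoid.End V) - 1) * e ∈ E (i + 1) ∧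
        e * (((g : (AddMonoid.End V)ˣ) : AddMonoid.End V) - 1) ∈ E (i + 1))
    (A : Subgroup (AddMonoid.End V)ˣ) (hA𝔾 : A ≤ 𝔾) (hA : Quad A)
    (x : (AddMonoid.End V)ˣ) (hx : x ∈ 𝔾)
    (hxq : ((x : AddMonoid.End V) - 1) * ((x : AddMonoid.End V) - 1) = 0)
    (hN : ∀ s : ℤ, ∀ b ∈ A,
      x ^ s * b * x ^ (-s) ∈ Subgroup.normalizer (A : Set (AddMonoid.End V)ˣ))
    (hx' : x ∉ Subgroup.normalizer (A : Set (AddMonoid.End V)ˣ))
    -- L1
    (h1 : ∀ (W : AddSubgroup (AddMonoid.End V)) (ξ : AddMonoid.End V), ξ * ξ = 0 →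
      (∀ w ∈ W, ∀ w' ∈ W, w * w' = 0) → ∀ l ∈ lim W ξ, ∀ l' ∈ lim W ξ, l * l' = 0)
    -- L2
    (h2 : ∀ (W : AddSubgroup (AddMonoid.End V)) (ξ : AddMonoid.End V), ξ * ξ = 0 →
      Nat.card ↥(lim W ξ) = Nat.card ↥W)
    -- L5a
    (h5a : ∀ (W : AddSubgroup (AddMonoid.End V)) (ξ : AddMonoid.End V)
      (E' : AddSubgroup (AddMonoid.End V)), (∀ e ∈ E', ξ * e ∈ E' ∧ e * ξ ∈ E') →
      Nat.card ↥(lim (W ⊓ E') ξ) = Nat.card ↥(W ⊓ E') →
      Nat.card ↥(W ⊓ E') ≤ Nat.card ↥(lim W ξ ⊓ E'))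
    -- L5b
    (h5b : ∀ (W : AddSubgroup (AddMonoid.End V)) (ξ : AddMonoid.End V)
      (E' : ℕ → AddSubgroup (AddMonoid.End V)) (n' : ℕ), E' n' = ⊥ →
      (∀ i, E' (i + 1) ≤ E' i) → W ≤ E' 0 →
      (∀ i, ∀ e ∈ E' i, ξ * e ∈ E' (i + 1) ∧ e * ξ ∈ E' (i + 1)) →
      Nat.card ↥(lim W ξ) = Nat.card ↥W →
      (∀ i, Nat.card ↥(lim W ξ ⊓ E' i) ≤ Nat.card ↥(W ⊓ E' i)) →
      ∀ w ∈ W, (1 - ξ) * w * (1 + ξ) ∈ W)
    -- L6c
    (h6c : ∀ (H B : Subgroup (AddMonoid.End V)ˣ) (hB : Quad B), B ≤ H →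
      ∀ y : (AddMonoid.End V)ˣ, y ∈ H →
      ((y : AddMonoid.End V) - 1) * ((y : AddMonoid.End V) - 1) = 0 →
      ∀ k : ℕ, ((2 * k : ℕ) : AddMonoid.End V) = 1 →
      (∀ s : ℤ, ∀ b ∈ B,
        y ^ s * b * y ^ (-s) ∈ Subgroup.normalizer (B : Set (AddMonoid.End V)ˣ)) →
      ∀ l ∈ lim (addSub B hB) ((y : AddMonoid.End V) - 1),
        ∃ u ∈ H, ((u : (AddMonoid.End V)ˣ) : AddMonoid.End V) = 1 + l)
    -- L7
    (h7 : ∀ (W : AddSubgroup (AddMonoid.End V)) (ξ : AddMonoid.End V), ξ * ξ = 0 →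
      Nat.card {v : V // ∀ w ∈ W, w v = 0} ≤ Nat.card {v : V // ∀ l ∈ lim W ξ, l v = 0}) :
    ∃ A' : Subgroup (AddMonoid.End V)ˣ, A' ≤ 𝔾 ∧ Quad A' ∧ Nat.card A' = Nat.card A ∧
      Nat.card (Cfsg.Agent.Lib.helper74.QO.Fix A) ≤ Nat.card (Cfsg.Agent.Lib.helper74.QO.Fix A') ∧
      pot E n A < pot E n A' := by
  classical
  obtain ⟨W, hWdef⟩ : ∃ W : AddSubgroup (AddMonoid.End V), W = addSub A hA := ⟨_, rfl⟩
  obtain ⟨ξ, hξdef⟩ : ∃ ξ : AddMonoid.End V, ξ = (x : AddMonoid.End V) - 1 := ⟨_, rfl⟩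
  have hξ : ξ * ξ = 0 := by rw [hξdef]; exact hxq
  have hW : ∀ w ∈ W, ∀ w' ∈ W, w * w' = 0 := by
    rw [hWdef]
    rintro w ⟨a, ha, rfl⟩ w' ⟨a', ha', rfl⟩
    exact hA a ha a' ha'
  have hL : ∀ l ∈ lim W ξ, ∀ l' ∈ lim W ξ, l * l' = 0 := h1 W ξ hξ hW
  have hcL : Nat.card ↥(lim W ξ) = Nat.card ↥W := h2 W ξ hξ
  -- the number `k` with `2 k = 1`
  have hpodd : Odd p := (Fact.out : p.Prime).odd_of_ne_two hp2
  obtain ⟨m, hm⟩ := hpodd
  have hp0 : ((p : ℕ) : AddMonoid.End V) = 0 := by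
    ext v
    simp [hV]
  have hk : ((2 * (m + 1) : ℕ) : AddMonoid.End V) = 1 := by
    have e : 2 * (m + 1) = p + 1 := by omega
    rw [e, Nat.cast_add, hp0, zero_add, Nat.cast_one]
  refine ⟨unitsOf (lim W ξ) hL, ?_, ?_, ?_, ?_, ?_⟩
  · -- `A' ≤ 𝔾`
    intro u hu
    have hu' : ((u : (AddMonoid.End V)ˣ) : AddMonoid.End V) - 1 ∈ lim W ξ := hu
    rw [hWdef, hξdef] at hu'
    obtain ⟨u', hu'G, hu'e⟩ := h6c 𝔾 A hA hA𝔾 x hx hxq (m + 1) hk hN _ hu'
    have e : u = u' := by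
      apply Units.ext
      rw [hu'e]
      abel
    rw [e]
    exact hu'G
  · -- quadratic
    intro u hu u' hu'
    exact hL _ hu _ hu'
  · -- cardinality
    rw [card_unitsOf, hcL, hWdef, ← card_addSub]
  · -- fixed points
    have e1 : Nat.card ↥(Cfsg.Agent.Lib.helper74.QO.Fix A) = Nat.card {v : V // ∀ w ∈ W, w v = 0} := by
      apply Nat.card_congr
      apply Equiv.subtypeEquivRight
      intro v
      rw [hWdef]
      exact fix_addSub A hA v
    have e2 : Nat.card ↥(Cfsg.Agent.Lib.helper74.QO.Fix (unitsOf (lim W ξ) hL))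
        = Nat.card {v : V // ∀ l ∈ lim W ξ, l v = 0} := by
      apply Nat.card_congr
      apply Equiv.subtypeEquivRight
      intro v
      exact fix_unitsOf (lim W ξ) hL v
    rw [e1, e2]
    exact h7 W ξ hξ
  · -- potential
    have hEξ : ∀ i, ∀ e ∈ E i, ξ * e ∈ E (i + 1) ∧ e * ξ ∈ E (i + 1) := by
      intro i e he
      rw [hξdef]
      exact hEm i e he x hx
    have hterm : ∀ i, Nat.card {a : (AddMonoid.End V)ˣ // a ∈ A ∧ (a : AddMonoid.End V) - 1 ∈ E i}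
        = Nat.card ↥(W ⊓ E i) := by
      intro i
      rw [hWdef]
      exact card_pot_addSub A hA (E i)
    have hterm' : ∀ i, Nat.card {a : (AddMonoid.End V)ˣ //
        a ∈ unitsOf (lim W ξ) hL ∧ (a : AddMonoid.End V) - 1 ∈ E i}
        = Nat.card ↥(lim W ξ ⊓ E i) := fun i => card_pot_unitsOf (lim W ξ) hL (E i)
    have hle : ∀ i, Nat.card ↥(W ⊓ E i) ≤ Nat.card ↥(lim W ξ ⊓ E i) := by
      intro i
      apply h5a W ξ (E i)
      · intro e he
        exact ⟨hmono i (hEξ i e he).1, hmono i (hEξ i e he).2⟩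
      · exact h2 (W ⊓ E i) ξ hξ
    unfold pot
    apply Finset.sum_lt_sum
    · intro i _
      rw [hterm i, hterm' i]
      exact hle i
    · by_contra hcon
      push Not at hcon
      apply hx'
      have hbot : ∀ j, E (n + j) = ⊥ := by
        intro j
        induction j with
        | zero => exact hn
        | succ j ih =>
          have h3 := hmono (n + j)
          rw [ih] at h3
          exact le_bot_iff.mp h3
      have hcard : ∀ i, Nat.card ↥(lim W ξ ⊓ E i) ≤ Nat.card ↥(W ⊓ E i) := by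
        intro i
        by_cases hi : i < n
        · have h3 := hcon i (Finset.mem_range.mpr hi)
          rw [hterm i, hterm' i] at h3
          exact h3
        · obtain ⟨j, rfl⟩ : ∃ j, i = n + j := ⟨i - n, by omega⟩
          rw [hbot j, inf_bot_eq, inf_bot_eq]
      have hW0 : W ≤ E 0 := by
        rw [hWdef]
        rintro w ⟨a, ha, rfl⟩
        exact hmono 0 (hE1 a (hA𝔾 ha))
      have hconj := h5b W ξ E n hn hmono hW0 hEξ hcL hcard
      have hfin : Finite ↥A := inferInstance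
      apply mem_normalizer_of_conj_mem A x
      intro a ha
      have h3 := hconj (((a : (AddMonoid.End V)ˣ) : AddMonoid.End V) - 1)
        (by rw [hWdef]; exact ⟨a, ha, rfl⟩)
      rw [hWdef] at h3
      obtain ⟨a', ha', hae⟩ := h3
      have hxinv : ((x⁻¹ : (AddMonoid.End V)ˣ) : AddMonoid.End V) = 1 - ξ := by
        rw [hξdef]
        exact inv_val_of_sq_zero x hxq
      have hxval : ((x : (AddMonoid.End V)ˣ) : AddMonoid.End V) = 1 + ξ := by
        rw [hξdef]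
        abel
      have hxx : ((x⁻¹ : (AddMonoid.End V)ˣ) : AddMonoid.End V)
          * ((x : (AddMonoid.End V)ˣ) : AddMonoid.End V) = 1 := by simp
      have e : a' = x⁻¹ * a * x := by
        apply Units.ext
        have e1 : ((a' : (AddMonoid.End V)ˣ) : AddMonoid.End V)
            = (1 - ξ) * (((a : (AddMonoid.End V)ˣ) : AddMonoid.End V) - 1) * (1 + ξ) + 1 := by
          rw [← hae]
          abel
        rw [e1, Units.val_mul, Units.val_mul, ← hxinv, ← hxval]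
        have e2 : ((x⁻¹ : (AddMonoid.End V)ˣ) : AddMonoid.End V)
            * (((a : (AddMonoid.End V)ˣ) : AddMonoid.End V) - 1)
            * ((x : (AddMonoid.End V)ˣ) : AddMonoid.End V)
            = ((x⁻¹ : (AddMonoid.End V)ˣ) : AddMonoid.End V)
              * ((a : (AddMonoid.End V)ˣ) : AddMonoid.End V)
              * ((x : (AddMonoid.End V)ˣ) : AddMonoid.End V)
              - ((x⁻¹ : (AddMonoid.End V)ˣ) : AddMonoid.End V)
              * ((x : (AddMonoid.End V)ˣ) : AddMonoid.End V) := by noncomm_ring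
        rw [e2, hxx]
        abel
      rw [← e]
      exact ha'

end main

end Cfsg.Agent.Lib.helper86.QO
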