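import Mathlib
import Cfsg.Agent.Lib.helper86.IvDefs
import Cfsg.Agent.Lib.helper98.IvGEN
import Cfsg.Agent.Lib.helper13.IvQH
import Cfsg.Agent.Lib.helper46.IvQM
import Cfsg.Agent.Lib.helper43.IvQC
import Cfsg.Agent.Lib.helper9.IvCEN
import Cfsg.Agent.Lib.helper90.IvLAYERcore
import Cfsg.Agent.Lib.helper11.IvLAB
import Cfsg.Agent.Lib.helper29.IvLNAB

set_option autoImplicit false

namespace Cfsg.Agent.Lib.helper86.IV

theorem h86_one_mem_ivI {G : Type*} [Group G] (α : MulAut G) : (1 : G) ∈ ivI α := by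
  refine ⟨by simp, by simp⟩

theorem h86_center_inv {G : Type*} [Group G] (α : MulAut G) (h2 : ∀ g, α (α g) = g) (z : G)
    (hz : z ∈ Subgroup.center G) : α z ∈ Subgroup.center G := by
  rw [Subgroup.mem_center_iff] at hz ⊢
  intro g
  have h1 := hz (α g)
  have h3 := congrArg α h1
  rw [map_mul, map_mul, h2] at h3
  exact h3

/-- LAYER (architect's wrapper of `h90_iv_layer_core`). -/
theorem h86_iv_layer {G : Type*} [Group G] [Finite G] (α : MulAut G) (h : IvHyp α) (m B : ℕ)
    (hm : Nat.card (ivI α) ≤ m) (N : Subgroup G) [N.Normal] (hN : ∀ n ∈ N, α n ∈ N)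
    (hmin : ∀ L : Subgroup G, L.Normal → (∀ n ∈ L, α n ∈ L) → L ≤ N → L = ⊥ ∨ L = N)
    (hB : N.index ≤ B)
    (hne : ∃ x ∈ ivI α, ∃ x' ∈ ivI α, x ≠ x' ∧ x⁻¹ * x' ∈ N) : Nat.card N ≤ ivE m B :=
  h90_iv_layer_core m B N
    (fun hab => iv_layer_ab α h m B hm N hN hmin hB hne hab)
    (fun hnab => iv_layer_nab α h m B hm N hN hmin hB hnab)

/-- STEP : the induction step. -/
theorem iv_step {G : Type} [Group G] [Finite G] (α : MulAut G) (h : IvHyp α) (m b : ℕ) (hb1 : 1 ≤ b)
    (hb : ∀ (G' : Type) [Group G'] [Finite G'] (α' : MulAut G'), IvHyp α' →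
      Nat.card (ivI α') ≤ m → Nat.card G' ≤ b)
    (hm : Nat.card (ivI α) ≤ m + 1) :
    (Subgroup.center G).index ≤ b * ivE (m + 1) b := by
  have hE := one_le_ivE (m + 1) b
  have hbE : b ≤ b * ivE (m + 1) b := Nat.le_mul_of_pos_right b hE
  have hidxpos : ∀ K : Subgroup G, 0 < K.index := fun K =>
    Nat.pos_of_ne_zero Subgroup.index_ne_zero_of_finite
  by_cases hcase : Nat.card (ivI α) ≤ m
  · have h1 : Nat.card G ≤ b := hb G α h hcase
    have h2 : (Subgroup.center G).index ≤ Nat.card G :=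
      Nat.le_of_dvd Nat.card_pos (Subgroup.index_dvd_card _)
    omega
  by_cases hex : ∃ x ∈ ivI α, ∃ x' ∈ ivI α, x ≠ x'
  swap
  · -- ivI α = {1}, so G is trivial
    have hI : ivI α ⊆ ({1} : Set G) := by
      intro x hx
      by_contra hx1
      exact hex ⟨x, hx, 1, h86_one_mem_ivI α, hx1⟩
    have hgen := iv_gen α h
    have htop : (⊤ : Subgroup G) ≤ ⊥ := by
      rw [← hgen, Subgroup.closure_le]
      intro x hx
      have := hI hx
      simp only [Set.mem_singleton_iff] at this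
      simp [this]
    have hc : Subgroup.center G = ⊤ := by
      rw [eq_top_iff]
      intro g _
      have hg : g ∈ (⊥ : Subgroup G) := htop (Subgroup.mem_top g)
      rw [Subgroup.mem_bot] at hg
      rw [hg]
      exact Subgroup.one_mem _
    rw [hc, Subgroup.index_top]
    omega
  -- the family
  let P : Subgroup G → Prop := fun N => N.Normal ∧ (∀ n ∈ N, α n ∈ N) ∧
    ∃ x ∈ ivI α, ∃ x' ∈ ivI α, x ≠ x' ∧ x⁻¹ * x' ∈ N
  have hPtop : P ⊤ := by
    obtain ⟨x, hx, x', hx', hne⟩ := hex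
    exact ⟨inferInstance, fun n _ => Subgroup.mem_top _, x, hx, x', hx', hne, Subgroup.mem_top _⟩
  obtain ⟨N, hNP, hNmin⟩ := (wellFounded_lt : WellFounded
    ((· < ·) : Subgroup G → Subgroup G → Prop)).has_min {N | P N} ⟨⊤, hPtop⟩
  obtain ⟨hNnormal, hNinv, x, hx, x', hx', hxx', hxN⟩ := hNP
  have := hNnormal
  -- the quotient by N is bounded
  have hNidx : N.index ≤ b := by
    have h1 := (iv_quot_card α h.invol N hNinv).2 ⟨x, hx, x', hx', hxx', hxN⟩
    have h2 : Nat.card (G ⧸ N) ≤ b :=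
      hb (G ⧸ N) (ivQ α h.invol N hNinv) (helper13_iv_quot_hyp α h N hNinv) (by omega)
    exact h2
  by_cases hNc : N ≤ Subgroup.center G
  · have h1 : (Subgroup.center G).index ≤ N.index :=
      Nat.le_of_dvd (hidxpos N) (Subgroup.index_dvd_of_le hNc)
    omega
  -- M := N ⊓ center
  set M : Subgroup G := N ⊓ Subgroup.center G with hMdef
  have hMnormal : M.Normal := by rw [hMdef]; infer_instance
  have hMinv : ∀ n ∈ M, α n ∈ M := by
    intro n hn
    exact ⟨hNinv n hn.1, h86_center_inv α h.invol n hn.2⟩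
  have hMle : M ≤ N := inf_le_left
  have hMc : M ≤ Subgroup.center G := inf_le_right
  have hMlt : M < N := by
    refine lt_of_le_of_ne hMle ?_
    intro hMN
    exact hNc (hMN ▸ hMc)
  -- proper α-invariant normal subgroups of N are central
  have hprop : ∀ L : Subgroup G, L.Normal → (∀ n ∈ L, α n ∈ L) → L < N →
      ∀ y ∈ ivI α, ∀ y' ∈ ivI α, y⁻¹ * y' ∈ L → y = y' := by
    intro L hLn hLinv hLlt y hy y' hy' hyL
    by_contra hne
    exact hNmin L ⟨hLn, hLinv, y, hy, y', hy', hne, hyL⟩ hLlt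
  have hinjM := hprop M hMnormal hMinv hMlt
  -- the quotient by M
  let π : G →* G ⧸ M := QuotientGroup.mk' M
  have hπsurj : Function.Surjective π := QuotientGroup.mk'_surjective M
  let αh : MulAut (G ⧸ M) := ivQ α h.invol M hMinv
  have hαh : IvHyp αh := helper13_iv_quot_hyp α h M hMinv
  have hαπ : ∀ g : G, αh (π g) = π (α g) := fun g => ivQ_mk α h.invol M hMinv g
  set Nh : Subgroup (G ⧸ M) := N.map π with hNhdef
  have hNhnormal : Nh.Normal := Subgroup.Normal.map hNnormal π hπsurj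
  have hNhinv : ∀ y ∈ Nh, αh y ∈ Nh := by
    rintro y ⟨n, hn, rfl⟩
    rw [hαπ]
    exact Subgroup.mem_map_of_mem π (hNinv n hn)
  have hNhidx : Nh.index ≤ b := by
    have : Nh.index = N.index := by
      rw [hNhdef]
      apply Subgroup.index_map_eq N hπsurj
      rw [QuotientGroup.ker_mk']
      exact hMle
    omega
  have hmin : ∀ L : Subgroup (G ⧸ M), L.Normal → (∀ n ∈ L, αh n ∈ L) → L ≤ Nh →
      L = ⊥ ∨ L = Nh := by
    intro Lh hLhn hLhinv hLhle
    have hLn : (Lh.comap π).Normal := Subgroup.Normal.comap hLhn π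
    have hLinv : ∀ n ∈ Lh.comap π, α n ∈ Lh.comap π := by
      intro n hn
      rw [Subgroup.mem_comap] at hn ⊢
      rw [← hαπ]
      exact hLhinv _ hn
    have hLle : Lh.comap π ≤ N := by
      intro n hn
      rw [Subgroup.mem_comap] at hn
      obtain ⟨n', hn', hnn'⟩ := hLhle hn
      have h1 : n'⁻¹ * n ∈ M := by
        have : (QuotientGroup.mk n' : G ⧸ M) = QuotientGroup.mk n := hnn'
        exact QuotientGroup.eq.mp this
      have h2 : n = n' * (n'⁻¹ * n) := by group
      rw [h2]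
      exact N.mul_mem hn' (hMle h1)
    have hmapcomap : (Lh.comap π).map π = Lh := Subgroup.map_comap_eq_self_of_surjective hπsurj Lh
    by_cases hLN : Lh.comap π = N
    · right
      rw [← hmapcomap, hLN]
    · left
      have hLlt : Lh.comap π < N := lt_of_le_of_ne hLle hLN
      have := hLn
      have hLc : Lh.comap π ≤ Subgroup.center G :=
        iv_central α h (Lh.comap π) hLinv (hprop _ hLn hLinv hLlt)
      have hLM : Lh.comap π ≤ M := le_inf hLle hLc
      rw [← hmapcomap, eq_bot_iff]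
      calc (Lh.comap π).map π ≤ M.map π := Subgroup.map_mono hLM
        _ = ⊥ := QuotientGroup.map_mk'_self M
  have hneh : ∃ y ∈ ivI αh, ∃ y' ∈ ivI αh, y ≠ y' ∧ y⁻¹ * y' ∈ Nh := by
    refine ⟨π x, iv_quot_mem α h.invol M hMinv x hx, π x', iv_quot_mem α h.invol M hMinv x' hx',
      ?_, ?_⟩
    · intro hEq
      have h1 : x⁻¹ * x' ∈ M := QuotientGroup.eq.mp hEq
      exact hxx' (hinjM x hx x' hx' h1)
    · have : (π x)⁻¹ * π x' = π (x⁻¹ * x') := by simp
      rw [this]
      exact Subgroup.mem_map_of_mem π hxN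
  have hcardh : Nat.card (ivI αh) ≤ m + 1 :=
    le_trans (iv_quot_card α h.invol M hMinv).1 hm
  have hlayer : Nat.card Nh ≤ ivE (m + 1) b :=
    h86_iv_layer αh hαh (m + 1) b hcardh Nh hNhinv hmin hNhidx hneh
  have h1 : (Subgroup.center G).index ≤ M.index :=
    Nat.le_of_dvd (hidxpos M) (Subgroup.index_dvd_of_le hMc)
  have h2 : M.index = Nat.card Nh * Nh.index := by
    rw [Subgroup.card_mul_index]
    rfl
  calc (Subgroup.center G).index ≤ M.index := h1
    _ = Nat.card Nh * Nh.index := h2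
    _ ≤ ivE (m + 1) b * b := Nat.mul_le_mul hlayer hNhidx
    _ = b * ivE (m + 1) b := Nat.mul_comm _ _

end Cfsg.Agent.Lib.helper86.IV
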