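import Cfsg.Agent.Lib.helper86.CharTop

/-!
# Existence of a characteristic biset for a saturated fusion system (helper86)

`exists_char`: for a saturated fusion system `F` over a finite `p`-group `S` there is a multiplicity
function `k` on the subgroups of `S × S`, supported on the twisted diagonals of `F`, whose marks at
twisted diagonals `tw S Q χ` depend only on the `F`-conjugacy class of `Q` (`StableAbove F k 0`),
and with `mark k ⊥ = #S * r`, `p ∤ r` (Broto–Levi–Oliver).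
-/

set_option autoImplicit false

namespace Cfsg.Agent.Lib.helper86

open Cfsg Cfsg.FusionSystem Cfsg.Agent.Lib.helper88

variable {Ω : Type*} [Group Ω] {S : Subgroup Ω}

/-- the source of a twisted diagonal. -/
def src (D : Subgroup (S × S)) : Subgroup Ω := (D.map (MonoidHom.snd S S)).map S.subtype

theorem src_tw (F : FusionSystem S) {Q : Subgroup Ω} {χ : Q →* Ω} (hχ : χ ∈ F.Hom Q) :
    src (tw S Q χ) = Q := by
  obtain ⟨hQS, hχS⟩ := F.le_of_mem hχ
  ext u
  constructor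
  · rintro ⟨_, ⟨x, hx, rfl⟩, rfl⟩
    exact hx.fst
  · intro hu
    exact ⟨⟨u, hQS hu⟩, ⟨(⟨χ ⟨u, hu⟩, hχS _⟩, ⟨u, hQS hu⟩), ⟨hu, rfl⟩, rfl⟩, rfl⟩

/-- a fully normalized representative of the `F`-class of `Q`, depending only on the class. -/
noncomputable def repOf (F : FusionSystem S) (Q : Subgroup Ω) : Subgroup Ω :=
  Classical.epsilon (fun P => F.IsConj Q P ∧ F.IsFullyNormalized P)

theorem repOf_spec [Finite S] (F : FusionSystem S) {Q : Subgroup Ω} (hQ : Q ≤ S) :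
    F.IsConj Q (repOf F Q) ∧ F.IsFullyNormalized (repOf F Q) :=
  Classical.epsilon_spec (exists_fullyNormalized_conj F hQ)

theorem repOf_eq (F : FusionSystem S) {Q Q' : Subgroup Ω} (h : F.IsConj Q Q') :
    repOf F Q = repOf F Q' := by
  unfold repOf
  congr 1
  funext P
  apply propext
  constructor
  · rintro ⟨h1, h2⟩
    exact ⟨isConj_trans F (isConj_symm F h) h1, h2⟩
  · rintro ⟨h1, h2⟩
    exact ⟨isConj_trans F h h1, h2⟩

theorem isConj_of_cj_tw (F : FusionSystem S) {Q Q' : Subgroup Ω} {χ : Q →* Ω} {χ' : Q' →* Ω}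
    (hχ : χ ∈ F.Hom Q) (hχ' : χ' ∈ F.Hom Q') (g : S × S)
    (h : cj g (tw S Q χ) = tw S Q' χ') : F.IsConj Q Q' := by
  obtain ⟨hQS, hχS⟩ := F.le_of_mem hχ
  obtain ⟨hQ'S, hχ'S⟩ := F.le_of_mem hχ'
  refine ⟨conjHom Q g.2, F.conj_mem hQS g.2.2, ?_⟩
  ext y
  constructor
  · rintro ⟨u, rfl⟩
    have e : conjHom Q (g.2 : Ω) u = g.2 * u * (g.2 : Ω)⁻¹ := by simp [conjHom]
    have e1 : (g.2 : Ω)⁻¹ * ((g.2 : Ω) * u * (g.2 : Ω)⁻¹) * g.2 = u := by group
    have hx : ((g.1 * ⟨χ u, hχS u⟩ * g.1⁻¹, g.2 * ⟨u, hQS u.2⟩ * g.2⁻¹) : S × S) ∈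
        cj g (tw S Q χ) := by
      rw [mem_cj_tw]
      have hmem : (g.2 : Ω)⁻¹ * ((g.2 : Ω) * u * (g.2 : Ω)⁻¹) * g.2 ∈ Q := by
        rw [e1]
        exact u.2
      refine ⟨hmem, ?_⟩
      show χ ⟨(g.2 : Ω)⁻¹ * ((g.2 : Ω) * u * (g.2 : Ω)⁻¹) * g.2, hmem⟩ =
        (g.1 : Ω)⁻¹ * ((g.1 : Ω) * χ u * (g.1 : Ω)⁻¹) * g.1
      have e2 : (⟨(g.2 : Ω)⁻¹ * ((g.2 : Ω) * u * (g.2 : Ω)⁻¹) * g.2, hmem⟩ : Q) = u :=
        Subtype.ext e1
      rw [e2]
      group
    rw [h] at hx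
    rw [e]
    exact hx.fst
  · intro hy
    have hx : ((⟨χ' ⟨y, hy⟩, hχ'S _⟩, ⟨y, hQ'S hy⟩) : S × S) ∈ tw S Q' χ' := ⟨hy, rfl⟩
    rw [← h, mem_cj_tw] at hx
    obtain ⟨h1, _⟩ := hx
    refine ⟨⟨_, h1⟩, ?_⟩
    have e : conjHom Q (g.2 : Ω) ⟨(g.2 : Ω)⁻¹ * y * g.2, h1⟩ =
        g.2 * ((g.2 : Ω)⁻¹ * y * g.2) * (g.2 : Ω)⁻¹ := by simp [conjHom]
    rw [e]
    group

section Main

variable [Finite S] [Fintype (Subgroup (S × S))]

theorem mark_zero' (E : Subgroup (S × S)) : mark (0 : Subgroup (S × S) → ℕ) E = 0 := by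
  unfold mark
  simp

theorem lvl_anti (F : FusionSystem S) (n : ℕ) :
    ∀ D ∈ lvl F n, ∀ E ∈ lvl F n, om E D ≠ 0 → ∃ g : S × S, E = cj g D :=
  fun D hD E hE h => exists_conj_of_om_ne_zero
    ((card_of_mem_lvl F n hE).trans (card_of_mem_lvl F n hD).symm) h

theorem index_of_mem_lvl (F : FusionSystem S) (n : ℕ) {D : Subgroup (S × S)} (h : D ∈ lvl F n) :
    D.index * n = Nat.card S * Nat.card S := by
  rw [← card_of_mem_lvl F n h, mul_comm, Subgroup.card_mul_index, Nat.card_prod]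

theorem exists_top {p : ℕ} [Fact p.Prime] (hS : IsPGroup p S) (F : FusionSystem S)
    (hF : F.IsSaturated p) :
    ∃ k : Subgroup (S × S) → ℕ, (∀ D, k D ≠ 0 → D ∈ twSet F) ∧
      StableAbove F k (Nat.card S - 1) ∧ ∃ r, mark k ⊥ = Nat.card S * r ∧ ¬ p ∣ r := by
  classical
  have hT : ∀ D ∈ lvl F (Nat.card S),
      mark (0 : Subgroup (S × S) → ℕ) D ≤ Nat.card (Subgroup.center S) ∧
        om D D ∣ Nat.card (Subgroup.center S) - mark (0 : Subgroup (S × S) → ℕ) D := by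
    rintro D ⟨Q, χ, hχ, hn, rfl⟩
    rw [mark_zero']
    refine ⟨Nat.zero_le _, ?_⟩
    rw [Nat.sub_zero]
    have hQ : Q = S := eq_top_of_card (F.le_of_mem hχ).1 hn.ge
    subst hQ
    exact om_top_dvd F hχ
  obtain ⟨d, hd1, hd2⟩ := exists_adjust (lvl F (Nat.card S)) (Nat.card (Subgroup.center S))
    (lvl_anti F _) _ 0 hT rfl
  simp only [zero_add] at hd2
  have hpos : 0 < Nat.card S := Nat.card_pos
  refine ⟨d, fun D h => lvl_sub_twSet F _ (hd1 D h), ?_,
    ∑ D ∈ Finset.univ.filter (fun D => D ∈ lvl F (Nat.card S)), d D, ?_, ?_⟩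
  · intro Q Q' χ χ' hχ hχ' hconj hlt
    have hcQ : Nat.card Q = Nat.card S := by
      have := Subgroup.card_le_of_le (F.le_of_mem hχ).1
      omega
    have hcQ' : Nat.card Q' = Nat.card S := by rw [card_eq_of_isConj F hconj, hcQ]
    rw [hd2 _ ⟨Q, χ, hχ, hcQ, rfl⟩, hd2 _ ⟨Q', χ', hχ', hcQ', rfl⟩]
  · unfold mark
    rw [Finset.mul_sum, Finset.sum_filter]
    refine Finset.sum_congr rfl (fun D _ => ?_)
    by_cases hD : D ∈ lvl F (Nat.card S)
    · rw [if_pos hD, om_bot, mul_comm]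
      congr 1
      exact Nat.eq_of_mul_eq_mul_right hpos (index_of_mem_lvl F _ hD)
    · rw [if_neg hD]
      have h0 : d D = 0 := by
        by_contra h
        exact hD (hd1 D h)
      rw [h0, zero_mul]
  · obtain ⟨r₀, hr₀, hcard⟩ := card_autGroup_top hS F hF
    have hsum := sum_mark_family (Finset.univ.filter (fun D => D ∈ lvl F (Nat.card S)))
      (Nat.card S) (fun D hD => card_of_mem_lvl F _ (Finset.mem_filter.1 hD).2)
      (fun D hD g => Finset.mem_filter.2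
        ⟨Finset.mem_univ _, cj_mem_lvl F _ (Finset.mem_filter.1 hD).2 g⟩)
      d (fun D h => Finset.mem_filter.2 ⟨Finset.mem_univ _, hd1 D h⟩)
    have h1 : ∑ E ∈ Finset.univ.filter (fun D => D ∈ lvl F (Nat.card S)),
        mark d E * Nat.card S =
        (Finset.univ.filter (fun D => D ∈ lvl F (Nat.card S))).card *
          (Nat.card (Subgroup.center S) * Nat.card S) := by
      rw [Finset.sum_congr rfl (fun E hE => by rw [hd2 E (Finset.mem_filter.1 hE).2]),
        Finset.sum_const, smul_eq_mul]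
    have h2 : (Finset.univ.filter (fun D => D ∈ lvl F (Nat.card S))).card =
        Nat.card (F.autGroup S) := by
      rw [← card_lvl_top F, Nat.card_eq_fintype_card (α := lvl F (Nat.card S)),
        Fintype.card_subtype]
    rw [h1, h2, Nat.card_prod, ← mul_assoc, hcard] at hsum
    have h3 : Nat.card S * Nat.card S * r₀ = Nat.card S * Nat.card S *
        ∑ D ∈ Finset.univ.filter (fun D => D ∈ lvl F (Nat.card S)), d D := by
      rw [← hsum]
      ring
    rw [← Nat.eq_of_mul_eq_mul_left (Nat.mul_pos hpos hpos) h3]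
    exact hr₀

theorem exists_step {p : ℕ} [Fact p.Prime] (hS : IsPGroup p S) (F : FusionSystem S)
    (hF : F.IsSaturated p) (n : ℕ) (hn : n < Nat.card S) (k : Subgroup (S × S) → ℕ)
    (hk1 : ∀ D, k D ≠ 0 → D ∈ twSet F) (hst : StableAbove F k n) (r : ℕ)
    (hr : mark k ⊥ = Nat.card S * r) (hpr : ¬ p ∣ r) :
    ∃ k' : Subgroup (S × S) → ℕ, (∀ D, k' D ≠ 0 → D ∈ twSet F) ∧ StableAbove F k' (n - 1) ∧
      ∃ r', mark k' ⊥ = Nat.card S * r' ∧ ¬ p ∣ r' := by
  classical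
  obtain ⟨T, hTdef⟩ : ∃ T : Subgroup (S × S) → ℕ, T = fun D =>
      Nat.card (S × S) * mark k ⊥ +
        mark k (tw S (repOf F (src D)) (repOf F (src D)).subtype) := ⟨_, rfl⟩
  have hTtw : ∀ {Q : Subgroup Ω} {χ : Q →* Ω} (hχ : χ ∈ F.Hom Q), T (tw S Q χ) =
      Nat.card (S × S) * mark k ⊥ + mark k (tw S (repOf F Q) (repOf F Q).subtype) := by
    intro Q χ hχ
    rw [hTdef]
    dsimp only
    rw [src_tw F hχ]
  have hTconj : ∀ {Q Q' : Subgroup Ω} {χ : Q →* Ω} {χ' : Q' →* Ω}, χ ∈ F.Hom Q →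
      χ' ∈ F.Hom Q' → F.IsConj Q Q' → T (tw S Q χ) = T (tw S Q' χ') := by
    intro Q Q' χ χ' hχ hχ' h
    rw [hTtw hχ, hTtw hχ', repOf_eq F h]
  have hTinv : ∀ D ∈ lvl F n, ∀ g : S × S, cj g D ∈ lvl F n → T (cj g D) = T D := by
    rintro D ⟨Q, χ, hχ, -, rfl⟩ g ⟨Q', χ', hχ', -, hE⟩
    rw [hE]
    exact (hTconj hχ hχ' (isConj_of_cj_tw F hχ hχ' g hE)).symm
  have hT : ∀ D ∈ lvl F n, mark k D ≤ T D ∧ om D D ∣ T D - mark k D := by
    rintro D ⟨Q, χ, hχ, hQn, rfl⟩
    have hle : mark k (tw S Q χ) ≤ T (tw S Q χ) := by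
      rw [hTtw hχ]
      have h1 := mark_le_bot k (tw S Q χ)
      have h2 : mark k ⊥ ≤ Nat.card (S × S) * mark k ⊥ :=
        Nat.le_mul_of_pos_left _ Nat.card_pos
      omega
    refine ⟨hle, ?_⟩
    obtain ⟨hc, hfn⟩ := repOf_spec F (F.le_of_mem hχ).1
    have hcong := mark_cong F k hS hF hk1 hχ (by rw [hQn]; exact hst) hfn hc
    rw [← Nat.modEq_iff_dvd' hle, hTtw hχ]
    have h0 : Nat.card (S × S) * mark k ⊥ ≡ 0 [MOD om (tw S Q χ) (tw S Q χ)] :=
      (Nat.modEq_zero_iff_dvd).2 (Dvd.dvd.mul_right (om_self_dvd_card _) _)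
    have h3 := h0.add hcong.symm
    rw [zero_add] at h3
    exact h3.symm
  obtain ⟨d, hd1, hd2⟩ := exists_adjust_fun (lvl F n) T (lvl_anti F n) hTinv _ k hT rfl
  refine ⟨k + d, ?_, ?_, ?_⟩
  · intro D hD
    by_cases h : d D = 0
    · apply hk1
      intro h0
      apply hD
      rw [Pi.add_apply, h0, h]
    · exact lvl_sub_twSet F n (hd1 D h)
  · intro Q Q' χ χ' hχ hχ' hconj hlt
    by_cases hlev : Nat.card Q = n
    · have hlev' : Nat.card Q' = n := by rw [card_eq_of_isConj F hconj, hlev]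
      rw [hd2 _ ⟨Q, χ, hχ, hlev, rfl⟩, hd2 _ ⟨Q', χ', hχ', hlev', rfl⟩]
      exact hTconj hχ hχ' hconj
    · have hgt : n < Nat.card Q := by omega
      have hz : ∀ E : Subgroup (S × S), n < Nat.card E → mark d E = 0 := by
        intro E hE
        apply mark_eq_zero_of
        intro D₁ hD₁
        by_contra h0
        have h1 := card_le_of_om_ne_zero h0
        have h2 := card_of_mem_lvl F n (hd1 D₁ hD₁)
        omega
      rw [mark_add, mark_add, hz _ (by rw [card_tw F hχ]; exact hgt),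
        hz _ (by rw [card_tw F hχ', card_eq_of_isConj F hconj]; exact hgt),
        hst Q Q' χ χ' hχ hχ' hconj hgt]
  · have hdvd : Nat.card S * p ∣ mark d ⊥ := by
      unfold mark
      apply Finset.dvd_sum
      intro D _
      by_cases h : d D = 0
      · rw [h, zero_mul]
        exact dvd_zero _
      · apply Dvd.dvd.mul_left
        rw [om_bot]
        have hidx := index_of_mem_lvl F n (hd1 D h)
        obtain ⟨Q, χ, hχ, hQn, rfl⟩ := hd1 D h
        have hQS := (F.le_of_mem hχ).1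
        haveI : Finite Q := finite_of_le hQS
        have hc : Nat.card (Q.subgroupOf S) = n := by
          rw [Nat.card_congr (Subgroup.subgroupOfEquivOfLe hQS).toEquiv, hQn]
        have hci := Subgroup.card_mul_index (Q.subgroupOf S)
        rw [hc] at hci
        obtain ⟨b, hb⟩ := IsPGroup.index hS (Q.subgroupOf S)
        have hb0 : b ≠ 0 := by
          rintro rfl
          rw [hb, pow_zero, mul_one] at hci
          omega
        have hp : p ∣ (Q.subgroupOf S).index := by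
          rw [hb]
          exact dvd_pow_self p hb0
        obtain ⟨c, hc'⟩ := hp
        have hn0 : 0 < n := by
          rw [← hQn]
          exact Nat.card_pos
        have h5 : (tw S Q χ).index * n = (Nat.card S * p * c) * n := by
          rw [hidx]
          nth_rewrite 2 [← hci]
          rw [hc']
          ring
        rw [Nat.eq_of_mul_eq_mul_right hn0 h5]
        exact Dvd.intro _ rfl
    obtain ⟨t, ht⟩ := hdvd
    refine ⟨r + p * t, ?_, ?_⟩
    · rw [mark_add, hr, ht]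
      ring
    · intro h
      exact hpr ((Nat.dvd_add_left (Dvd.intro _ rfl)).1 h)

/-- **Existence of a characteristic biset** (in terms of multiplicities of orbits). -/
theorem exists_char {p : ℕ} [Fact p.Prime] (hS : IsPGroup p S) (F : FusionSystem S)
    (hF : F.IsSaturated p) :
    ∃ k : Subgroup (S × S) → ℕ, (∀ D, k D ≠ 0 → D ∈ twSet F) ∧ StableAbove F k 0 ∧
      ∃ r, mark k ⊥ = Nat.card S * r ∧ ¬ p ∣ r := by
  have hpos : 0 < Nat.card S := Nat.card_pos
  have key : ∀ j : ℕ, ∃ k : Subgroup (S × S) → ℕ, (∀ D, k D ≠ 0 → D ∈ twSet F) ∧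
      StableAbove F k (Nat.card S - 1 - j) ∧ ∃ r, mark k ⊥ = Nat.card S * r ∧ ¬ p ∣ r := by
    intro j
    induction j with
    | zero => exact exists_top hS F hF
    | succ j ih =>
      obtain ⟨k, hk1, hst, r, hr, hpr⟩ := ih
      have h := exists_step hS F hF (Nat.card S - 1 - j) (by omega) k hk1 hst r hr hpr
      rw [show Nat.card S - 1 - j - 1 = Nat.card S - 1 - (j + 1) by omega] at h
      exact h
  obtain ⟨k, hk1, hst, hr⟩ := key (Nat.card S)
  refine ⟨k, hk1, ?_, hr⟩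
  rw [show Nat.card S - 1 - Nat.card S = 0 by omega] at hst
  exact hst

end Main

end Cfsg.Agent.Lib.helper86
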