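import Cfsg.Agent.Lib.helper86.BisetTransfer
import Cfsg.Agent.Lib.helper86.CharBiset

/-!
# The transfer of a saturated fusion system (helper86)

`exists_transfer`: for a saturated fusion system `F` over a finite `p`-group `S` and a homomorphism
`lam : S →* A` into a commutative group there are `τ : S →* A` and `m` prime to `p` such that `τ` is
constant along the maps of `F` (so it kills the focal subgroup) and `τ s = c ^ m` whenever
`lam b = c ^ n` for all `b` such that `b⁻¹` is sent to `s ^ n` by a map of `F`.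
-/

set_option autoImplicit false

namespace Cfsg.Agent.Lib.helper86

open Cfsg Cfsg.FusionSystem Cfsg.Agent.Lib.helper88

variable {Ω : Type*} [Group Ω] {S : Subgroup Ω}

/-- maps of `F` become conjugations in `biAut` of a left-stable biset. -/
theorem exists_biAut_conj [Finite S] [Fintype (Subgroup (S × S))] (F : FusionSystem S)
    (k : Subgroup (S × S) → ℕ) (hk1 : ∀ D, k D ≠ 0 → D ∈ twSet F)
    (hk3 : ∀ (Q : Subgroup Ω) (χ χ' : Q →* Ω), χ ∈ F.Hom Q → χ' ∈ F.Hom Q →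
      mark k (tw S Q χ) = mark k (tw S Q χ'))
    {P : Subgroup Ω} (hP : P ≤ S) {φ : P →* Ω} (hφ : φ ∈ F.Hom P) (hφS : ∀ x : P, φ x ∈ S) :
    ∃ g : biAut S (Real k), ∀ u : P,
      biIota S (Real k) ⟨φ u, hφS u⟩ = g * biIota S (Real k) ⟨u, hP u.2⟩ * g⁻¹ := by
  haveI : Finite P := Finite.of_injective (Subgroup.inclusion hP) (Subgroup.inclusion_injective hP)
  obtain ⟨f, hf⟩ := exists_equiv_of_marks_hom (X := Real k) (inclProd hP) (homProd φ hφS) (by
    intro E₀
    rw [card_fix_map, card_fix_map]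
    by_cases h : E₀.map (inclProd hP) ∈ twSet F
    · obtain ⟨Q, χ, hχ, hE⟩ := h
      obtain ⟨χ₂, hχ₂, hE₂⟩ := map_prodMap_tw F hP hφS hφ E₀ hχ hE
      rw [hE, hE₂]
      exact hk3 Q χ χ₂ hχ hχ₂
    · have h0 : mark k (E₀.map (inclProd hP)) = 0 := by
        by_contra hne
        exact h (mem_twSet_of_mark_ne_zero F k hk1 hne)
      have h0' : mark k (E₀.map (homProd φ hφS)) = 0 := by
        by_contra hne
        exact h (mem_twSet_of_map_prodMap F hP hφS hφ E₀
          (mem_twSet_of_mark_ne_zero F k hk1 hne))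
      rw [h0, h0'])
  have hfmem : f ∈ biAut S (Real k) := by
    intro b x
    have h1 := hf ((1 : P), b) x
    have e1 : inclProd hP ((1 : P), b) = ((1 : S), b) := by
      ext <;> simp [inclProd]
    have e2 : homProd φ hφS ((1 : P), b) = ((1 : S), b) := by
      ext <;> simp [homProd]
    rw [e1, e2] at h1
    exact h1
  refine ⟨⟨f, hfmem⟩, fun u => ?_⟩
  apply Subtype.ext
  apply Equiv.ext
  intro x
  show ((⟨φ u, hφS u⟩, 1) : S × S) • x = f (((⟨u, hP u.2⟩, 1) : S × S) • f.symm x)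
  have h1 := hf (u, (1 : S)) (f.symm x)
  have e1 : inclProd hP (u, (1 : S)) = ((⟨u, hP u.2⟩, 1) : S × S) := by
    ext <;> simp [inclProd]
  have e2 : homProd φ hφS (u, (1 : S)) = ((⟨φ u, hφS u⟩, 1) : S × S) := by
    ext <;> simp [homProd]
  rw [e1, e2, Equiv.apply_symm_apply] at h1
  exact h1.symm

/-- a map of `F` whose value at `w` lies in a central subgroup fixes `w`. -/
theorem central_fixed (F : FusionSystem S) {Z : Subgroup Ω} (hZ : F.IsCentral Z)
    {Q : Subgroup Ω} {χ : Q →* Ω} (hχ : χ ∈ F.Hom Q) (w : Q) (h : χ w ∈ Z) : χ w = w := by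
  obtain ⟨ψ, hψ, hinv⟩ := F.inv_mem hχ
  obtain ⟨ψ', -, h1, h2⟩ := hZ.2 χ.range ψ hψ
  have e1 := h1 ⟨χ w, ⟨w, rfl⟩⟩
  have e2 := h2 ⟨χ w, h⟩
  rw [hinv] at e1
  have e3 : (Subgroup.inclusion le_sup_left ⟨χ w, ⟨w, rfl⟩⟩ : (χ.range ⊔ Z : Subgroup Ω)) =
      Subgroup.inclusion le_sup_right ⟨χ w, h⟩ := rfl
  rw [e3, e2] at e1
  exact e1

/-- **Transfer for saturated fusion systems.** -/
theorem exists_transfer {p : ℕ} [Fact p.Prime] [Finite S] (hS : IsPGroup p S)
    (F : FusionSystem S) (hF : F.IsSaturated p) {A : Type*} [CommGroup A] (lam : S →* A) :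
    ∃ (τ : S →* A) (m : ℕ), ¬ p ∣ m ∧
      (∀ (P : Subgroup Ω) (φ : P →* Ω) (hφ : φ ∈ F.Hom P) (u : P),
        τ ⟨φ u, (F.le_of_mem hφ).2 u⟩ = τ ⟨u, (F.le_of_mem hφ).1 u.2⟩) ∧
      (∀ (s : S) (c : A),
        (∀ (n : ℕ) (Q : Subgroup Ω) (χ : Q →* Ω) (b : S) (hb : (b : Ω)⁻¹ ∈ Q), χ ∈ F.Hom Q →
          χ ⟨(b : Ω)⁻¹, hb⟩ = (s : Ω) ^ n → lam b = c ^ n) → τ s = c ^ m) := by
  classical
  letI : Fintype (Subgroup (S × S)) := Fintype.ofFinite _
  obtain ⟨k, hk1, hst, r, hr, hpr⟩ := exists_char hS F hF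
  have hk3 : ∀ (Q : Subgroup Ω) (χ χ' : Q →* Ω), χ ∈ F.Hom Q → χ' ∈ F.Hom Q →
      mark k (tw S Q χ) = mark k (tw S Q χ') := by
    intro Q χ χ' hχ hχ'
    haveI : Finite Q := finite_of_le (F.le_of_mem hχ).1
    exact hst Q Q χ χ' hχ hχ' (isConj_refl F (F.le_of_mem hχ).1) Nat.card_pos
  have hfree := real_free_right F k hk1
  have hX : Nat.card (Real k) = Nat.card S * r := by
    rw [← hr, ← card_fix_real k ⊥]
    symm
    exact Nat.card_congr (Equiv.subtypeUnivEquiv (fun x e he => by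
      rw [Subgroup.mem_bot.1 he, one_smul]))
  have hblk : Nat.card (Blk S (Real k)) = r := by
    have h1 := card_blk_mul S (X := Real k) hfree
    rw [hX, mul_comm] at h1
    exact Nat.eq_of_mul_eq_mul_left Nat.card_pos h1
  obtain ⟨x₀, hx₀⟩ := exists_index_not_dvd S (X := Real k) (p := p) (by rw [hblk]; exact hpr)
  refine ⟨(blkTransfer S hfree lam x₀).comp (biIota S (Real k)), _, hx₀, ?_, ?_⟩
  · intro P φ hφ u
    obtain ⟨g, hg⟩ := exists_biAut_conj F k hk1 hk3 (F.le_of_mem hφ).1 hφ (F.le_of_mem hφ).2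
    show blkTransfer S hfree lam x₀ (biIota S (Real k) _) =
      blkTransfer S hfree lam x₀ (biIota S (Real k) _)
    rw [hg u, blkTransfer_conj]
  · intro s c hc
    show blkTransfer S hfree lam x₀ (biIota S (Real k) s) = _
    apply blkTransfer_biIota
    intro x n b hxb
    have h1 : ((s ^ n, b⁻¹) : S × S) • x = x := by
      have e : ((s ^ n, b⁻¹) : S × S) = (((1 : S), b⁻¹) : S × S) * ((s ^ n, 1) : S × S) := by
        ext <;> simp
      rw [e, mul_smul, hxb, smul_smul]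
      have e2 : (((1 : S), b⁻¹) : S × S) * (((1 : S), b) : S × S) = 1 := by
        ext <;> simp
      rw [e2, one_smul]
    obtain ⟨Q, χ, hχ, hfix⟩ := real_fix_tw F k hk1 x
    obtain ⟨hq, e⟩ := (hfix _).1 h1
    exact hc n Q χ b hq hχ e

end Cfsg.Agent.Lib.helper86
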