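import Cfsg.Agent.Lib.helper86.TwDiag

/-!
# Realizing a fusion system through a left-stable biset (helper86)

For a multiplicity function `k` on subgroups of `S × S` supported on the twisted diagonals of `F`,
containing the diagonal, and left-stable (`mark k (tw S Q χ)` independent of the map `χ` of `F` on
`Q`), the fusion system `F` is realized by the group `biAut (Real k)` of permutations of the biset
commuting with the right action (Park's theorem): `isRealizedBy_biIota`.
Also: the biset is free on both sides (`real_free_left`, `real_free_right`).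
-/

set_option autoImplicit false

namespace Cfsg.Agent.Lib.helper86

open Cfsg

variable {Ω : Type*} [Group Ω] {S : Subgroup Ω}

/-- permutations of an `S × S`-set commuting with the action of `1 × S`. -/
def biAut (S : Subgroup Ω) (X : Type*) [MulAction (S × S) X] : Subgroup (Equiv.Perm X) where
  carrier := {g | ∀ (b : S) (x : X), g (((1 : S), b) • x) = ((1 : S), b) • g x}
  one_mem' := fun _ _ => rfl
  mul_mem' := by
    intro g h hg hh b x
    show g (h _) = _
    rw [hh, hg]
    rfl
  inv_mem' := by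
    intro g hg b x
    apply g.injective
    rw [hg]
    simp

theorem mem_biAut {X : Type*} [MulAction (S × S) X] {g : Equiv.Perm X} :
    g ∈ biAut S X ↔ ∀ (b : S) (x : X), g (((1 : S), b) • x) = ((1 : S), b) • g x := Iff.rfl

/-- the left action of `S` as a homomorphism into `biAut`. -/
def biIota (S : Subgroup Ω) (X : Type*) [MulAction (S × S) X] : S →* biAut S X where
  toFun a := ⟨MulAction.toPerm ((a, 1) : S × S), fun b x => by
    show ((a, 1) : S × S) • (((1 : S), b) : S × S) • x = (((1 : S), b) : S × S) • ((a, 1) : S × S) • x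
    rw [smul_smul, smul_smul]
    congr 1
    ext <;> simp⟩
  map_one' := by
    apply Subtype.ext
    apply Equiv.ext
    intro x
    show ((1, 1) : S × S) • x = x
    exact one_smul _ x
  map_mul' := by
    intro a a'
    apply Subtype.ext
    apply Equiv.ext
    intro x
    show ((a * a', 1) : S × S) • x = ((a, 1) : S × S) • ((a', 1) : S × S) • x
    rw [smul_smul]
    congr 1
    ext <;> simp

theorem biIota_apply {X : Type*} [MulAction (S × S) X] (a : S) (x : X) :
    ((biIota S X a : biAut S X) : Equiv.Perm X) x = ((a, 1) : S × S) • x := rfl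

section Free

variable [Fintype (Subgroup (S × S))] (F : FusionSystem S) (k : Subgroup (S × S) → ℕ)
  (hk1 : ∀ D, k D ≠ 0 → D ∈ twSet F)

include hk1

/-- every element fixing a point of the biset lies in a twisted diagonal of `F`. -/
theorem real_fix_tw (x : Real k) :
    ∃ (Q : Subgroup Ω) (χ : Q →* Ω), χ ∈ F.Hom Q ∧ ∀ γ : S × S, γ • x = x ↔ γ ∈ tw S Q χ := by
  obtain ⟨D, g, hD, hfix⟩ := real_fix k x
  obtain ⟨Q, χ, hχ, hE⟩ := cj_mem_twSet F (hk1 D hD) g
  refine ⟨Q, χ, hχ, fun γ => ?_⟩
  rw [hfix, ← hE, mem_cj]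

theorem real_free_left (x : Real k) (c : S) (h : ((c, 1) : S × S) • x = x) : c = 1 := by
  obtain ⟨Q, χ, hχ, hfix⟩ := real_fix_tw F k hk1 x
  obtain ⟨h1, e⟩ := (hfix _).1 h
  have e2 : χ ⟨((1 : S) : Ω), h1⟩ = 1 := map_one χ
  exact Subtype.ext (e.symm.trans e2)

theorem real_free_right (x : Real k) (c : S) (h : (((1 : S), c) : S × S) • x = x) : c = 1 := by
  obtain ⟨Q, χ, hχ, hfix⟩ := real_fix_tw F k hk1 x
  obtain ⟨h1, e⟩ := (hfix _).1 h
  have e2 : χ ⟨(c : Ω), h1⟩ = χ 1 := by
    rw [map_one]
    exact e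
  have e3 := F.injective_of_mem hχ e2
  exact Subtype.ext (congrArg (fun z : Q => (z : Ω)) e3)

end Free

section Park

variable [Finite S] [Fintype (Subgroup (S × S))] (F : FusionSystem S)
  (k : Subgroup (S × S) → ℕ)

theorem card_fix_map {Γ₀ : Type*} [Group Γ₀] (j : Γ₀ →* S × S) (E₀ : Subgroup Γ₀) :
    Nat.card {x : Real k // ∀ e ∈ E₀, j e • x = x} = mark k (E₀.map j) := by
  rw [← card_fix_real]
  refine Nat.card_congr (Equiv.subtypeEquivRight (fun x => ?_))
  constructor
  · rintro h _ ⟨e, he, rfl⟩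
    exact h e he
  · intro h e he
    exact h _ ⟨e, he, rfl⟩

/-- **Park's theorem** for a left-stable biset. -/
theorem isRealizedBy_biIota (hk1 : ∀ D, k D ≠ 0 → D ∈ twSet F)
    (hk2 : k (tw S S S.subtype) ≠ 0)
    (hk3 : ∀ (Q : Subgroup Ω) (χ χ' : Q →* Ω), χ ∈ F.Hom Q → χ' ∈ F.Hom Q →
      mark k (tw S Q χ) = mark k (tw S Q χ')) :
    F.IsRealizedBy (biIota S (Real k)) := by
  obtain ⟨x₀, hx₀⟩ := exists_real_fixed k _ hk2
  refine ⟨?_, ?_⟩
  · intro a a' haa
    have h1 : ((a, 1) : S × S) • x₀ = ((a', 1) : S × S) • x₀ := by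
      rw [← biIota_apply, ← biIota_apply, haa]
    have h2 : ((a'⁻¹ * a, 1) : S × S) • x₀ = x₀ := by
      have e : ((a'⁻¹ * a, 1) : S × S) = ((a'⁻¹, 1) : S × S) * ((a, 1) : S × S) := by
        ext <;> simp
      rw [e, mul_smul, h1, smul_smul]
      have e2 : ((a'⁻¹, 1) : S × S) * ((a', 1) : S × S) = 1 := by
        ext <;> simp
      rw [e2, one_smul]
    have h3 := real_free_left F k hk1 x₀ _ h2
    exact (inv_mul_eq_one.1 h3).symm
  · intro P hP φ hφS
    constructor
    · intro hφ
      haveI : Finite P := Finite.of_injective (Subgroup.inclusion hP) (Subgroup.inclusion_injective hP)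
      obtain ⟨f, hf⟩ := exists_equiv_of_marks_hom (X := Real k) (inclProd hP) (homProd φ hφS) (by
        intro E₀
        rw [card_fix_map, card_fix_map]
        by_cases h : E₀.map (inclProd hP) ∈ twSet F
        · obtain ⟨Q, χ, hχ, hE⟩ := h
          obtain ⟨χ₂, hχ₂, hE₂⟩ := map_prodMap_tw F hP hφS hφ E₀ hχ hE
          rw [hE, hE₂]
          exact hk3 Q χ χ₂ hχ hχ₂
        · have h0 : mark k (E₀.map (inclProd hP)) = 0 := by
            by_contra hne
            exact h (mem_twSet_of_mark_ne_zero F k hk1 hne)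
          have h0' : mark k (E₀.map (homProd φ hφS)) = 0 := by
            by_contra hne
            exact h (mem_twSet_of_map_prodMap F hP hφS hφ E₀
              (mem_twSet_of_mark_ne_zero F k hk1 hne))
          rw [h0, h0'])
      have hfmem : f ∈ biAut S (Real k) := by
        intro b x
        have h1 := hf ((1 : P), b) x
        have e1 : inclProd hP ((1 : P), b) = ((1 : S), b) := by
          ext <;> simp [inclProd]
        have e2 : homProd φ hφS ((1 : P), b) = ((1 : S), b) := by
          ext <;> simp [homProd]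
        rw [e1, e2] at h1
        exact h1
      refine ⟨⟨f, hfmem⟩, fun u => ?_⟩
      apply Subtype.ext
      apply Equiv.ext
      intro x
      show ((⟨φ u, hφS u⟩, 1) : S × S) • x = f (((⟨u, hP u.2⟩, 1) : S × S) • f.symm x)
      have h1 := hf (u, (1 : S)) (f.symm x)
      have e1 : inclProd hP (u, (1 : S)) = ((⟨u, hP u.2⟩, 1) : S × S) := by
        ext <;> simp [inclProd]
      have e2 : homProd φ hφS (u, (1 : S)) = ((⟨φ u, hφS u⟩, 1) : S × S) := by
        ext <;> simp [homProd]
      rw [e1, e2, Equiv.apply_symm_apply] at h1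
      exact h1.symm
    · rintro ⟨g, hg⟩
      have hgmem := g.2
      have key : ∀ u : P, ((⟨φ u, hφS u⟩, ⟨u, hP u.2⟩) : S × S) • (g : Equiv.Perm (Real k)) x₀ =
          (g : Equiv.Perm (Real k)) x₀ := by
        intro u
        have h1 : biIota S (Real k) ⟨φ u, hφS u⟩ * g = g * biIota S (Real k) ⟨u, hP u.2⟩ := by
          rw [hg u, inv_mul_cancel_right]
        have h2 : ((⟨φ u, hφS u⟩, 1) : S × S) • (g : Equiv.Perm (Real k)) x₀ =
            (g : Equiv.Perm (Real k)) (((⟨u, hP u.2⟩, 1) : S × S) • x₀) := by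
          have h3 := congrArg (fun z : biAut S (Real k) => (z : Equiv.Perm (Real k)) x₀) h1
          exact h3
        have h4 : ((⟨u, hP u.2⟩, 1) : S × S) • x₀ =
            (((1 : S), (⟨u, hP u.2⟩ : S)⁻¹) : S × S) • x₀ := by
          have h5 := hx₀ ((⟨u, hP u.2⟩, ⟨u, hP u.2⟩) : S × S) (mem_tw_diag.2 rfl)
          have e : ((⟨u, hP u.2⟩, 1) : S × S) =
              (((1 : S), (⟨u, hP u.2⟩ : S)⁻¹) : S × S) * ((⟨u, hP u.2⟩, ⟨u, hP u.2⟩) : S × S) := by
            ext <;> simp
          rw [e, mul_smul, h5]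
        rw [h4, mem_biAut.1 hgmem] at h2
        have e : ((⟨φ u, hφS u⟩, ⟨u, hP u.2⟩) : S × S) =
            (((1 : S), (⟨u, hP u.2⟩ : S)) : S × S) * ((⟨φ u, hφS u⟩, 1) : S × S) := by
          ext <;> simp
        rw [e, mul_smul, h2, smul_smul]
        have e2 : (((1 : S), (⟨u, hP u.2⟩ : S)) : S × S) *
            (((1 : S), (⟨u, hP u.2⟩ : S)⁻¹) : S × S) = 1 := by
          ext <;> simp
        rw [e2, one_smul]
      obtain ⟨Q, χ, hχ, hfix⟩ := real_fix_tw F k hk1 ((g : Equiv.Perm (Real k)) x₀)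
      have hmem : ∀ u : P, ∃ h : (u : Ω) ∈ Q, χ ⟨u, h⟩ = φ u := fun u => (hfix _).1 (key u)
      have hPQ : P ≤ Q := fun u hu => (hmem ⟨u, hu⟩).fst
      refine Set.mem_of_eq_of_mem ?_ (Cfsg.Agent.Lib.helper88.restrict_mem F hPQ hχ)
      ext u
      exact ((hmem u).snd).symm

end Park

end Cfsg.Agent.Lib.helper86
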