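import Cfsg.Agent.Lib.helper86.BisetRealize

/-!
# The transfer of a biset (helper86)

For an `S × S`-set `X` on which `1 × S` acts freely, `Blk S X` is the set of `1 × S`-orbits
("blocks"), acted on by `biAut S X`.  For a homomorphism `lam : S →* A` into a commutative group
and a point `x₀`, `blkHom` is the homomorphism from the stabilizer of the block of `x₀` to `A`
sending `g` to `lam b` where `g x₀ = (1, b) • x₀`; its transfer to `biAut S X` is evaluated on the
image of `S` in `blkTransfer_biIota`.  `exists_index_not_dvd`: some block stabilizer has index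
prime to `p` when the number of blocks is prime to `p`.
-/

set_option autoImplicit false

namespace Cfsg.Agent.Lib.helper86

open Cfsg

variable {Ω : Type*} [Group Ω] (S : Subgroup Ω)

section Blocks

variable (X : Type*) [MulAction (S × S) X]

/-- the orbit relation of the action of `1 × S`. -/
def blockSetoid : Setoid X where
  r x y := ∃ b : S, y = (((1 : S), b) : S × S) • x
  iseqv := by
    refine ⟨fun x => ⟨1, ?_⟩, ?_, ?_⟩
    · have e : (((1 : S), (1 : S)) : S × S) = 1 := rfl
      rw [e, one_smul]
    · rintro x y ⟨b, rfl⟩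
      refine ⟨b⁻¹, ?_⟩
      rw [smul_smul]
      have e : (((1 : S), b⁻¹) : S × S) * (((1 : S), b) : S × S) = 1 := by
        ext <;> simp
      rw [e, one_smul]
    · rintro x y z ⟨b, rfl⟩ ⟨c, rfl⟩
      refine ⟨c * b, ?_⟩
      rw [smul_smul]
      congr 1
      ext <;> simp

/-- the set of blocks. -/
abbrev Blk : Type _ := Quotient (blockSetoid S X)

variable {X}

/-- the block of a point. -/
abbrev blk (x : X) : Blk S X := Quotient.mk (blockSetoid S X) x

theorem blk_eq_iff {x y : X} : blk S x = blk S y ↔ ∃ b : S, y = (((1 : S), b) : S × S) • x :=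
  Quotient.eq

variable (X)

instance blkAction : MulAction (biAut S X) (Blk S X) where
  smul g := Quotient.lift (fun x => blk S ((g : Equiv.Perm X) x)) (by
    intro x y h
    obtain ⟨b, rfl⟩ : ∃ b : S, y = (((1 : S), b) : S × S) • x := h
    exact (blk_eq_iff S).2 ⟨b, g.2 b x⟩)
  one_smul := by
    intro q
    induction q using Quotient.inductionOn with
    | _ x => rfl
  mul_smul := by
    intro g h q
    induction q using Quotient.inductionOn with
    | _ x => rfl

variable {X}

theorem smul_blk (g : biAut S X) (x : X) : g • blk S x = blk S ((g : Equiv.Perm X) x) := rfl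

theorem mem_stabilizer_blk {g : biAut S X} {x₀ : X} :
    g ∈ MulAction.stabilizer (biAut S X) (blk S x₀) ↔
      ∃ b : S, (g : Equiv.Perm X) x₀ = (((1 : S), b) : S × S) • x₀ := by
  rw [MulAction.mem_stabilizer_iff, smul_blk, eq_comm, blk_eq_iff]

variable (hfree : ∀ (x : X) (c : S), (((1 : S), c) : S × S) • x = x → c = 1)

include hfree in
theorem blk_elt_unique (x : X) (b b' : S)
    (h : (((1 : S), b) : S × S) • x = (((1 : S), b') : S × S) • x) : b = b' := by
  have h1 : (((1 : S), b'⁻¹ * b) : S × S) • x = x := by
    have e : (((1 : S), b'⁻¹ * b) : S × S) = (((1 : S), b'⁻¹) : S × S) * (((1 : S), b) : S × S) := by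
      ext <;> simp
    rw [e, mul_smul, h, smul_smul]
    have e2 : (((1 : S), b'⁻¹) : S × S) * (((1 : S), b') : S × S) = 1 := by
      ext <;> simp
    rw [e2, one_smul]
  have h2 := hfree x _ h1
  exact (inv_mul_eq_one.1 h2).symm

variable {A : Type*} [CommGroup A] (lam : S →* A) (x₀ : X)

/-- the value of `blkHom`. -/
noncomputable def blkFun (g : MulAction.stabilizer (biAut S X) (blk S x₀)) : A :=
  lam (Classical.choose ((mem_stabilizer_blk S).1 g.2))

include hfree in
theorem blkFun_apply (g : MulAction.stabilizer (biAut S X) (blk S x₀)) (b : S)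
    (h : ((g : biAut S X) : Equiv.Perm X) x₀ = (((1 : S), b) : S × S) • x₀) :
    blkFun S lam x₀ g = lam b := by
  unfold blkFun
  congr 1
  exact blk_elt_unique S hfree x₀ _ _
    ((Classical.choose_spec ((mem_stabilizer_blk S).1 g.2)).symm.trans h)

/-- the homomorphism from the stabilizer of a block to `A`. -/
noncomputable def blkHom : MulAction.stabilizer (biAut S X) (blk S x₀) →* A :=
  MonoidHom.mk' (blkFun S lam x₀) (by
    intro g h
    obtain ⟨b, hb⟩ := (mem_stabilizer_blk S).1 g.2
    obtain ⟨c, hc⟩ := (mem_stabilizer_blk S).1 h.2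
    rw [blkFun_apply S hfree lam x₀ g b hb, blkFun_apply S hfree lam x₀ h c hc,
      blkFun_apply S hfree lam x₀ (g * h) (c * b), map_mul, mul_comm]
    show ((g : biAut S X) : Equiv.Perm X) (((h : biAut S X) : Equiv.Perm X) x₀) = _
    rw [hc, (g : biAut S X).2 c x₀, hb, smul_smul]
    congr 1
    ext <;> simp)

include hfree in
theorem blkHom_apply (g : MulAction.stabilizer (biAut S X) (blk S x₀)) (b : S)
    (h : ((g : biAut S X) : Equiv.Perm X) x₀ = (((1 : S), b) : S × S) • x₀) :
    blkHom S hfree lam x₀ g = lam b :=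
  blkFun_apply S hfree lam x₀ g b h

end Blocks

section Transfer

variable {X : Type*} [MulAction (S × S) X] [Finite X]
  (hfree : ∀ (x : X) (c : S), (((1 : S), c) : S × S) • x = x → c = 1)
  {A : Type*} [CommGroup A] (lam : S →* A) (x₀ : X)

/-- the transfer of `lam` to `biAut S X` through the stabilizer of the block of `x₀`. -/
noncomputable def blkTransfer : biAut S X →* A := MonoidHom.transfer (blkHom S hfree lam x₀)

theorem blkTransfer_biIota (s : S) (c : A)
    (hc : ∀ (x : X) (n : ℕ) (b : S),
      ((s ^ n, 1) : S × S) • x = (((1 : S), b) : S × S) • x → lam b = c ^ n) :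
    blkTransfer S hfree lam x₀ (biIota S X s) =
      c ^ (MulAction.stabilizer (biAut S X) (blk S x₀)).index := by
  classical
  haveI : Fintype (Quotient (MulAction.orbitRel (Subgroup.zpowers (biIota S X s))
      (biAut S X ⧸ MulAction.stabilizer (biAut S X) (blk S x₀)))) := Fintype.ofFinite _
  unfold blkTransfer
  rw [MonoidHom.transfer_eq_prod_quotient_orbitRel_zpowers_quot,
    Subgroup.index_eq_sum_minimalPeriod _ (biIota S X s), ← Finset.prod_pow_eq_pow_sum]
  refine Finset.prod_congr rfl (fun q _ => ?_)
  obtain ⟨b, hb⟩ := (mem_stabilizer_blk S).1 (QuotientGroup.out_conj_pow_minimalPeriod_mem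
    (MulAction.stabilizer (biAut S X) (blk S x₀)) (biIota S X s) q.out)
  rw [blkHom_apply S hfree lam x₀ _ b hb]
  apply hc (((q.out.out : biAut S X) : Equiv.Perm X) x₀) _ b
  have h1 : ((q.out.out : biAut S X) : Equiv.Perm X)
      (((q.out.out⁻¹ * biIota S X s ^ Function.minimalPeriod (biIota S X s • ·) q.out *
        q.out.out : biAut S X) : Equiv.Perm X) x₀) =
      ((biIota S X s ^ Function.minimalPeriod (biIota S X s • ·) q.out : biAut S X) :
        Equiv.Perm X) (((q.out.out : biAut S X) : Equiv.Perm X) x₀) := by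
    simp [Subgroup.coe_mul, Equiv.Perm.mul_apply]
  rw [hb, (q.out.out : biAut S X).2 b x₀, ← map_pow] at h1
  exact h1.symm

theorem blkTransfer_conj (g a : biAut S X) :
    blkTransfer S hfree lam x₀ (g * a * g⁻¹) = blkTransfer S hfree lam x₀ a := by
  rw [map_mul, map_mul, map_inv, mul_comm, inv_mul_cancel_left]

omit [Finite X] in
theorem exists_index_not_dvd [Finite X] {p : ℕ} (hp : ¬ p ∣ Nat.card (Blk S X)) :
    ∃ x₀ : X, ¬ p ∣ (MulAction.stabilizer (biAut S X) (blk S x₀)).index := by
  by_contra hcon
  push Not at hcon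
  apply hp
  classical
  haveI : Fintype (MulAction.orbitRel.Quotient (biAut S X) (Blk S X)) := Fintype.ofFinite _
  rw [Nat.card_congr (MulAction.selfEquivSigmaOrbits (biAut S X) (Blk S X)), Nat.card_sigma]
  apply Finset.dvd_sum
  intro ω _
  obtain ⟨x, hx⟩ := Quotient.exists_rep (ω.out)
  rw [Nat.card_coe_set_eq, ← MulAction.index_stabilizer, ← hx]
  exact hcon x

omit [Finite X] in
include hfree in
/-- the number of points is the number of blocks times the order of `S`. -/
theorem card_blk_mul [Finite X] [Finite S] : Nat.card (Blk S X) * Nat.card S = Nat.card X := by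
  rw [← Nat.card_prod]
  have hrep : ∀ x : X, ∃ b : S, x = (((1 : S), b) : S × S) • (blk S x).out := fun x =>
    (blk_eq_iff S).1 (Quotient.out_eq (blk S x))
  refine Nat.card_congr
    { toFun := fun qb => (((1 : S), qb.2) : S × S) • qb.1.out
      invFun := fun x => (blk S x, Classical.choose (hrep x))
      left_inv := ?_
      right_inv := fun x => (Classical.choose_spec (hrep x)).symm }
  rintro ⟨q, b⟩
  have h1 : blk S ((((1 : S), b) : S × S) • q.out) = q := by
    rw [← Quotient.out_eq q]
    exact ((blk_eq_iff S).2 ⟨b, by rw [Quotient.out_eq q]⟩).symm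
  have h2 := Classical.choose_spec (hrep ((((1 : S), b) : S × S) • q.out))
  refine Prod.ext h1 ?_
  show Classical.choose (hrep ((((1 : S), b) : S × S) • q.out)) = b
  generalize Classical.choose (hrep ((((1 : S), b) : S × S) • q.out)) = c at h2 ⊢
  rw [h1] at h2
  exact (blk_elt_unique S hfree _ _ _ h2).symm

end Transfer

end Cfsg.Agent.Lib.helper86
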