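import Cfsg.Agent.Lib.helper86.FullTransfer

/-!
# Framings of a biset and the twisted transfer (helper86)

`X` is an `S × S`-set, `U` a normal subgroup of `S` and `π : S → A` a function into a commutative
group which is multiplicative on `U` and invariant under conjugation by `S` (`IsInvHom`).
A `P`-framing (`IsFraming U P ρ`) is a map `ρ : X → S` with `ρ ((1, c) • y) = c * ρ y` and
`ρ ((a, 1) • y) ≡ ρ y * a⁻¹` modulo `U` for `a ∈ P`.  Its twisted transfer is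
`NF π ρ a = ∏ q, π (ρ ((a, 1) • y) * a * (ρ y)⁻¹)` (`y` the representative of the block `q`).

* `NF_mul`: `NF π ρ` is multiplicative on `P`.
* `NF_eq_of_mem`: on `P ⊓ U` the twisted transfer does not depend on the `P`-framing.
* `NF_twist`: if `g ∈ biAut S X` carries the left action of `a` to that of `b` (`a⁻¹ * b ∈ U`) and
  preserves the framing modulo `U`, then `NF π ρ b = NF π ρ a * π (a⁻¹ * b) ^ #blocks`.
-/

set_option autoImplicit false

namespace Cfsg.Agent.Lib.helper86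

open Cfsg

variable {Ω : Type*} [Group Ω] (S : Subgroup Ω)

section Framing

variable {X : Type*} [MulAction (S × S) X]

/-- the two actions commute. -/
theorem smul_left_right (a c : S) (y : X) :
    ((a, 1) : S × S) • (((1 : S), c) : S × S) • y =
      (((1 : S), c) : S × S) • ((a, 1) : S × S) • y := by
  rw [smul_smul, smul_smul]
  congr 1
  ext <;> simp

theorem smul_left_mul (a b : S) (y : X) :
    ((a * b, 1) : S × S) • y = ((a, 1) : S × S) • ((b, 1) : S × S) • y := by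
  rw [smul_smul]
  congr 1
  ext <;> simp

theorem smul_right_mul (c d : S) (y : X) :
    (((1 : S), c * d) : S × S) • y = (((1 : S), c) : S × S) • (((1 : S), d) : S × S) • y := by
  rw [smul_smul]
  congr 1
  ext <;> simp

theorem smul_right_one (y : X) : (((1 : S), (1 : S)) : S × S) • y = y := by
  have e : (((1 : S), (1 : S)) : S × S) = 1 := rfl
  rw [e, one_smul]

/-- a function on the points which is constant on the blocks. -/
def IsBlkFun {B : Type*} (f : X → B) : Prop :=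
  ∀ (c : S) (y : X), f ((((1 : S), c) : S × S) • y) = f y

theorem IsBlkFun.eq_out {B : Type*} {f : X → B} (hf : IsBlkFun S f) (y : X) :
    f y = f (blk S y).out := by
  have h := co_spec S y
  have h2 : f y = f ((((1 : S), co S y) : S × S) • (blk S y).out) := congrArg f h
  rw [h2]
  exact hf _ _

theorem blk_biAut_out (g : biAut S X) (q : Blk S X) :
    blk S ((g : Equiv.Perm X) q.out) = g • q := by
  rw [← smul_blk]
  congr 1
  exact Quotient.out_eq q

/-- reindexing a product over the blocks by an automorphism. -/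
theorem prod_blk_biAut [Fintype (Blk S X)] {B : Type*} [CommMonoid B] {f : X → B}
    (hf : IsBlkFun S f) (g : biAut S X) :
    ∏ q : Blk S X, f ((g : Equiv.Perm X) q.out) = ∏ q : Blk S X, f q.out := by
  have h1 : ∀ q : Blk S X, f ((g : Equiv.Perm X) q.out) = f (g • q).out := by
    intro q
    rw [hf.eq_out, blk_biAut_out]
  rw [Finset.prod_congr rfl (fun q _ => h1 q)]
  exact Fintype.prod_equiv (MulAction.toPerm g) _ _ (fun q => rfl)

variable (U : Subgroup S) {A : Type*} [CommGroup A] (π : S → A)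

/-- `π` is multiplicative on `U` and invariant under conjugation. -/
structure IsInvHom : Prop where
  mul : ∀ u ∈ U, ∀ v ∈ U, π (u * v) = π u * π v
  conj : ∀ (s : S), ∀ u ∈ U, π (s * u * s⁻¹) = π u

variable {U π}

theorem IsInvHom.one (hπ : IsInvHom S U π) : π 1 = 1 := by
  have h := hπ.mul 1 U.one_mem 1 U.one_mem
  rw [one_mul] at h
  exact (mul_eq_left.1 h.symm)

theorem IsInvHom.inv (hπ : IsInvHom S U π) {u : S} (hu : u ∈ U) : π u⁻¹ = (π u)⁻¹ := by
  have h := hπ.mul u hu u⁻¹ (U.inv_mem hu)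
  rw [mul_inv_cancel, hπ.one] at h
  exact eq_inv_of_mul_eq_one_right h.symm

theorem IsInvHom.conj' (hπ : IsInvHom S U π) (s : S) {u : S} (hu : u ∈ U) :
    π (s⁻¹ * u * s) = π u := by
  have h := hπ.conj s⁻¹ u hu
  rw [inv_inv] at h
  exact h

variable (U)

/-- a `P`-framing of the biset. -/
structure IsFraming (P : Subgroup S) (ρ : X → S) : Prop where
  right : ∀ (c : S) (y : X), ρ ((((1 : S), c) : S × S) • y) = c * ρ y
  left : ∀ a ∈ P, ∀ y : X, ρ (((a, 1) : S × S) • y) * a * (ρ y)⁻¹ ∈ U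

variable {U}

theorem IsFraming.mono {P P' : Subgroup S} {ρ : X → S} (h : IsFraming S U P ρ) (hle : P' ≤ P) :
    IsFraming S U P' ρ :=
  ⟨h.right, fun a ha y => h.left a (hle ha) y⟩

/-- the defect of a framing. -/
def zf (ρ : X → S) (a : S) (y : X) : S := ρ (((a, 1) : S × S) • y) * a * (ρ y)⁻¹

theorem zf_right {P : Subgroup S} {ρ : X → S} (hρ : IsFraming S U P ρ) (a c : S) (y : X) :
    zf S ρ a ((((1 : S), c) : S × S) • y) = c * zf S ρ a y * c⁻¹ := by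
  unfold zf
  rw [smul_left_right, hρ.right, hρ.right]
  group

theorem zf_mul (ρ : X → S) (a b : S) (y : X) :
    zf S ρ (a * b) y = zf S ρ a (((b, 1) : S × S) • y) * zf S ρ b y := by
  unfold zf
  rw [smul_left_mul]
  group

theorem isBlkFun_zf (hπ : IsInvHom S U π) {P : Subgroup S} {ρ : X → S}
    (hρ : IsFraming S U P ρ) {a : S} (ha : a ∈ P) : IsBlkFun S (fun y => π (zf S ρ a y)) := by
  intro c y
  show π (zf S ρ a ((((1 : S), c) : S × S) • y)) = π (zf S ρ a y)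
  rw [zf_right S hρ]
  exact hπ.conj c _ (hρ.left a ha y)

variable (π) in
/-- the twisted transfer of a framing. -/
noncomputable def NF [Fintype (Blk S X)] (ρ : X → S) (a : S) : A :=
  ∏ q : Blk S X, π (zf S ρ a q.out)

variable [Fintype (Blk S X)]

theorem NF_mul (hπ : IsInvHom S U π) {P : Subgroup S} {ρ : X → S} (hρ : IsFraming S U P ρ)
    {a b : S} (ha : a ∈ P) (hb : b ∈ P) : NF S π ρ (a * b) = NF S π ρ a * NF S π ρ b := by
  unfold NF
  have h1 : ∀ q : Blk S X, π (zf S ρ (a * b) q.out) =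
      π (zf S ρ a ((biIota S X b : Equiv.Perm X) q.out)) * π (zf S ρ b q.out) := by
    intro q
    rw [zf_mul]
    exact hπ.mul _ (hρ.left a ha _) _ (hρ.left b hb _)
  rw [Finset.prod_congr rfl (fun q _ => h1 q), Finset.prod_mul_distrib,
    prod_blk_biAut S (isBlkFun_zf S hπ hρ ha) (biIota S X b)]

theorem NF_twist [hU : U.Normal] (hπ : IsInvHom S U π) {P : Subgroup S} {ρ : X → S}
    (hρ : IsFraming S U P ρ) (g : biAut S X) {a b : S} (ha : a ∈ P) (hb : b ∈ P)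
    (hab : a⁻¹ * b ∈ U)
    (hg : ∀ y : X, (g : Equiv.Perm X) (((a, 1) : S × S) • y) =
      ((b, 1) : S × S) • (g : Equiv.Perm X) y)
    (hw : ∀ y : X, ρ ((g : Equiv.Perm X) y) * (ρ y)⁻¹ ∈ U) :
    NF S π ρ b = NF S π ρ a * π (a⁻¹ * b) ^ Fintype.card (Blk S X) := by
  have hwf : IsBlkFun S (fun y => π (ρ ((g : Equiv.Perm X) y) * (ρ y)⁻¹)) := by
    intro c y
    show π (ρ ((g : Equiv.Perm X) ((((1 : S), c) : S × S) • y)) *
      (ρ ((((1 : S), c) : S × S) • y))⁻¹) = _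
    rw [g.2 c y, hρ.right, hρ.right]
    have e : c * ρ ((g : Equiv.Perm X) y) * (c * ρ y)⁻¹ =
        c * (ρ ((g : Equiv.Perm X) y) * (ρ y)⁻¹) * c⁻¹ := by group
    rw [e]
    exact hπ.conj c _ (hw y)
  have h0 : NF S π ρ b = ∏ q : Blk S X, π (zf S ρ b ((g : Equiv.Perm X) q.out)) := by
    unfold NF
    exact (prod_blk_biAut S (isBlkFun_zf S hπ hρ hb) g).symm
  have h1 : ∀ y : X, π (zf S ρ b ((g : Equiv.Perm X) y)) =
      π (ρ ((g : Equiv.Perm X) (((a, 1) : S × S) • y)) * (ρ (((a, 1) : S × S) • y))⁻¹) *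
        π (zf S ρ a y) * π (a⁻¹ * b) * (π (ρ ((g : Equiv.Perm X) y) * (ρ y)⁻¹))⁻¹ := by
    intro y
    have e : zf S ρ b ((g : Equiv.Perm X) y) =
        (ρ ((g : Equiv.Perm X) (((a, 1) : S × S) • y)) * (ρ (((a, 1) : S × S) • y))⁻¹) *
          (zf S ρ a y * ((ρ y * (a⁻¹ * b) * (ρ y)⁻¹) *
            (ρ ((g : Equiv.Perm X) y) * (ρ y)⁻¹)⁻¹)) := by
      unfold zf
      rw [hg y]
      group
    have m0 : zf S ρ a y ∈ U := hρ.left a ha y
    have m1 : ρ y * (a⁻¹ * b) * (ρ y)⁻¹ ∈ U := hU.conj_mem _ hab _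
    have m2 : (ρ ((g : Equiv.Perm X) y) * (ρ y)⁻¹)⁻¹ ∈ U := U.inv_mem (hw y)
    have m3 : ρ ((g : Equiv.Perm X) (((a, 1) : S × S) • y)) * (ρ (((a, 1) : S × S) • y))⁻¹ ∈ U :=
      hw _
    rw [e, hπ.mul _ m3 _ (U.mul_mem m0 (U.mul_mem m1 m2)),
      hπ.mul _ m0 _ (U.mul_mem m1 m2), hπ.mul _ m1 _ m2, hπ.conj _ _ hab,
      hπ.inv S (hw y)]
    simp only [mul_assoc]
  rw [h0, Finset.prod_congr rfl (fun q _ => h1 q.out), Finset.prod_mul_distrib,
    Finset.prod_mul_distrib, Finset.prod_mul_distrib, Finset.prod_inv_distrib, Finset.prod_const]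
  have h2 := prod_blk_biAut S hwf (biIota S X a)
  have h3 : ∏ q : Blk S X, π (ρ ((g : Equiv.Perm X) (((a, 1) : S × S) • q.out)) *
      (ρ (((a, 1) : S × S) • q.out))⁻¹) =
      ∏ q : Blk S X, π (ρ ((g : Equiv.Perm X) q.out) * (ρ q.out)⁻¹) := h2
  rw [h3]
  unfold NF
  rw [Finset.card_univ]
  have e : ∀ (x y z : A), x * y * z * x⁻¹ = y * z := by
    intro x y z
    rw [mul_comm, ← mul_assoc, ← mul_assoc, inv_mul_cancel, one_mul]
  exact e _ _ _

/-- on `P ⊓ U` the twisted transfer does not depend on the framing. -/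
theorem NF_eq_of_mem [hU : U.Normal] (hπ : IsInvHom S U π) {P : Subgroup S} {ρ ρ' : X → S}
    (hρ : IsFraming S U P ρ) (hρ' : IsFraming S U P ρ') {u : S} (huP : u ∈ P) (huU : u ∈ U) :
    NF S π ρ' u = NF S π ρ u := by
  obtain ⟨κ, hκ⟩ : ∃ κ : X → S, κ = fun y => ρ' y * (ρ y)⁻¹ := ⟨_, rfl⟩
  have hκr : ∀ (c : S) (y : X), κ ((((1 : S), c) : S × S) • y) = c * κ y * c⁻¹ := by
    intro c y
    rw [hκ]
    show ρ' _ * (ρ _)⁻¹ = c * (ρ' y * (ρ y)⁻¹) * c⁻¹
    rw [hρ'.right, hρ.right]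
    group
  have hz : ∀ y : X, zf S ρ' u y = κ (((u, 1) : S × S) • y) * zf S ρ u y * (κ y)⁻¹ := by
    intro y
    rw [hκ]
    unfold zf
    group
  have hd : ∀ y : X, κ (((u, 1) : S × S) • y) * (κ y)⁻¹ ∈ U := by
    intro y
    have h1 : zf S ρ' u y ∈ U := hρ'.left u huP y
    have h2 : zf S ρ u y ∈ U := hρ.left u huP y
    rw [hz] at h1
    have e : κ (((u, 1) : S × S) • y) * (κ y)⁻¹ =
        (κ (((u, 1) : S × S) • y) * zf S ρ u y * (κ y)⁻¹) *
          (κ y * (zf S ρ u y)⁻¹ * (κ y)⁻¹) := by group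
    rw [e]
    exact U.mul_mem h1 (hU.conj_mem _ (U.inv_mem h2) _)
  have hterm : ∀ y : X, π (zf S ρ' u y) =
      π (zf S ρ u y) * π (κ (((u, 1) : S × S) • y) * (κ y)⁻¹) := by
    intro y
    have h2 : zf S ρ u y ∈ U := hρ.left u huP y
    have e : zf S ρ' u y = (κ (((u, 1) : S × S) • y) * (κ y)⁻¹) *
        (κ y * zf S ρ u y * (κ y)⁻¹) := by
      rw [hz]
      group
    rw [e, hπ.mul _ (hd y) _ (hU.conj_mem _ h2 _), hπ.conj _ _ h2, mul_comm]
  obtain ⟨σ, hσ⟩ : ∃ σ : S → S, σ = fun t => ((QuotientGroup.mk t : S ⧸ U)).out := ⟨_, rfl⟩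
  have hσU : ∀ t : S, (σ t)⁻¹ * t ∈ U := by
    intro t
    obtain ⟨h, hh⟩ := QuotientGroup.mk_out_eq_mul U t
    have e : σ t = t * (h : S) := by
      rw [hσ]
      exact hh
    have e2 : (t * (h : S))⁻¹ * t = (h : S)⁻¹ := by group
    rw [e, e2]
    exact U.inv_mem h.2
  have hσeq : ∀ t t' : S, t⁻¹ * t' ∈ U → σ t = σ t' := by
    intro t t' h
    have e : (QuotientGroup.mk t : S ⧸ U) = QuotientGroup.mk t' := QuotientGroup.eq.2 h
    rw [hσ]
    show Quotient.out (QuotientGroup.mk t : S ⧸ U) = Quotient.out (QuotientGroup.mk t' : S ⧸ U)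
    rw [e]
  obtain ⟨e', he'⟩ : ∃ e' : X → A, e' = fun y => π ((σ (κ y))⁻¹ * κ y) := ⟨_, rfl⟩
  have hE : ∀ c ∈ U, ∀ y : X, e' ((((1 : S), c) : S × S) • y) = e' y := by
    intro c hc y
    rw [he']
    show π ((σ (κ ((((1 : S), c) : S × S) • y)))⁻¹ * κ ((((1 : S), c) : S × S) • y)) =
      π ((σ (κ y))⁻¹ * κ y)
    rw [hκr]
    have hs : σ (c * κ y * c⁻¹) = σ (κ y) := by
      apply hσeq
      have e : (c * κ y * c⁻¹)⁻¹ * κ y = c * ((κ y)⁻¹ * c⁻¹ * κ y) := by group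
      rw [e]
      exact U.mul_mem hc (hU.conj_mem' _ (U.inv_mem hc) _)
    rw [hs]
    have e : (σ (κ y))⁻¹ * (c * κ y * c⁻¹) =
        ((σ (κ y))⁻¹ * c * σ (κ y)) * (((σ (κ y))⁻¹ * κ y) * c⁻¹) := by group
    rw [e, hπ.mul _ (hU.conj_mem' _ hc _) _ (U.mul_mem (hσU _) (U.inv_mem hc)),
      hπ.mul _ (hσU _) _ (U.inv_mem hc), hπ.conj' S _ hc, hπ.inv S hc, mul_comm, mul_assoc,
      inv_mul_cancel, mul_one]
  obtain ⟨nrm, hnrm⟩ : ∃ nrm : X → X, nrm = fun y => (((1 : S), (ρ y)⁻¹) : S × S) • y :=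
    ⟨_, rfl⟩
  have hnrm_r : ∀ (c : S) (y : X), nrm ((((1 : S), c) : S × S) • y) = nrm y := by
    intro c y
    rw [hnrm]
    show (((1 : S), (ρ ((((1 : S), c) : S × S) • y))⁻¹) : S × S) • (((1 : S), c) : S × S) • y =
      (((1 : S), (ρ y)⁻¹) : S × S) • y
    rw [hρ.right, ← smul_right_mul]
    have e : (c * ρ y)⁻¹ * c = (ρ y)⁻¹ := by group
    rw [e]
  have hρn : ∀ y : X, ρ (nrm y) = 1 := by
    intro y
    rw [hnrm]
    show ρ ((((1 : S), (ρ y)⁻¹) : S × S) • y) = 1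
    rw [hρ.right, inv_mul_cancel]
  have hnn : ∀ y : X, ρ y = 1 → nrm y = y := by
    intro y h
    rw [hnrm]
    show (((1 : S), (ρ y)⁻¹) : S × S) • y = y
    rw [h, inv_one, smul_right_one]
  have hē : IsBlkFun S (fun y => e' (nrm y)) := by
    intro c y
    show e' (nrm ((((1 : S), c) : S × S) • y)) = e' (nrm y)
    rw [hnrm_r]
  have hL : IsBlkFun S (fun y => π (κ (((u, 1) : S × S) • y) * (κ y)⁻¹)) := by
    intro c y
    show π (κ (((u, 1) : S × S) • (((1 : S), c) : S × S) • y) *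
      (κ ((((1 : S), c) : S × S) • y))⁻¹) = π (κ (((u, 1) : S × S) • y) * (κ y)⁻¹)
    rw [smul_left_right, hκr, hκr]
    have e : c * κ (((u, 1) : S × S) • y) * c⁻¹ * (c * κ y * c⁻¹)⁻¹ =
        c * (κ (((u, 1) : S × S) • y) * (κ y)⁻¹) * c⁻¹ := by group
    rw [e]
    exact hπ.conj c _ (hd y)
  have hR : IsBlkFun S (fun y => e' (nrm (((u, 1) : S × S) • y)) * (e' (nrm y))⁻¹) := by
    intro c y
    show e' (nrm (((u, 1) : S × S) • (((1 : S), c) : S × S) • y)) *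
      (e' (nrm ((((1 : S), c) : S × S) • y)))⁻¹ = _
    rw [smul_left_right, hnrm_r, hnrm_r]
  have key : ∀ y : X, ρ y = 1 → π (κ (((u, 1) : S × S) • y) * (κ y)⁻¹) =
      e' (nrm (((u, 1) : S × S) • y)) * (e' (nrm y))⁻¹ := by
    intro y hy
    rw [hnn y hy]
    have hc : ρ (((u, 1) : S × S) • y) ∈ U := by
      have h2 : zf S ρ u y ∈ U := hρ.left u huP y
      unfold zf at h2
      rw [hy, inv_one, mul_one] at h2
      have e : ρ (((u, 1) : S × S) • y) = (ρ (((u, 1) : S × S) • y) * u) * u⁻¹ := by group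
      rw [e]
      exact U.mul_mem h2 (U.inv_mem huU)
    have h3 : e' (nrm (((u, 1) : S × S) • y)) = e' (((u, 1) : S × S) • y) := by
      rw [hnrm]
      exact hE _ (U.inv_mem hc) _
    rw [h3, he']
    show π (κ (((u, 1) : S × S) • y) * (κ y)⁻¹) =
      π ((σ (κ (((u, 1) : S × S) • y)))⁻¹ * κ (((u, 1) : S × S) • y)) *
        (π ((σ (κ y))⁻¹ * κ y))⁻¹
    have hs : σ (κ (((u, 1) : S × S) • y)) = σ (κ y) := by
      apply hσeq
      have e : (κ (((u, 1) : S × S) • y))⁻¹ * κ y =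
          ((κ y)⁻¹ * (κ (((u, 1) : S × S) • y) * (κ y)⁻¹) * κ y)⁻¹ := by group
      rw [e]
      exact U.inv_mem (hU.conj_mem' _ (hd y) _)
    have m1 : (σ (κ y))⁻¹ * κ (((u, 1) : S × S) • y) ∈ U := by
      rw [← hs]
      exact hσU _
    have m2 : (σ (κ y))⁻¹ * κ y ∈ U := hσU _
    rw [hs, ← hπ.inv S m2, ← hπ.mul _ m1 _ (U.inv_mem m2)]
    have e : (σ (κ y))⁻¹ * κ (((u, 1) : S × S) • y) * ((σ (κ y))⁻¹ * κ y)⁻¹ =
        (σ (κ y))⁻¹ * (κ (((u, 1) : S × S) • y) * (κ y)⁻¹) * σ (κ y) := by group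
    rw [e, hπ.conj' S _ (hd y)]
  have hclaim : ∀ y : X, π (κ (((u, 1) : S × S) • y) * (κ y)⁻¹) =
      e' (nrm (((u, 1) : S × S) • y)) * (e' (nrm y))⁻¹ := by
    intro y
    have h1 := hL (ρ y)⁻¹ y
    have h2 := hR (ρ y)⁻¹ y
    have h3 := key (nrm y) (hρn y)
    have h4 : nrm y = (((1 : S), (ρ y)⁻¹) : S × S) • y := by rw [hnrm]
    rw [h4] at h3
    exact h1.symm.trans (h3.trans h2)
  have hprod : ∏ q : Blk S X, π (κ (((u, 1) : S × S) • q.out) * (κ q.out)⁻¹) = 1 := by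
    rw [Finset.prod_congr rfl (fun q _ => hclaim q.out), Finset.prod_mul_distrib,
      Finset.prod_inv_distrib]
    have h5 := prod_blk_biAut S hē (biIota S X u)
    have h6 : ∏ q : Blk S X, e' (nrm (((u, 1) : S × S) • q.out)) =
        ∏ q : Blk S X, e' (nrm q.out) := h5
    rw [h6, mul_inv_cancel]
  unfold NF
  rw [Finset.prod_congr rfl (fun q _ => hterm q.out), Finset.prod_mul_distrib, hprod, mul_one]

end Framing


section Theta

variable {X : Type*} [MulAction (S × S) X] (U : Subgroup S) [hU : U.Normal]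

/-- a map into the quotient `S ⧸ U`, equivariant for the right action and for the left action of
`P`. -/
def IsTheta (P : Subgroup S) (Θ : X → S ⧸ U) : Prop :=
  (∀ (c : S) (y : X), Θ ((((1 : S), c) : S × S) • y) = (c : S ⧸ U) * Θ y) ∧
    (∀ a ∈ P, ∀ y : X, Θ (((a, 1) : S × S) • y) = Θ y * (a : S ⧸ U)⁻¹)

/-- the framing attached to an equivariant map into the quotient. -/
noncomputable def framingOf (Θ : X → S ⧸ U) (y : X) : S := co S y * (Θ (blk S y).out).out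

variable {U}

theorem mk_framingOf {P : Subgroup S} {Θ : X → S ⧸ U} (hΘ : IsTheta S U P Θ) (y : X) :
    ((framingOf S U Θ y : S) : S ⧸ U) = Θ y := by
  unfold framingOf
  rw [QuotientGroup.mk_mul, QuotientGroup.out_eq', ← hΘ.1, ← co_spec]

theorem framingOf_isFraming (hfree : ∀ (x : X) (c : S), (((1 : S), c) : S × S) • x = x → c = 1)
    {P : Subgroup S} {Θ : X → S ⧸ U} (hΘ : IsTheta S U P Θ) :
    IsFraming S U P (framingOf S U Θ) := by
  constructor
  · intro c y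
    unfold framingOf
    rw [co_smul S hfree, blk_smul_right, mul_assoc]
  · intro a ha y
    rw [← QuotientGroup.eq_one_iff, QuotientGroup.mk_mul, QuotientGroup.mk_mul,
      QuotientGroup.mk_inv, mk_framingOf S hΘ, mk_framingOf S hΘ, hΘ.2 a ha]
    group

theorem framingOf_inv {P : Subgroup S} {Θ : X → S ⧸ U} (hΘ : IsTheta S U P Θ) {y y' : X}
    (h : Θ y' = Θ y) : framingOf S U Θ y' * (framingOf S U Θ y)⁻¹ ∈ U := by
  rw [← QuotientGroup.eq_one_iff, QuotientGroup.mk_mul, QuotientGroup.mk_inv,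
    mk_framingOf S hΘ, mk_framingOf S hΘ, h, mul_inv_cancel]

/-- an automorphism of prime power order `ℓ ^ n`, `ℓ ≠ p`, twisting the left action of `P` by
elements of `U`, fixes an equivariant map into `S ⧸ U`. -/
theorem exists_theta_fixed [Finite X] [Finite S] {p : ℕ} [Fact p.Prime] (hS : IsPGroup p S)
    (P : Subgroup S) (Θ₀ : X → S ⧸ U) (h₀ : IsTheta S U P Θ₀) (g : biAut S X) (ℓ n : ℕ)
    [Fact ℓ.Prime] (hℓ : ℓ ≠ p) (hgn : g ^ (ℓ ^ n) = 1)
    (hg : ∀ a ∈ P, ∃ b ∈ P, a⁻¹ * b ∈ U ∧ ∀ y : X, (g : Equiv.Perm X) (((a, 1) : S × S) • y) =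
      ((b, 1) : S × S) • (g : Equiv.Perm X) y) :
    ∃ Θ : X → S ⧸ U, IsTheta S U P Θ ∧ ∀ y : X, Θ ((g : Equiv.Perm X) y) = Θ y := by
  classical
  letI : Fintype {Θ : X → S ⧸ U // IsTheta S U P Θ} := Fintype.ofFinite _
  -- the torsor structure
  let G : Subgroup (X → S ⧸ U) :=
    { carrier := {k | (∀ (c : S) (y : X), k ((((1 : S), c) : S × S) • y) = k y) ∧
        (∀ a ∈ P, ∀ y : X, k (((a, 1) : S × S) • y) = (a : S ⧸ U) * k y * (a : S ⧸ U)⁻¹)}
      one_mem' := ⟨fun _ _ => rfl, fun a _ y => by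
        show (1 : S ⧸ U) = (a : S ⧸ U) * 1 * (a : S ⧸ U)⁻¹
        group⟩
      mul_mem' := by
        rintro k k' ⟨h1, h2⟩ ⟨h1', h2'⟩
        refine ⟨fun c y => ?_, fun a ha y => ?_⟩
        · show k _ * k' _ = k y * k' y
          rw [h1, h1']
        · show k _ * k' _ = (a : S ⧸ U) * (k y * k' y) * (a : S ⧸ U)⁻¹
          rw [h2 a ha, h2' a ha]
          group
      inv_mem' := by
        rintro k ⟨h1, h2⟩
        refine ⟨fun c y => ?_, fun a ha y => ?_⟩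
        · show (k _)⁻¹ = (k y)⁻¹
          rw [h1]
        · show (k _)⁻¹ = (a : S ⧸ U) * (k y)⁻¹ * (a : S ⧸ U)⁻¹
          rw [h2 a ha]
          group }
  have hto : ∀ k : G, IsTheta S U P (fun y => Θ₀ y * (k : X → S ⧸ U) y) := by
    intro k
    refine ⟨fun c y => ?_, fun a ha y => ?_⟩
    · show Θ₀ ((((1 : S), c) : S × S) • y) * (k : X → S ⧸ U) ((((1 : S), c) : S × S) • y) =
        (c : S ⧸ U) * (Θ₀ y * (k : X → S ⧸ U) y)
      rw [h₀.1, k.2.1, mul_assoc]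
    · show Θ₀ (((a, 1) : S × S) • y) * (k : X → S ⧸ U) (((a, 1) : S × S) • y) =
        Θ₀ y * (k : X → S ⧸ U) y * (a : S ⧸ U)⁻¹
      rw [h₀.2 a ha, k.2.2 a ha]
      group
  have hinv : ∀ Θ : {Θ : X → S ⧸ U // IsTheta S U P Θ},
      (fun y => (Θ₀ y)⁻¹ * Θ.1 y) ∈ G := by
    intro Θ
    refine ⟨fun c y => ?_, fun a ha y => ?_⟩
    · show (Θ₀ ((((1 : S), c) : S × S) • y))⁻¹ * Θ.1 ((((1 : S), c) : S × S) • y) =
        (Θ₀ y)⁻¹ * Θ.1 y
      rw [h₀.1, Θ.2.1]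
      group
    · show (Θ₀ (((a, 1) : S × S) • y))⁻¹ * Θ.1 (((a, 1) : S × S) • y) =
        (a : S ⧸ U) * ((Θ₀ y)⁻¹ * Θ.1 y) * (a : S ⧸ U)⁻¹
      rw [h₀.2 a ha, Θ.2.2 a ha]
      group
  have hequiv : Nat.card G = Nat.card {Θ : X → S ⧸ U // IsTheta S U P Θ} :=
    Nat.card_congr
      { toFun := fun k => ⟨fun y => Θ₀ y * (k : X → S ⧸ U) y, hto k⟩
        invFun := fun Θ => ⟨fun y => (Θ₀ y)⁻¹ * Θ.1 y, hinv Θ⟩
        left_inv := fun k => by
          apply Subtype.ext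
          funext y
          show (Θ₀ y)⁻¹ * (Θ₀ y * (k : X → S ⧸ U) y) = (k : X → S ⧸ U) y
          rw [inv_mul_cancel_left]
        right_inv := fun Θ => by
          apply Subtype.ext
          funext y
          show Θ₀ y * ((Θ₀ y)⁻¹ * Θ.1 y) = Θ.1 y
          rw [mul_inv_cancel_left] }
  have hcard : ∃ i : ℕ, Nat.card {Θ : X → S ⧸ U // IsTheta S U P Θ} = p ^ i := by
    obtain ⟨j, hj⟩ := IsPGroup.iff_card.1 (hS.to_quotient U)
    have h1 : Nat.card G ∣ Nat.card (X → S ⧸ U) := Subgroup.card_subgroup_dvd_card G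
    rw [Nat.card_fun, hj, ← pow_mul] at h1
    obtain ⟨i, -, hi⟩ := (Nat.dvd_prime_pow (Fact.out : p.Prime)).1 h1
    exact ⟨i, by rw [← hequiv, hi]⟩
  obtain ⟨i, hi⟩ := hcard
  -- the action of `g`
  have hmem : ∀ Θ : X → S ⧸ U, IsTheta S U P Θ →
      IsTheta S U P (fun y => Θ ((g : Equiv.Perm X) y)) := by
    intro Θ hΘ
    refine ⟨fun c y => ?_, fun a ha y => ?_⟩
    · show Θ ((g : Equiv.Perm X) ((((1 : S), c) : S × S) • y)) = _
      rw [g.2 c y, hΘ.1]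
    · obtain ⟨b, hb, hab, hgy⟩ := hg a ha
      show Θ ((g : Equiv.Perm X) (((a, 1) : S × S) • y)) = _
      rw [hgy y, hΘ.2 b hb]
      have e : ((a : S) : S ⧸ U) = ((b : S) : S ⧸ U) := QuotientGroup.eq.2 hab
      rw [e]
  let f : Function.End {Θ : X → S ⧸ U // IsTheta S U P Θ} :=
    fun Θ => ⟨fun y => Θ.1 ((g : Equiv.Perm X) y), hmem Θ.1 Θ.2⟩
  have hpow : ∀ (m : ℕ) (Θ : {Θ : X → S ⧸ U // IsTheta S U P Θ}) (y : X),
      ((f ^ m) Θ).1 y = Θ.1 (((g ^ m : biAut S X) : Equiv.Perm X) y) := by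
    intro m
    induction m with
    | zero => intro Θ y; rfl
    | succ m ih =>
      intro Θ y
      rw [pow_succ, pow_succ']
      show ((f ^ m) (f Θ)).1 y = _
      rw [ih]
      rfl
  have hfn : f ^ ℓ ^ n = 1 := by
    funext Θ
    apply Subtype.ext
    funext y
    rw [hpow, hgn]
    rfl
  have hmod := Equiv.Perm.card_fixedPoints_modEq (p := ℓ) (n := n) hfn
  have hne : Fintype.card (Function.fixedPoints f) ≠ 0 := by
    intro h0
    rw [h0, ← Nat.card_eq_fintype_card, hi] at hmod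
    have h1 : ℓ ∣ p ^ i := (Nat.modEq_zero_iff_dvd).1 hmod
    have h2 := (Fact.out : ℓ.Prime).dvd_of_dvd_pow h1
    exact hℓ ((Nat.prime_dvd_prime_iff_eq (Fact.out : ℓ.Prime) (Fact.out : p.Prime)).1 h2)
  obtain ⟨⟨Θ, hΘfix⟩⟩ := Fintype.card_pos_iff.1 (Nat.pos_of_ne_zero hne)
  refine ⟨Θ.1, Θ.2, fun y => ?_⟩
  have h1 : f Θ = Θ := hΘfix
  exact congrFun (congrArg Subtype.val h1) y

/-- an equivariant map into `S ⧸ U` exists when the point stabilizers are twisted by elements of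
`S` modulo `U`. -/
theorem exists_theta_top
    (hstab : ∀ y : X, ∃ s : S, ∀ a b : S, ((a, b) : S × S) • y = y →
      (a : S ⧸ U) = (s : S ⧸ U) * (b : S ⧸ U) * (s : S ⧸ U)⁻¹) :
    ∃ Θ : X → S ⧸ U, IsTheta S U ⊤ Θ := by
  classical
  obtain ⟨rep, hrep⟩ : ∃ rep : X → X, rep = fun x =>
      (Quotient.mk (MulAction.orbitRel (S × S) X) x).out := ⟨_, rfl⟩
  have hrep1 : ∀ x : X, ∃ γ : S × S, γ • rep x = x := by
    intro x
    have h1 : rep x ∈ MulAction.orbit (S × S) x := by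
      rw [hrep]
      exact Quotient.mk_out (s := MulAction.orbitRel (S × S) X) x
    obtain ⟨γ, hγ⟩ := h1
    refine ⟨γ⁻¹, ?_⟩
    rw [← hγ, inv_smul_smul]
  have hrep2 : ∀ (γ : S × S) (x : X), rep (γ • x) = rep x := by
    intro γ x
    rw [hrep]
    show Quotient.out _ = Quotient.out _
    congr 1
    exact Quotient.sound (MulAction.mem_orbit x γ)
  choose γ hγ using hrep1
  choose s hs using hstab
  obtain ⟨Θ, hΘ⟩ : ∃ Θ : X → S ⧸ U, Θ = fun x =>
      (((γ x).2 : S) : S ⧸ U) * ((s (rep x) : S) : S ⧸ U)⁻¹ * (((γ x).1 : S) : S ⧸ U)⁻¹ :=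
    ⟨_, rfl⟩
  have key : ∀ (x : X) (δ : S × S), δ • rep x = x →
      Θ x = ((δ.2 : S) : S ⧸ U) * ((s (rep x) : S) : S ⧸ U)⁻¹ * ((δ.1 : S) : S ⧸ U)⁻¹ := by
    intro x δ hδ
    have h1 : ((γ x)⁻¹ * δ) • rep x = rep x := by
      rw [mul_smul, hδ]
      have h0 : (γ x)⁻¹ • x = (γ x)⁻¹ • γ x • rep x := by rw [hγ x]
      rw [h0, inv_smul_smul]
    have h2 := hs (rep x) ((γ x)⁻¹ * δ).1 ((γ x)⁻¹ * δ).2 h1
    have e1 : δ.1 = (γ x).1 * ((γ x)⁻¹ * δ).1 := by simp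
    have e2 : δ.2 = (γ x).2 * ((γ x)⁻¹ * δ).2 := by simp
    rw [hΘ]
    show _ = _
    rw [e1, e2, QuotientGroup.mk_mul, QuotientGroup.mk_mul, h2]
    group
  have hequiv : ∀ (a b : S) (x : X), Θ (((a, b) : S × S) • x) =
      (b : S ⧸ U) * Θ x * (a : S ⧸ U)⁻¹ := by
    intro a b x
    have h1 : (((a, b) : S × S) * γ x) • rep (((a, b) : S × S) • x) = ((a, b) : S × S) • x := by
      rw [hrep2, mul_smul, hγ]
    rw [key _ _ h1, hrep2, hΘ]
    show ((b * (γ x).2 : S) : S ⧸ U) * _ * ((a * (γ x).1 : S) : S ⧸ U)⁻¹ = _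
    rw [QuotientGroup.mk_mul, QuotientGroup.mk_mul]
    group
  refine ⟨Θ, fun c y => ?_, fun a _ y => ?_⟩
  · rw [hequiv]
    show _ * _ * ((1 : S) : S ⧸ U)⁻¹ = _
    rw [QuotientGroup.mk_one, inv_one, mul_one]
  · rw [hequiv]
    show ((1 : S) : S ⧸ U) * _ * _ = _
    rw [QuotientGroup.mk_one, one_mul]

end Theta

end Cfsg.Agent.Lib.helper86
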