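import Cfsg.Agent.Lib.helper86.BisetTransfer

/-!
# The full transfer of a biset (helper86)

For an `S × S`-set `X` on which `1 × S` acts freely, `co x : S` is the coordinate of `x` with
respect to the chosen representative of its block (`x = (1, co x) • (blk x).out`).  For a
homomorphism `lam : S →* A` into a commutative group, `fullTransfer lam : biAut S X →* A` is
`g ↦ ∏ q, lam (co (g q.out))` (product over all blocks).  `fullTransfer_involution` evaluates it on
an involution of `S`: only the blocks fixed by the involution contribute.
-/

set_option autoImplicit false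

namespace Cfsg.Agent.Lib.helper86

open Cfsg

variable {Ω : Type*} [Group Ω] (S : Subgroup Ω)

section Full

variable {X : Type*} [MulAction (S × S) X]
  (hfree : ∀ (x : X) (c : S), (((1 : S), c) : S × S) • x = x → c = 1)

theorem exists_co (x : X) : ∃ b : S, x = (((1 : S), b) : S × S) • (blk S x).out :=
  (blk_eq_iff S).1 (Quotient.out_eq (blk S x))

/-- the coordinate of a point with respect to the representative of its block. -/
noncomputable def co (x : X) : S := Classical.choose (exists_co S x)

theorem co_spec (x : X) : x = (((1 : S), co S x) : S × S) • (blk S x).out :=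
  Classical.choose_spec (exists_co S x)

theorem blk_smul_right (c : S) (x : X) : blk S ((((1 : S), c) : S × S) • x) = blk S x :=
  ((blk_eq_iff S).2 ⟨c, rfl⟩).symm

include hfree in
theorem co_smul (c : S) (x : X) : co S ((((1 : S), c) : S × S) • x) = c * co S x := by
  have h1 := co_spec S ((((1 : S), c) : S × S) • x)
  rw [blk_smul_right] at h1
  have h2 : (((1 : S), c) : S × S) • x = (((1 : S), c * co S x) : S × S) • (blk S x).out := by
    have e : (((1 : S), c * co S x) : S × S) =
        (((1 : S), c) : S × S) * (((1 : S), co S x) : S × S) := by
      ext <;> simp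
    rw [e, mul_smul, ← co_spec]
  exact blk_elt_unique S hfree _ _ _ (h1.symm.trans h2)

include hfree in
theorem co_out (q : Blk S X) : co S q.out = 1 := by
  have h1 := co_spec S q.out
  have hq : blk S q.out = q := Quotient.out_eq q
  rw [hq] at h1
  have e : (((1 : S), (1 : S)) : S × S) = 1 := rfl
  have h2 : q.out = (((1 : S), (1 : S)) : S × S) • q.out := by rw [e, one_smul]
  exact blk_elt_unique S hfree _ _ _ (h1.symm.trans h2)

include hfree in
theorem co_biAut (g : biAut S X) (x : X) :
    co S ((g : Equiv.Perm X) x) = co S x * co S ((g : Equiv.Perm X) (blk S x).out) := by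
  have h1 : (g : Equiv.Perm X) x =
      (((1 : S), co S x) : S × S) • (g : Equiv.Perm X) (blk S x).out := by
    rw [← g.2 (co S x) (blk S x).out, ← co_spec]
  rw [h1, co_smul S hfree]

theorem blk_biAut (g : biAut S X) (x : X) :
    blk S ((g : Equiv.Perm X) (blk S x).out) = g • blk S x := by
  rw [← smul_blk]
  congr 1
  exact Quotient.out_eq (blk S x)

variable [Fintype (Blk S X)] {A : Type*} [CommGroup A] (lam : S →* A)

include hfree in
/-- the transfer of `lam` to `biAut S X`, as a product over all blocks. -/
noncomputable def fullTransfer : biAut S X →* A :=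
  MonoidHom.mk' (fun g => ∏ q : Blk S X, lam (co S ((g : Equiv.Perm X) q.out))) (by
    intro g h
    have h1 : ∀ q : Blk S X, lam (co S (((g * h : biAut S X) : Equiv.Perm X) q.out)) =
        lam (co S ((h : Equiv.Perm X) q.out)) *
          lam (co S ((g : Equiv.Perm X) (h • q).out)) := by
      intro q
      have e1 : ((g * h : biAut S X) : Equiv.Perm X) q.out =
          (g : Equiv.Perm X) ((h : Equiv.Perm X) q.out) := rfl
      have e2 : blk S ((h : Equiv.Perm X) q.out) = h • q := by
        rw [← smul_blk]
        congr 1
        exact Quotient.out_eq q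
      rw [e1, co_biAut S hfree g, map_mul, e2]
    rw [Finset.prod_congr rfl (fun q _ => h1 q), Finset.prod_mul_distrib, mul_comm]
    congr 1
    exact Fintype.prod_equiv (MulAction.toPerm h) _ _ (fun q => rfl))

theorem fullTransfer_apply (g : biAut S X) :
    fullTransfer S hfree lam g = ∏ q : Blk S X, lam (co S ((g : Equiv.Perm X) q.out)) := rfl

theorem fullTransfer_conj (g a : biAut S X) :
    fullTransfer S hfree lam (g * a * g⁻¹) = fullTransfer S hfree lam a := by
  rw [map_mul, map_mul, map_inv, mul_comm, inv_mul_cancel_left]

/-- evaluation on an involution: only the fixed blocks contribute. -/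
theorem fullTransfer_involution [DecidableEq (Blk S X)] (s : S) (hs : s * s = 1) :
    fullTransfer S hfree lam (biIota S X s) =
      ∏ q ∈ Finset.univ.filter (fun q : Blk S X => biIota S X s • q = q),
        lam (co S (((s, 1) : S × S) • q.out)) := by
  rw [fullTransfer_apply,
    ← Finset.prod_filter_mul_prod_filter_not Finset.univ (fun q : Blk S X => biIota S X s • q = q)]
  have hss : ∀ q : Blk S X, biIota S X s • biIota S X s • q = q := by
    intro q
    rw [smul_smul, ← map_mul, hs, map_one, one_smul]
  have h2 : ∏ q ∈ Finset.univ.filter (fun q : Blk S X => ¬ biIota S X s • q = q),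
      lam (co S ((biIota S X s : Equiv.Perm X) q.out)) = 1 := by
    refine Finset.prod_involution (fun q _ => biIota S X s • q) ?_ ?_ ?_ ?_
    · intro q _
      rw [← map_mul]
      have e1 := co_biAut S hfree (biIota S X s) ((biIota S X s : Equiv.Perm X) q.out)
      have e4 : blk S ((biIota S X s : Equiv.Perm X) q.out) = biIota S X s • q := by
        rw [← smul_blk]
        congr 1
        exact Quotient.out_eq q
      rw [e4] at e1
      have e2 : (biIota S X s : Equiv.Perm X) ((biIota S X s : Equiv.Perm X) q.out) = q.out := by
        show ((s, 1) : S × S) • ((s, 1) : S × S) • q.out = q.out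
        rw [smul_smul]
        have e3 : ((s, 1) : S × S) * ((s, 1) : S × S) = 1 := by
          ext
          · simp [hs]
          · simp
        rw [e3, one_smul]
      rw [e2, co_out S hfree] at e1
      rw [← e1, map_one]
    · intro q hq _
      exact (Finset.mem_filter.1 hq).2
    · intro q hq
      refine Finset.mem_filter.2 ⟨Finset.mem_univ _, ?_⟩
      rw [hss]
      exact fun h => (Finset.mem_filter.1 hq).2 h.symm
    · intro q _
      exact hss q
  rw [h2, mul_one]
  rfl

end Full

end Cfsg.Agent.Lib.helper86
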