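import Cfsg.Agent.Lib.helper86.Framing
import Cfsg.Agent.Lib.helper86.BisetFocal
import Cfsg.Agent.Lib.helper88.Hyperfocal
import Cfsg.Agent.Lib.helper88.PPowerNormal
import Cfsg.Agent.S5124

/-!
# The hyperfocal subgroup and the derived subgroup (helper86)

`hyp_inf_commutator_le`: for a saturated fusion system `F` over a finite `p`-group `S`,
`hyp(F) ∩ [S, S] ≤ [hyp(F), S]` (stated inside the group `S`).  This is the fusion system form of
the injectivity of inflation `H²(S / hyp(F)) → H²(S)`; it is proved with the twisted transfer of a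
framed characteristic biset (`Framing.lean`), without the theory of subsystems of `p`-power index.
It gives Tate's theorem: `foc(F) = foc(H)` implies `hyp(F) = hyp(H)` for saturated `H ≤ F` over `S`.

Also: `coprime_order_induction` (an element of order prime to `p` is a product of elements of prime
power order prime to `p`), `hyperfocal_le_of_forall_primePow`, `exists_conj_mod_hyperfocal` (every
map of `F` is conjugation by an element of `S` modulo `hyp(F)`).
-/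

set_option autoImplicit false

universe u

namespace Cfsg.Agent.Lib.helper86

open Cfsg Cfsg.FusionSystem Cfsg.Agent.Lib.helper88
open scoped commutatorElement

/-- an element of order prime to `p` is a product of elements of prime power order prime to `p`. -/
theorem coprime_order_induction {G : Type*} [Group G] [Finite G] (p : ℕ) (C : G → Prop)
    (hmul : ∀ a b : G, C a → C b → C (a * b))
    (hpp : ∀ (g : G) (ℓ n : ℕ), ℓ.Prime → ℓ ≠ p → g ^ (ℓ ^ n) = 1 → C g)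
    (g : G) (hg : (orderOf g).Coprime p) : C g := by
  obtain ⟨N, hN⟩ : ∃ N : ℕ, orderOf g = N := ⟨_, rfl⟩
  induction N using Nat.strong_induction_on generalizing g with
  | _ N ih =>
    have hpos : 0 < N := by
      rw [← hN]
      exact orderOf_pos g
    by_cases h1 : N = 1
    · obtain ⟨q, hq, hqp⟩ := Nat.exists_infinite_primes (p + 1)
      refine hpp g q 0 hqp (by omega) ?_
      rw [pow_zero, pow_one]
      rw [h1] at hN
      exact orderOf_eq_one_iff.1 hN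
    · obtain ⟨ℓ, hℓ, hℓN⟩ : ∃ ℓ : ℕ, ℓ.Prime ∧ ℓ ∣ N :=
        ⟨N.minFac, Nat.minFac_prime h1, Nat.minFac_dvd N⟩
      have hℓp : ℓ ≠ p := by
        intro h
        have h2 : p ∣ orderOf g := by
          rw [hN, ← h]
          exact hℓN
        have h3 := Nat.Coprime.eq_one_of_dvd hg.symm h2
        rw [h3] at h
        exact hℓ.ne_one h
      obtain ⟨e, m, hm, hNe⟩ := Nat.exists_eq_pow_mul_and_not_dvd hpos.ne' ℓ hℓ.ne_one
      have hmpos : 0 < m := by
        rcases Nat.eq_zero_or_pos m with h | h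
        · rw [h, mul_zero] at hNe
          omega
        · exact h
      have he : e ≠ 0 := by
        intro h
        rw [h, pow_zero, one_mul] at hNe
        rw [hNe] at hℓN
        exact hm hℓN
      have hord : orderOf g = ℓ ^ e * m := by rw [hN, hNe]
      have hg1 : (g ^ m) ^ (ℓ ^ e) = 1 := by
        rw [← pow_mul, mul_comm, ← hord, pow_orderOf_eq_one]
      have hg2 : (g ^ (ℓ ^ e)) ^ m = 1 := by
        rw [← pow_mul, ← hord, pow_orderOf_eq_one]
      have hcop : Nat.Coprime m (ℓ ^ e) :=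
        (Nat.Coprime.pow_left e ((Nat.Prime.coprime_iff_not_dvd hℓ).2 hm)).symm
      have hbez := Int.gcd_eq_gcd_ab (m : ℤ) ((ℓ ^ e : ℕ) : ℤ)
      have hgcd : ((m : ℤ).gcd ((ℓ ^ e : ℕ) : ℤ)) = 1 := by
        rw [Int.gcd_natCast_natCast]
        exact hcop
      rw [hgcd] at hbez
      have hgeq : g = (g ^ m) ^ (Int.gcdA (m : ℤ) ((ℓ ^ e : ℕ) : ℤ)) *
          (g ^ (ℓ ^ e)) ^ (Int.gcdB (m : ℤ) ((ℓ ^ e : ℕ) : ℤ)) := by
        rw [← zpow_natCast g m, ← zpow_natCast g (ℓ ^ e), ← zpow_mul, ← zpow_mul,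
          ← zpow_add, ← hbez]
        simp
      rw [hgeq]
      refine hmul _ _ ?_ ?_
      · refine hpp _ ℓ e hℓ hℓp ?_
        rw [← zpow_natCast, ← zpow_mul, mul_comm, zpow_mul, zpow_natCast, hg1, one_zpow]
      · have hd : orderOf ((g ^ (ℓ ^ e)) ^ (Int.gcdB (m : ℤ) ((ℓ ^ e : ℕ) : ℤ))) ∣
            m := by
          apply orderOf_dvd_of_pow_eq_one
          rw [← zpow_natCast, ← zpow_mul, mul_comm, zpow_mul, zpow_natCast, hg2, one_zpow]
        have hlt : orderOf ((g ^ (ℓ ^ e)) ^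
            (Int.gcdB (m : ℤ) ((ℓ ^ e : ℕ) : ℤ))) < N := by
          have h2 := Nat.le_of_dvd hmpos hd
          have h3 : 2 ≤ ℓ ^ e := by
            calc 2 ≤ ℓ := hℓ.two_le
              _ = ℓ ^ 1 := (pow_one _).symm
              _ ≤ ℓ ^ e := Nat.pow_le_pow_right hℓ.pos (Nat.one_le_iff_ne_zero.2 he)
          have h4 : m < N := by
            rw [hNe]
            nlinarith
          omega
        have hdN : orderOf ((g ^ (ℓ ^ e)) ^
            (Int.gcdB (m : ℤ) ((ℓ ^ e : ℕ) : ℤ))) ∣ orderOf g := by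
          rw [hord]
          exact Dvd.dvd.mul_left hd _
        exact ih _ hlt _ (Nat.Coprime.coprime_dvd_left hdN hg) rfl

variable {Ω : Type*} [Group Ω] {S : Subgroup Ω}

/-- To show `hyp(F) ≤ K` it suffices to treat the automorphisms of prime power order prime to
`p`. -/
theorem hyperfocal_le_of_forall_primePow [Finite S] (F : FusionSystem S) (p : ℕ) (K : Subgroup Ω)
    (key : ∀ (P : Subgroup Ω), P ≤ S → ∀ (α : F.autGroup P) (ℓ n : ℕ), ℓ.Prime → ℓ ≠ p →
      α ^ (ℓ ^ n) = 1 → ∀ x : P, ((x : Ω)⁻¹ * ((α : MulAut P) x : P)) ∈ K) :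
    F.hyperfocalSubgroup p ≤ K := by
  refine hyperfocal_le_of_forall F p K (fun P hP α hα => ?_)
  haveI : Finite ↥(F.autGroup P) := helper89.finite_autGroup F hP
  refine coprime_order_induction p
    (fun α : F.autGroup P => ∀ x : P, ((x : Ω)⁻¹ * ((α : MulAut P) x : P)) ∈ K) ?_
    (fun g ℓ n hℓ hℓp hg => key P hP g ℓ n hℓ hℓp hg) α hα
  intro a b ha hb x
  have h : ((x : Ω)⁻¹ * ((((a * b : F.autGroup P) : MulAut P) x : P) : Ω)) =
      ((x : Ω)⁻¹ * (((b : MulAut P) x : P) : Ω)) *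
        ((((b : MulAut P) x : P) : Ω)⁻¹ * (((a : MulAut P) ((b : MulAut P) x) : P) : Ω)) := by
    rw [Subgroup.coe_mul, MulAut.mul_apply]
    group
  rw [h]
  exact K.mul_mem (hb x) (ha _)

/-- the maps of `F` that are conjugation by an element of `S` modulo `K`. -/
def conjModSystem (F : FusionSystem S) (K : Subgroup Ω)
    (hK : ∀ g ∈ S, ∀ t ∈ K, g * t * g⁻¹ ∈ K) : FusionSystem S where
  Hom P := {φ | φ ∈ F.Hom P ∧ ∃ s ∈ S, ∀ x : P, (s * (x : Ω) * s⁻¹)⁻¹ * φ x ∈ K}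
  le_of_mem h := F.le_of_mem h.1
  injective_of_mem h := F.injective_of_mem h.1
  conj_mem := by
    intro P g hP hg
    refine ⟨F.conj_mem hP hg, g, hg, fun x => ?_⟩
    have e : (g * (x : Ω) * g⁻¹)⁻¹ * conjHom P g x = 1 := by
      show (g * (x : Ω) * g⁻¹)⁻¹ * (g * (x : Ω) * g⁻¹) = 1
      group
    rw [e]
    exact K.one_mem
  comp_mem := by
    rintro P Q φ ψ ⟨hφ, s, hs, hφK⟩ ⟨hψ, t, ht, hψK⟩ h
    refine ⟨F.comp_mem hφ hψ h, t * s, S.mul_mem ht hs, fun x => ?_⟩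
    show ((t * s) * (x : Ω) * (t * s)⁻¹)⁻¹ * ψ ⟨φ x, h x⟩ ∈ K
    have e : ((t * s) * (x : Ω) * (t * s)⁻¹)⁻¹ * ψ ⟨φ x, h x⟩ =
        (t * ((s * (x : Ω) * s⁻¹)⁻¹ * φ x) * t⁻¹) * ((t * φ x * t⁻¹)⁻¹ * ψ ⟨φ x, h x⟩) := by
      group
    rw [e]
    exact K.mul_mem (hK t ht _ (hφK x)) (hψK ⟨φ x, h x⟩)
  inv_mem := by
    rintro P φ ⟨hφ, s, hs, hφK⟩
    obtain ⟨σ, hσ, hσinv⟩ := F.inv_mem hφ
    refine ⟨σ, ⟨hσ, s⁻¹, S.inv_mem hs, ?_⟩, hσinv⟩
    rintro ⟨_, x, rfl⟩
    rw [hσinv x]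
    show (s⁻¹ * φ x * s⁻¹⁻¹)⁻¹ * (x : Ω) ∈ K
    have e : (s⁻¹ * φ x * s⁻¹⁻¹)⁻¹ * (x : Ω) =
        s⁻¹ * ((s * (x : Ω) * s⁻¹)⁻¹ * φ x)⁻¹ * s⁻¹⁻¹ := by group
    rw [e]
    exact hK s⁻¹ (S.inv_mem hs) _ (K.inv_mem (hφK x))

/-- every map of a saturated fusion system is conjugation by an element of `S` modulo the
hyperfocal subgroup. -/
theorem exists_conj_mod_hyperfocal [Finite S] {p : ℕ} [Fact p.Prime] (hS : IsPGroup p S)
    (F : FusionSystem S) (hF : F.IsSaturated p) {P : Subgroup Ω} {φ : P →* Ω}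
    (hφ : φ ∈ F.Hom P) :
    ∃ s ∈ S, ∀ x : P, (s * (x : Ω) * s⁻¹)⁻¹ * φ x ∈ F.hyperfocalSubgroup p := by
  have key : ∀ P : Subgroup Ω, F.Hom P ⊆ (conjModSystem F (F.hyperfocalSubgroup p)
      (fun g hg t ht => Cfsg.Agent.S5124.hyp_conj_mem F p hg ht)).Hom P := by
    refine helper89.saturated_induction F _ hS hF ?_
    intro R hfa hrec _ α hα
    have hRS : R ≤ S := hfa.1
    obtain ⟨s, hs, u, hu, hsu⟩ := exists_mul_pResidual_of_fullyAutomized F hfa hα
    obtain ⟨g, hg, hgs⟩ := (mem_autInducedBy_iff S R s).mp hs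
    refine ⟨(mem_autGroup_iff' F hRS α).mp hα, g, hg, fun x => ?_⟩
    have h1 : (x : Ω)⁻¹ * ((u x : R) : Ω) ∈ F.hyperfocalSubgroup p :=
      pResidual_gen_mem F p hRS hu x
    show (g * (x : Ω) * g⁻¹)⁻¹ * ((α x : R) : Ω) ∈ F.hyperfocalSubgroup p
    rw [hsu, MulAut.mul_apply, hgs]
    have e : (g * (x : Ω) * g⁻¹)⁻¹ * (g * ((u x : R) : Ω) * g⁻¹) =
        g * ((x : Ω)⁻¹ * ((u x : R) : Ω)) * g⁻¹ := by group
    rw [e]
    exact Cfsg.Agent.S5124.hyp_conj_mem F p hg h1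
  exact (key P hφ).2

open scoped IsMulCommutative in
/-- a conjugation invariant homomorphism on a normal subgroup `U` with kernel `[U, S]`. -/
theorem exists_invHom {Ω : Type u} [Group Ω] (S : Subgroup Ω) (U : Subgroup S) [hU : U.Normal] :
    ∃ (A : Type u) (_ : CommGroup A) (π : S → A), IsInvHom S U π ∧
      ∀ u ∈ U, π u = 1 → u ∈ ⁅U, (⊤ : Subgroup S)⁆ := by
  classical
  have hcentral : ∀ s ∈ U, ((s : S) : S ⧸ ⁅U, (⊤ : Subgroup S)⁆) ∈
      Subgroup.center (S ⧸ ⁅U, (⊤ : Subgroup S)⁆) := by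
    intro s hs
    rw [Subgroup.mem_center_iff]
    intro g
    induction g using QuotientGroup.induction_on with
    | H t =>
      rw [← QuotientGroup.mk_mul, ← QuotientGroup.mk_mul]
      apply QuotientGroup.eq.2
      have e : (t * s)⁻¹ * (s * t) = ⁅s⁻¹, t⁻¹⁆ := by
        rw [commutatorElement_def]
        group
      rw [e]
      exact Subgroup.commutator_mem_commutator (U.inv_mem hs) (Subgroup.mem_top _)
  obtain ⟨π, hπ⟩ : ∃ π : S → Subgroup.center (S ⧸ ⁅U, (⊤ : Subgroup S)⁆),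
      ∀ s : S, π s = if h : s ∈ U then ⟨(s : S ⧸ ⁅U, (⊤ : Subgroup S)⁆), hcentral s h⟩ else 1 :=
    ⟨fun s => if h : s ∈ U then ⟨(s : S ⧸ ⁅U, (⊤ : Subgroup S)⁆), hcentral s h⟩ else 1,
      fun s => rfl⟩
  refine ⟨Subgroup.center (S ⧸ ⁅U, (⊤ : Subgroup S)⁆), inferInstance, π, ⟨?_, ?_⟩, ?_⟩
  · intro u hu v hv
    rw [hπ, hπ, hπ, dif_pos hu, dif_pos hv, dif_pos (U.mul_mem hu hv)]
    rfl
  · intro s u hu
    rw [hπ, hπ, dif_pos hu, dif_pos (hU.conj_mem u hu s)]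
    apply Subtype.ext
    show ((s * u * s⁻¹ : S) : S ⧸ ⁅U, (⊤ : Subgroup S)⁆) = ((u : S) : S ⧸ ⁅U, (⊤ : Subgroup S)⁆)
    apply QuotientGroup.eq.2
    have e : (s * u * s⁻¹)⁻¹ * u = ⁅s, u⁻¹⁆ := by
      rw [commutatorElement_def]
      group
    rw [e, Subgroup.commutator_comm]
    exact Subgroup.commutator_mem_commutator (Subgroup.mem_top _) (U.inv_mem hu)
  · intro u hu h1
    rw [hπ, dif_pos hu] at h1
    have h2 := congrArg Subtype.val h1
    exact (QuotientGroup.eq_one_iff u).1 h2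

/-- conjugation by a power. -/
theorem conj_pow_of_conj {P G : Type*} [Group P] [Group G] (ι : P →* G) (α : MulAut P) (g : G)
    (h : ∀ u : P, ι (α u) = g * ι u * g⁻¹) (j : ℕ) (u : P) :
    ι ((α ^ j) u) = g ^ j * ι u * (g ^ j)⁻¹ := by
  induction j generalizing u with
  | zero => simp
  | succ j ih =>
    rw [pow_succ, MulAut.mul_apply, ih, h, pow_succ]
    group

/-- an automorphism of `ℓ`-power order realized by conjugation in a finite group is realized by an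
element of `ℓ`-power order. -/
theorem exists_conj_primePow {P G : Type*} [Group P] [Group G] [Finite G] (ι : P →* G)
    (α : MulAut P) (g₀ : G) (h : ∀ u : P, ι (α u) = g₀ * ι u * g₀⁻¹) (ℓ n : ℕ) (hℓ : ℓ.Prime)
    (hα : α ^ (ℓ ^ n) = 1) :
    ∃ (g : G) (e : ℕ), g ^ (ℓ ^ e) = 1 ∧ ∀ u : P, ι (α u) = g * ι u * g⁻¹ := by
  obtain ⟨e, m, hm, hNe⟩ := Nat.exists_eq_pow_mul_and_not_dvd (orderOf_pos g₀).ne' ℓ hℓ.ne_one
  by_cases hn : ℓ ^ n = 1
  · rw [hn, pow_one] at hα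
    refine ⟨1, 0, one_pow _, fun u => ?_⟩
    rw [hα]
    simp
  · have h1 : 1 < ℓ ^ n := by
      have := Nat.pos_of_ne_zero (pow_ne_zero n hℓ.ne_zero)
      omega
    have hcop : Nat.Coprime m (ℓ ^ n) :=
      (Nat.Coprime.pow_left n ((Nat.Prime.coprime_iff_not_dvd hℓ).2 hm)).symm
    obtain ⟨m', -, hm'⟩ := Nat.exists_mul_mod_eq_one_of_coprime hcop h1
    refine ⟨g₀ ^ (m * m'), e, ?_, fun u => ?_⟩
    · rw [← pow_mul]
      have e1 : m * m' * ℓ ^ e = orderOf g₀ * m' := by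
        rw [hNe]
        ring
      rw [e1, pow_mul, pow_orderOf_eq_one, one_pow]
    · have e1 : α ^ (m * m') = α := by
        have e2 := Nat.div_add_mod (m * m') (ℓ ^ n)
        rw [hm'] at e2
        rw [← e2, pow_add, pow_mul, hα, one_pow, one_mul, pow_one]
      have h2 := conj_pow_of_conj ι α g₀ h (m * m') u
      rw [e1] at h2
      exact h2

/-- **The hyperfocal subgroup and the derived subgroup**: `hyp(F) ∩ [S, S] ≤ [hyp(F), S]` for a
saturated fusion system `F` over a finite `p`-group `S`. -/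
theorem hyp_inf_commutator_le [Finite S] {p : ℕ} [Fact p.Prime] (hS : IsPGroup p S)
    (F : FusionSystem S) (hF : F.IsSaturated p) :
    (F.hyperfocalSubgroup p).subgroupOf S ⊓ commutator S ≤
      ⁅(F.hyperfocalSubgroup p).subgroupOf S, (⊤ : Subgroup S)⁆ := by
  classical
  letI : Fintype (Subgroup (S × S)) := Fintype.ofFinite _
  obtain ⟨k, hk1, hst, r, hr, hpr⟩ := exists_char hS F hF
  have hk3 : ∀ (Q : Subgroup Ω) (χ χ' : Q →* Ω), χ ∈ F.Hom Q → χ' ∈ F.Hom Q →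
      mark k (tw S Q χ) = mark k (tw S Q χ') := by
    intro Q χ χ' hχ hχ'
    haveI : Finite Q := finite_of_le (F.le_of_mem hχ).1
    exact hst Q Q χ χ' hχ hχ' (isConj_refl F (F.le_of_mem hχ).1) Nat.card_pos
  have hfree := real_free_right F k hk1
  have hX : Nat.card (Real k) = Nat.card S * r := by
    rw [← hr, ← card_fix_real k ⊥]
    symm
    exact Nat.card_congr (Equiv.subtypeUnivEquiv (fun x e he => by
      rw [Subgroup.mem_bot.1 he, one_smul]))
  have hblk : Nat.card (Blk S (Real k)) = r := by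
    have h1 := card_blk_mul S (X := Real k) hfree
    rw [hX, mul_comm] at h1
    exact Nat.eq_of_mul_eq_mul_left Nat.card_pos h1
  letI : Fintype (Blk S (Real k)) := Fintype.ofFinite _
  have hcard : Fintype.card (Blk S (Real k)) = r := by
    rw [← Nat.card_eq_fintype_card, hblk]
  obtain ⟨U, hU⟩ : ∃ U : Subgroup S, U = (F.hyperfocalSubgroup p).subgroupOf S := ⟨_, rfl⟩
  have hUmem : ∀ s : S, s ∈ U ↔ (s : Ω) ∈ F.hyperfocalSubgroup p := by
    intro s
    rw [hU]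
    exact Subgroup.mem_subgroupOf
  haveI hUn : U.Normal := by
    constructor
    intro n hn g
    rw [hUmem] at hn ⊢
    exact Cfsg.Agent.S5124.hyp_conj_mem F p g.2 hn
  rw [← hU]
  obtain ⟨A, instA, π, hπ, hker⟩ := exists_invHom S U
  letI := instA
  have hstab : ∀ y : Real k, ∃ s : S, ∀ a b : S, ((a, b) : S × S) • y = y →
      (a : S ⧸ U) = (s : S ⧸ U) * (b : S ⧸ U) * (s : S ⧸ U)⁻¹ := by
    intro y
    obtain ⟨Q, χ, hχ, hfix⟩ := real_fix_tw F k hk1 y
    obtain ⟨s, hs, hsχ⟩ := exists_conj_mod_hyperfocal hS F hF hχ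
    refine ⟨⟨s, hs⟩, fun a b hab => ?_⟩
    obtain ⟨hb, hba⟩ := (hfix (a, b)).1 hab
    have h1 := hsχ ⟨b, hb⟩
    rw [hba] at h1
    rw [← QuotientGroup.mk_inv, ← QuotientGroup.mk_mul, ← QuotientGroup.mk_mul]
    symm
    apply QuotientGroup.eq.2
    rw [hUmem]
    exact h1
  obtain ⟨Θ₀, hΘ₀⟩ := exists_theta_top S hstab
  have hρ₀ := framingOf_isFraming S hfree hΘ₀
  obtain ⟨τ₀, hτ₀⟩ : ∃ τ₀ : S →* A, ∀ s, τ₀ s = NF S π (framingOf S U Θ₀) s :=
    ⟨MonoidHom.mk' (NF S π (framingOf S U Θ₀))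
      (fun a b => NF_mul S hπ hρ₀ (Subgroup.mem_top a) (Subgroup.mem_top b)), fun s => rfl⟩
  obtain ⟨K, hK⟩ : ∃ K : Subgroup S, ∀ u, u ∈ K ↔ u ∈ U ∧ τ₀ u = π u ^ r := by
    refine ⟨{ carrier := {u | u ∈ U ∧ τ₀ u = π u ^ r}
              one_mem' := ⟨U.one_mem, by rw [map_one, hπ.one, one_pow]⟩
              mul_mem' := fun {a b} ha hb => ⟨U.mul_mem ha.1 hb.1, by
                rw [map_mul, ha.2, hb.2, hπ.mul a ha.1 b hb.1, mul_pow]⟩
              inv_mem' := fun {a} ha => ⟨U.inv_mem ha.1, by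
                rw [map_inv, ha.2, hπ.inv S ha.1, inv_pow]⟩ }, fun u => Iff.rfl⟩
  have hle : F.hyperfocalSubgroup p ≤ K.map S.subtype := by
    refine hyperfocal_le_of_forall_primePow F p _ ?_
    intro P hP α ℓ n hℓ hℓp hαn x
    haveI : Fact ℓ.Prime := ⟨hℓ⟩
    have hφ : P.subtype.comp (α : MulAut P).toMonoidHom ∈ F.Hom P :=
      (mem_autGroup_iff' F hP α).mp α.2
    have hφS : ∀ u : P, (P.subtype.comp (α : MulAut P).toMonoidHom) u ∈ S :=
      fun u => hP ((α : MulAut P) u).2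
    obtain ⟨g₀, hg₀⟩ := exists_biAut_conj F k hk1 hk3 hP hφ hφS
    have hαn' : (α : MulAut P) ^ (ℓ ^ n) = 1 := by
      rw [← Subgroup.coe_pow, hαn]
      rfl
    obtain ⟨g, e, hge, hg⟩ := exists_conj_primePow
      ((biIota S (Real k)).comp (Subgroup.inclusion hP)) (α : MulAut P) g₀
      (fun u => hg₀ u) ℓ n hℓ hαn'
    have hhyp : ∀ u : P, (u : Ω)⁻¹ * (((α : MulAut P) u : P) : Ω) ∈ F.hyperfocalSubgroup p := by
      intro u
      refine Subgroup.subset_closure ⟨P, α, u, hP, Subgroup.subset_closure ?_, rfl⟩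
      have hd : orderOf α ∣ ℓ ^ n := orderOf_dvd_of_pow_eq_one hαn
      exact Nat.Coprime.coprime_dvd_left hd
        (Nat.Coprime.pow_left n ((Nat.coprime_primes hℓ Fact.out).2 hℓp))
    have hgy : ∀ (u : P) (y : Real k),
        (g : Equiv.Perm (Real k)) (((⟨u, hP u.2⟩, 1) : S × S) • y) =
          ((⟨(((α : MulAut P) u : P) : Ω), hP ((α : MulAut P) u).2⟩, 1) : S × S) •
            (g : Equiv.Perm (Real k)) y := by
      intro u y
      have h1 := congrArg (fun h : biAut S (Real k) =>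
        (h : Equiv.Perm (Real k)) ((g : Equiv.Perm (Real k)) y)) (hg u)
      have h2 : ((g * ((biIota S (Real k)).comp (Subgroup.inclusion hP)) u * g⁻¹ :
          biAut S (Real k)) : Equiv.Perm (Real k)) ((g : Equiv.Perm (Real k)) y) =
          (g : Equiv.Perm (Real k)) (((⟨u, hP u.2⟩, 1) : S × S) • y) := by
        rw [Subgroup.coe_mul, Subgroup.coe_mul, Subgroup.coe_inv, Equiv.Perm.mul_apply,
          Equiv.Perm.mul_apply, Equiv.Perm.inv_def, Equiv.symm_apply_apply]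
        rfl
      exact h2.symm.trans h1.symm
    have hΘP : IsTheta S U (P.subgroupOf S) Θ₀ :=
      ⟨hΘ₀.1, fun a _ y => hΘ₀.2 a (Subgroup.mem_top a) y⟩
    obtain ⟨Θ', hΘ', hΘfix⟩ := exists_theta_fixed S hS (P.subgroupOf S) Θ₀ hΘP g ℓ e hℓp hge (by
      intro a ha
      have ha' : (a : Ω) ∈ P := Subgroup.mem_subgroupOf.1 ha
      refine ⟨⟨(((α : MulAut P) ⟨a, ha'⟩ : P) : Ω), hP ((α : MulAut P) ⟨a, ha'⟩).2⟩,
        Subgroup.mem_subgroupOf.2 ((α : MulAut P) ⟨a, ha'⟩).2, ?_, fun y => ?_⟩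
      · rw [hUmem]
        exact hhyp ⟨a, ha'⟩
      · exact hgy ⟨a, ha'⟩ y)
    have hρ' := framingOf_isFraming S hfree hΘ'
    have hw : ∀ y : Real k, framingOf S U Θ' ((g : Equiv.Perm (Real k)) y) *
        (framingOf S U Θ' y)⁻¹ ∈ U := fun y => framingOf_inv S hΘ' (hΘfix y)
    obtain ⟨a, ha⟩ : ∃ a : S, a = ⟨x, hP x.2⟩ := ⟨_, rfl⟩
    obtain ⟨b, hb⟩ : ∃ b : S, b = ⟨(((α : MulAut P) x : P) : Ω), hP ((α : MulAut P) x).2⟩ :=
      ⟨_, rfl⟩
    have haP : a ∈ P.subgroupOf S := by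
      rw [ha]
      exact Subgroup.mem_subgroupOf.2 x.2
    have hbP : b ∈ P.subgroupOf S := by
      rw [hb]
      exact Subgroup.mem_subgroupOf.2 ((α : MulAut P) x).2
    have habU : a⁻¹ * b ∈ U := by
      rw [hUmem, ha, hb]
      exact hhyp x
    have habP : a⁻¹ * b ∈ P.subgroupOf S := mul_mem (inv_mem haP) hbP
    have h1 := NF_twist S hπ hρ' g haP hbP habU (by
      intro y
      rw [ha, hb]
      exact hgy x y) hw
    have h2 := NF_mul S hπ hρ' haP habP
    rw [mul_inv_cancel_left, h1] at h2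
    have h3 : NF S π (framingOf S U Θ') (a⁻¹ * b) = π (a⁻¹ * b) ^ r := by
      rw [← hcard]
      exact (mul_left_cancel h2).symm
    have h4 := NF_eq_of_mem S hπ (IsFraming.mono S hρ₀ le_top) hρ' habP habU
    refine ⟨a⁻¹ * b, (hK _).2 ⟨habU, ?_⟩, ?_⟩
    · rw [hτ₀, ← h4, h3]
    · rw [ha, hb]
      rfl
  rintro u ⟨huU, huC⟩
  have huK : u ∈ K := by
    obtain ⟨u', hu', e⟩ := hle ((hUmem u).1 huU)
    have e' : u' = u := Subtype.ext e
    rw [← e']
    exact hu'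
  obtain ⟨_, h2⟩ := (hK u).1 huK
  have h3 : τ₀ u = 1 := (Abelianization.commutator_subset_ker τ₀) huC
  rw [h3] at h2
  obtain ⟨j, hj⟩ := hS u
  have hpow : ∀ i : ℕ, π (u ^ i) = π u ^ i := by
    intro i
    induction i with
    | zero => rw [pow_zero, pow_zero, hπ.one]
    | succ i ih => rw [pow_succ, pow_succ, hπ.mul _ (U.pow_mem huU i) _ huU, ih]
  have h4 : π u ^ (p ^ j) = 1 := by
    rw [← hpow, hj, hπ.one]
  have d1 : orderOf (π u) ∣ r := orderOf_dvd_of_pow_eq_one h2.symm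
  have d2 : orderOf (π u) ∣ p ^ j := orderOf_dvd_of_pow_eq_one h4
  have hc : Nat.Coprime (p ^ j) r :=
    Nat.Coprime.pow_left j ((Nat.Prime.coprime_iff_not_dvd Fact.out).2 hpr)
  have h5 : orderOf (π u) = 1 := Nat.eq_one_of_dvd_coprimes hc d2 d1
  exact hker u huU (orderOf_eq_one_iff.1 h5)

end Cfsg.Agent.Lib.helper86
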