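import Cfsg.Agent.Lib.helper86.BisetFocal

/-!
# Naturality of the transfer of a saturated fusion system (helper86)

`exists_transfer_pair`: the transfer `τ` of `lam : S →* A` of `exists_transfer`, with the evaluation
formula read after a homomorphism `π : A →* A'`: `π (τ s) = c ^ m` whenever `π (lam b) = c ^ n` for
all `b` such that `b⁻¹` is sent to `s ^ n` by a map of `F`.
-/

set_option autoImplicit false

namespace Cfsg.Agent.Lib.helper86

open Cfsg Cfsg.FusionSystem Cfsg.Agent.Lib.helper88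

/-- the difference of two transversals is natural in the coefficients. -/
theorem map_diff_comp {G A A' : Type*} [Group G] [CommGroup A] [CommGroup A'] {H : Subgroup G}
    [H.FiniteIndex] (ϕ : H →* A) (π : A →* A') (R T : H.LeftTransversal) :
    π (Subgroup.leftTransversals.diff ϕ R T) = Subgroup.leftTransversals.diff (π.comp ϕ) R T := by
  unfold Subgroup.leftTransversals.diff
  exact map_prod π _ _

/-- the transfer is natural in the coefficients. -/
theorem map_transfer_comp {G A A' : Type*} [Group G] [CommGroup A] [CommGroup A'] {H : Subgroup G}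
    [H.FiniteIndex] (ϕ : H →* A) (π : A →* A') (g : G) :
    π (MonoidHom.transfer ϕ g) = MonoidHom.transfer (π.comp ϕ) g := by
  rw [MonoidHom.transfer_def ϕ default g, MonoidHom.transfer_def (π.comp ϕ) default g,
    map_diff_comp]

variable {Ω : Type*} [Group Ω] {S : Subgroup Ω}

theorem comp_blkHom {X : Type*} [MulAction (S × S) X]
    (hfree : ∀ (x : X) (c : S), (((1 : S), c) : S × S) • x = x → c = 1)
    {A A' : Type*} [CommGroup A] [CommGroup A'] (lam : S →* A) (π : A →* A') (x₀ : X) :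
    π.comp (blkHom S hfree lam x₀) = blkHom S hfree (π.comp lam) x₀ := by
  ext g
  obtain ⟨b, hb⟩ := (mem_stabilizer_blk S).1 g.2
  show π (blkHom S hfree lam x₀ g) = _
  rw [blkHom_apply S hfree lam x₀ g b hb, blkHom_apply S hfree (π.comp lam) x₀ g b hb]
  rfl

theorem map_blkTransfer {X : Type*} [MulAction (S × S) X] [Finite X]
    (hfree : ∀ (x : X) (c : S), (((1 : S), c) : S × S) • x = x → c = 1)
    {A A' : Type*} [CommGroup A] [CommGroup A'] (lam : S →* A) (π : A →* A') (x₀ : X)
    (g : biAut S X) :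
    π (blkTransfer S hfree lam x₀ g) = blkTransfer S hfree (π.comp lam) x₀ g := by
  unfold blkTransfer
  rw [map_transfer_comp, comp_blkHom]

/-- **Transfer for saturated fusion systems**, with the evaluation read after `π`. -/
theorem exists_transfer_pair {p : ℕ} [Fact p.Prime] [Finite S] (hS : IsPGroup p S)
    (F : FusionSystem S) (hF : F.IsSaturated p) {A A' : Type*} [CommGroup A] [CommGroup A']
    (lam : S →* A) (π : A →* A') :
    ∃ (τ : S →* A) (m : ℕ), ¬ p ∣ m ∧
      (∀ (P : Subgroup Ω) (φ : P →* Ω) (hφ : φ ∈ F.Hom P) (u : P),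
        τ ⟨φ u, (F.le_of_mem hφ).2 u⟩ = τ ⟨u, (F.le_of_mem hφ).1 u.2⟩) ∧
      (∀ (s : S) (c : A'),
        (∀ (n : ℕ) (Q : Subgroup Ω) (χ : Q →* Ω) (b : S) (hb : (b : Ω)⁻¹ ∈ Q), χ ∈ F.Hom Q →
          χ ⟨(b : Ω)⁻¹, hb⟩ = (s : Ω) ^ n → π (lam b) = c ^ n) → π (τ s) = c ^ m) := by
  classical
  letI : Fintype (Subgroup (S × S)) := Fintype.ofFinite _
  obtain ⟨k, hk1, hst, r, hr, hpr⟩ := exists_char hS F hF
  have hk3 : ∀ (Q : Subgroup Ω) (χ χ' : Q →* Ω), χ ∈ F.Hom Q → χ' ∈ F.Hom Q →
      mark k (tw S Q χ) = mark k (tw S Q χ') := by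
    intro Q χ χ' hχ hχ'
    haveI : Finite Q := finite_of_le (F.le_of_mem hχ).1
    exact hst Q Q χ χ' hχ hχ' (isConj_refl F (F.le_of_mem hχ).1) Nat.card_pos
  have hfree := real_free_right F k hk1
  have hX : Nat.card (Real k) = Nat.card S * r := by
    rw [← hr, ← card_fix_real k ⊥]
    symm
    exact Nat.card_congr (Equiv.subtypeUnivEquiv (fun x e he => by
      rw [Subgroup.mem_bot.1 he, one_smul]))
  have hblk : Nat.card (Blk S (Real k)) = r := by
    have h1 := card_blk_mul S (X := Real k) hfree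
    rw [hX, mul_comm] at h1
    exact Nat.eq_of_mul_eq_mul_left Nat.card_pos h1
  obtain ⟨x₀, hx₀⟩ := exists_index_not_dvd S (X := Real k) (p := p) (by rw [hblk]; exact hpr)
  refine ⟨(blkTransfer S hfree lam x₀).comp (biIota S (Real k)), _, hx₀, ?_, ?_⟩
  · intro P φ hφ u
    obtain ⟨g, hg⟩ := exists_biAut_conj F k hk1 hk3 (F.le_of_mem hφ).1 hφ (F.le_of_mem hφ).2
    show blkTransfer S hfree lam x₀ (biIota S (Real k) _) =
      blkTransfer S hfree lam x₀ (biIota S (Real k) _)
    rw [hg u, blkTransfer_conj]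
  · intro s c hc
    show π (blkTransfer S hfree lam x₀ (biIota S (Real k) s)) = _
    rw [map_blkTransfer]
    apply blkTransfer_biIota
    intro x n b hxb
    have h1 : ((s ^ n, b⁻¹) : S × S) • x = x := by
      have e : ((s ^ n, b⁻¹) : S × S) = (((1 : S), b⁻¹) : S × S) * ((s ^ n, 1) : S × S) := by
        ext <;> simp
      rw [e, mul_smul, hxb, smul_smul]
      have e2 : (((1 : S), b⁻¹) : S × S) * (((1 : S), b) : S × S) = 1 := by
        ext <;> simp
      rw [e2, one_smul]
    obtain ⟨Q, χ, hχ, hfix⟩ := real_fix_tw F k hk1 x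
    obtain ⟨hq, e⟩ := (hfix _).1 h1
    exact hc n Q χ b hq hχ e

end Cfsg.Agent.Lib.helper86
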