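import Cfsg.Agent.Lib.helper86.HypTransfer
import Cfsg.Agent.Lib.helper86.TransferNat
import Cfsg.Agent.Lib.helper89.Focal
import Cfsg.Agent.Lib.helper89.FusionSat
import Cfsg.Agent.Lib.helper71.Frattini
import Cfsg.Agent.Lib.helper3.PGroupFrattini

/-!
# Tate's theorem for saturated fusion systems (helper86)

For a saturated fusion system `F` over a finite `p`-group `S`:

* `focal_le_of_le_frattini_sup`: if `[S, S] ≤ N ≤ foc(F)` and `foc(F) ≤ Φ(S) N` then `foc(F) ≤ N`
  (by the transfer and induction on the exponent of the coefficients);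
* `hyperfocal_le_of_le_sup_commutator`: if `V ≤ hyp(F)` is normal in `S` and
  `hyp(F) ≤ V [S, S]` then `hyp(F) ≤ V` (by `hyp_inf_commutator_le` and nilpotency);
* `hyperfocal_eq_bot_of_focal_le_frattini`, `hom_eq_inner_of_focal_le_frattini`: if
  `foc(F) ≤ Φ(S)` then `hyp(F) = 1` and `F` is the inner fusion system of `S`.

All subgroups of `S` are subgroups of the group `S` here (`foc(F).subgroupOf S`, ...).
-/

set_option autoImplicit false

universe u

namespace Cfsg.Agent.Lib.helper86

open Cfsg Cfsg.FusionSystem Cfsg.Agent.Lib.helper88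
open scoped commutatorElement

/-- in a nilpotent group a subgroup `U ≤ [U, G]` is trivial. -/
theorem eq_bot_of_le_commutator_top {G : Type*} [Group G] [hG : Group.IsNilpotent G]
    (U : Subgroup G) (h : U ≤ ⁅U, (⊤ : Subgroup G)⁆) : U = ⊥ := by
  obtain ⟨n, hn⟩ := Subgroup.nilpotent_iff_lowerCentralSeries.1 hG
  have key : ∀ n, U ≤ (⊤ : Subgroup G).lowerCentralSeries n := by
    intro n
    induction n with
    | zero => exact le_top
    | succ n ih => exact h.trans (Subgroup.commutator_mono ih le_rfl)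
  exact le_bot_iff.1 (hn ▸ key n)

/-- in a nilpotent group, `U ≤ V [U, G]` with `V` normal implies `U ≤ V`. -/
theorem le_of_le_sup_commutator_top {G : Type*} [Group G] [Group.IsNilpotent G]
    (U V : Subgroup G) [V.Normal] (h : U ≤ V ⊔ ⁅U, (⊤ : Subgroup G)⁆) : U ≤ V := by
  have h1 : U.map (QuotientGroup.mk' V) ≤
      ⁅U.map (QuotientGroup.mk' V), (⊤ : Subgroup (G ⧸ V))⁆ := by
    refine (Subgroup.map_mono h).trans ?_
    rw [Subgroup.map_sup, QuotientGroup.map_mk'_self, bot_sup_eq, Subgroup.map_commutator]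
    exact Subgroup.commutator_mono le_rfl le_top
  have h2 := eq_bot_of_le_commutator_top _ h1
  rw [Subgroup.map_eq_bot_iff, QuotientGroup.ker_mk'] at h2
  exact h2

section Stable

variable {Ω : Type*} [Group Ω] {S : Subgroup Ω}

/-- `lam` is constant along the maps of `F`. -/
def IsStableHom (F : FusionSystem S) {A : Type*} [Group A] (lam : S →* A) : Prop :=
  ∀ (P : Subgroup Ω) (φ : P →* Ω) (hφ : φ ∈ F.Hom P) (u : P),
    lam ⟨φ u, (F.le_of_mem hφ).2 u⟩ = lam ⟨u, (F.le_of_mem hφ).1 u.2⟩

theorem isStableHom_iff (F : FusionSystem S) {A : Type*} [Group A] (lam : S →* A) :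
    IsStableHom F lam ↔ F.focalSubgroup.subgroupOf S ≤ lam.ker := by
  constructor
  · intro h
    have h1 : F.focalSubgroup ≤ lam.ker.map S.subtype := by
      unfold FusionSystem.focalSubgroup
      rw [Subgroup.closure_le]
      rintro _ ⟨P, φ, x, hφ, rfl⟩
      have hxS := (F.le_of_mem hφ).1 x.2
      have hφS := (F.le_of_mem hφ).2 x
      refine ⟨(⟨x, hxS⟩ : S)⁻¹ * ⟨φ x, hφS⟩, ?_, rfl⟩
      show _ ∈ lam.ker
      rw [MonoidHom.mem_ker, map_mul, map_inv, h P φ hφ x, inv_mul_cancel]
    intro s hs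
    obtain ⟨s', hs', e⟩ := h1 (Subgroup.mem_subgroupOf.1 hs)
    have e' : s' = s := Subtype.ext e
    rw [← e']
    exact hs'
  · intro h P φ hφ u
    have hxS := (F.le_of_mem hφ).1 u.2
    have hφS := (F.le_of_mem hφ).2 u
    have h1 : (⟨u, hxS⟩ : S)⁻¹ * ⟨φ u, hφS⟩ ∈ F.focalSubgroup.subgroupOf S :=
      Subgroup.mem_subgroupOf.2 (Subgroup.subset_closure ⟨P, φ, u, hφ, rfl⟩)
    have h2 := h h1
    rw [MonoidHom.mem_ker, map_mul, map_inv, inv_mul_eq_one] at h2
    exact h2.symm

end Stable

variable {Ω : Type u} [Group Ω] {S : Subgroup Ω}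

/-- **Tate's theorem, focal form**: if `[S, S] ≤ N ≤ foc(F)` and `foc(F) ≤ Φ(S) N` then
`foc(F) ≤ N`. -/
theorem focal_le_of_le_frattini_sup [Finite S] {p : ℕ} [Fact p.Prime] (hS : IsPGroup p S)
    (F : FusionSystem S) (hF : F.IsSaturated p) (N : Subgroup S) (hN1 : commutator S ≤ N)
    (hN2 : N ≤ F.focalSubgroup.subgroupOf S)
    (h : F.focalSubgroup.subgroupOf S ≤ frattini S ⊔ N) :
    F.focalSubgroup.subgroupOf S ≤ N := by
  have hp : p.Prime := Fact.out
  have key : ∀ (e : ℕ) {A : Type u} [CommGroup A] (lam : S →* A),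
      (∀ s, lam s ^ (p ^ e) = 1) → N ≤ lam.ker → IsStableHom F lam := by
    intro e
    induction e with
    | zero =>
      intro A _ lam h1 _ P φ hφ u
      have h2 : ∀ s, lam s = 1 := by
        intro s
        have h3 := h1 s
        rw [pow_zero, pow_one] at h3
        exact h3
      rw [h2, h2]
    | succ e ih =>
      intro A _ lam h1 hNlam
      have hπ : IsStableHom F ((powMonoidHom p).comp lam) := ih _ (fun s => by
          show (lam s ^ p) ^ (p ^ e) = 1
          rw [← pow_mul, ← pow_succ']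
          exact h1 s) (fun n hn => by
          rw [MonoidHom.mem_ker]
          show lam n ^ p = 1
          rw [MonoidHom.mem_ker.1 (hNlam hn), one_pow])
      obtain ⟨τ, m, hm, hτ, hev⟩ := exists_transfer_pair hS F hF lam (powMonoidHom p)
      have hτ' : IsStableHom F τ := hτ
      have hτker := (isStableHom_iff F τ).1 hτ'
      have hval : ∀ s : S, (τ s * lam s ^ m) ^ p = 1 := by
        intro s
        have h2 := hev s ((lam s ^ p)⁻¹) (by
          intro n Q χ b hb hχ hχs
          have h3 := hπ Q χ hχ ⟨(b : Ω)⁻¹, hb⟩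
          have e1 : (⟨χ ⟨(b : Ω)⁻¹, hb⟩, (F.le_of_mem hχ).2 _⟩ : S) = s ^ n :=
            Subtype.ext (hχs.trans (Subgroup.coe_pow S s n).symm)
          have e2 : (⟨((⟨(b : Ω)⁻¹, hb⟩ : Q) : Ω), (F.le_of_mem hχ).1 hb⟩ : S) = b⁻¹ := rfl
          rw [e1, e2] at h3
          have h4 : (lam (s ^ n)) ^ p = (lam b⁻¹) ^ p := h3
          rw [map_pow, map_inv, inv_pow] at h4
          show lam b ^ p = ((lam s ^ p)⁻¹) ^ n
          rw [inv_pow, ← pow_mul, mul_comm, pow_mul, h4, inv_inv])
        have h5 : τ s ^ p = ((lam s ^ p)⁻¹) ^ m := h2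
        rw [mul_pow, h5, inv_pow, ← pow_mul, ← pow_mul, mul_comm m p, inv_mul_cancel]
      obtain ⟨κ, hκ⟩ : ∃ κ : S →* A, ∀ s, κ s = τ s * lam s ^ m :=
        ⟨MonoidHom.mk' (fun s => τ s * lam s ^ m) (by
          intro a b
          simp only [map_mul, mul_pow]
          exact mul_mul_mul_comm _ _ _ _), fun s => rfl⟩
      have hfr : frattini S ≤ κ.ker := by
        apply helper71.frattini_le_of_comm_pow hp
        · intro x y
          rw [MonoidHom.mem_ker, map_mul, map_mul, map_mul, map_inv, map_inv,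
            mul_comm (κ x) (κ y), mul_inv_cancel_right, mul_inv_cancel]
        · intro x
          rw [MonoidHom.mem_ker, map_pow, hκ]
          exact hval x
      have hNκ : N ≤ κ.ker := by
        intro n hn
        rw [MonoidHom.mem_ker, hκ, MonoidHom.mem_ker.1 (hτker (hN2 hn)),
          MonoidHom.mem_ker.1 (hNlam hn), one_pow, one_mul]
      have hκF : F.focalSubgroup.subgroupOf S ≤ κ.ker := h.trans (sup_le hfr hNκ)
      rw [isStableHom_iff]
      intro x hx
      rw [MonoidHom.mem_ker]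
      have h7 : κ x = 1 := MonoidHom.mem_ker.1 (hκF hx)
      rw [hκ, MonoidHom.mem_ker.1 (hτker hx), one_mul] at h7
      have d1 : orderOf (lam x) ∣ m := orderOf_dvd_of_pow_eq_one h7
      have d2 : orderOf (lam x) ∣ p ^ (e + 1) := orderOf_dvd_of_pow_eq_one (h1 x)
      have hc : Nat.Coprime (p ^ (e + 1)) m :=
        Nat.Coprime.pow_left _ ((Nat.Prime.coprime_iff_not_dvd hp).2 hm)
      exact orderOf_eq_one_iff.1 (Nat.eq_one_of_dvd_coprimes hc d2 d1)
  obtain ⟨e, he⟩ := (IsPGroup.iff_card).1 hS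
  have hst := key e ((QuotientGroup.mk' (N.map Abelianization.of)).comp Abelianization.of)
    (fun s => by
      rw [← map_pow, ← he, pow_card_eq_one', map_one]) (fun n hn => by
      rw [MonoidHom.mem_ker]
      show (QuotientGroup.mk' _) (Abelianization.of n) = 1
      exact (QuotientGroup.eq_one_iff _).2 (Subgroup.mem_map_of_mem _ hn))
  rw [isStableHom_iff] at hst
  refine hst.trans ?_
  intro x hx
  rw [MonoidHom.mem_ker] at hx
  have h9 : Abelianization.of x ∈ N.map Abelianization.of := (QuotientGroup.eq_one_iff _).1 hx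
  obtain ⟨n, hn, hne⟩ := h9
  have h10 : n⁻¹ * x ∈ commutator S := by
    rw [← Abelianization.ker_of, MonoidHom.mem_ker, map_mul, map_inv, hne, inv_mul_cancel]
  have h11 := N.mul_mem hn (hN1 h10)
  rwa [mul_inv_cancel_left] at h11

/-- **Tate's theorem, hyperfocal form**: if `V ≤ hyp(F)` is normal in `S` and
`hyp(F) ≤ V [S, S]` then `hyp(F) ≤ V`. -/
theorem hyperfocal_le_of_le_sup_commutator [Finite S] {p : ℕ} [Fact p.Prime] (hS : IsPGroup p S)
    (F : FusionSystem S) (hF : F.IsSaturated p) (V : Subgroup S) [V.Normal]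
    (hV : V ≤ (F.hyperfocalSubgroup p).subgroupOf S)
    (h : (F.hyperfocalSubgroup p).subgroupOf S ≤ V ⊔ commutator S) :
    (F.hyperfocalSubgroup p).subgroupOf S ≤ V := by
  haveI : Group.IsNilpotent S := hS.isNilpotent
  apply le_of_le_sup_commutator_top
  intro u hu
  obtain ⟨v, hv, c, hc, rfl⟩ := Subgroup.mem_sup_of_normal_left.1 (h hu)
  have hcU : c ∈ (F.hyperfocalSubgroup p).subgroupOf S := by
    have h1 := mul_mem (inv_mem (hV hv)) hu
    rwa [inv_mul_cancel_left] at h1
  exact Subgroup.mul_mem_sup hv (hyp_inf_commutator_le hS F hF ⟨hcU, hc⟩)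

/-- if `foc(F) ≤ Φ(S)` then the hyperfocal subgroup is trivial. -/
theorem hyperfocal_eq_bot_of_focal_le_frattini [Finite S] {p : ℕ} [Fact p.Prime]
    (hS : IsPGroup p S) (F : FusionSystem S) (hF : F.IsSaturated p)
    (h : F.focalSubgroup ≤ (frattini S).map S.subtype) : F.hyperfocalSubgroup p = ⊥ := by
  have h1 : F.focalSubgroup.subgroupOf S ≤ commutator S := by
    apply focal_le_of_le_frattini_sup hS F hF (commutator S) le_rfl
    · intro x hx
      apply Subgroup.mem_subgroupOf.2
      apply helper89.commutator_le_focalSubgroup F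
      rw [← Subgroup.map_subtype_commutator]
      exact Subgroup.mem_map_of_mem _ hx
    · intro x hx
      apply Subgroup.mem_sup_left
      obtain ⟨x', hx', e⟩ := h (Subgroup.mem_subgroupOf.1 hx)
      have e' : x' = x := Subtype.ext e
      rw [← e']
      exact hx'
  have h2 : (F.hyperfocalSubgroup p).subgroupOf S ≤ (⊥ : Subgroup S) := by
    apply hyperfocal_le_of_le_sup_commutator hS F hF ⊥ bot_le
    rw [bot_sup_eq]
    intro x hx
    exact h1 (Subgroup.mem_subgroupOf.2
      (helper89.hyperfocalSubgroup_le_focalSubgroup F p (Subgroup.mem_subgroupOf.1 hx)))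
  rw [eq_bot_iff]
  intro x hx
  have hxS := helper89.hyperfocalSubgroup_le F p hx
  have h3 := h2 (Subgroup.mem_subgroupOf.2 hx : (⟨x, hxS⟩ : S) ∈ _)
  rw [Subgroup.mem_bot] at h3 ⊢
  exact congrArg Subtype.val h3

/-- **Tate's nilpotency criterion for fusion systems**: if `foc(F) ≤ Φ(S)` then `F` is the
inner fusion system of `S`. -/
theorem hom_eq_inner_of_focal_le_frattini [Finite S] {p : ℕ} [Fact p.Prime]
    (hS : IsPGroup p S) (F : FusionSystem S) (hF : F.IsSaturated p)
    (h : F.focalSubgroup ≤ (frattini S).map S.subtype) :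
    ∀ P : Subgroup Ω, F.Hom P = (innerFusionSystem S).Hom P := by
  have hp : p.Prime := Fact.out
  have hyp := hyperfocal_eq_bot_of_focal_le_frattini hS F hF h
  apply helper89.hom_eq_inner_of_aut_pgroups F hS hF
  intro R hR
  have h1 : ∀ α : F.autGroup R, (orderOf α).Coprime p → α = 1 := by
    intro α hα
    apply Subtype.ext
    apply MulEquiv.ext
    intro x
    have h2 : (x : Ω)⁻¹ * (((α : MulAut R) x : R) : Ω) ∈ F.hyperfocalSubgroup p :=
      Subgroup.subset_closure ⟨R, α, x, hR, Subgroup.subset_closure hα, rfl⟩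
    rw [hyp, Subgroup.mem_bot, inv_mul_eq_one] at h2
    exact Subtype.ext h2.symm
  haveI : Finite (F.autGroup R) := helper89.finite_autGroup F hR
  intro g
  obtain ⟨a, m, hm, hNe⟩ := Nat.exists_eq_pow_mul_and_not_dvd (orderOf_pos g).ne' p hp.ne_one
  refine ⟨a, h1 _ ?_⟩
  have hd : orderOf (g ^ p ^ a) ∣ m := by
    apply orderOf_dvd_of_pow_eq_one
    rw [← pow_mul, ← hNe, pow_orderOf_eq_one]
  exact Nat.Coprime.coprime_dvd_left hd ((Nat.Prime.coprime_iff_not_dvd hp).2 hm).symm

end Cfsg.Agent.Lib.helper86
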