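import Cfsg.Agent.Lib.helper86.GenGroup
import Cfsg.Agent.Lib.helper90.PowFusion
import Cfsg.Agent.Lib.helper90.Realized
import Cfsg.Agent.Lib.helper90.FocalBasic
import Cfsg.Agent.Lib.helper90.ThompsonCenter
import Cfsg.Agent.Lib.helper88.Subsystem
import Cfsg.Agent.S5098

/-!
Generation of a saturated fusion system by the centralizer of the `p`-th powers of `Z(S)` and the
normalizer of `W(S)`, for a functor `W` satisfying the quadratic-element hypothesis (helper86).

* `hom_subset_of_constrained`: the constrained case, read off in a model with `gen_of_quad`.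
* `hom_subset_of_gen`: the general case, by induction on `|S|` and on the number of maps, along the
  chains of well-placed subgroups of helper90.
-/

set_option autoImplicit false

namespace Cfsg.Agent.Lib.helper86

open Cfsg Cfsg.FusionSystem Cfsg.Agent.Lib.helper89 Cfsg.Agent.Lib.helper90

universe u

section stepA

variable {Ω : Type u} [Group Ω] {S : Subgroup Ω} {p : ℕ} [Fact p.Prime]
  {W : ∀ (Q : Type u) [Group Q], Subgroup Q}

/-- The maps of `F` defined on a subgroup containing the `p`-th powers of the elements of `Z(S)`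
and fixing them lie in `E`. -/
def HypC (p : ℕ) (F : FusionSystem S) {S₀ : Subgroup Ω} (E : FusionSystem S₀) : Prop :=
  ∀ (D : Subgroup Ω) (φ : D →* Ω), φ ∈ F.Hom D → powCenter p S ≤ D →
    (∀ (v : Ω) (_ : v ∈ powCenter p S) (hD : v ∈ D), φ ⟨v, hD⟩ = v) → φ ∈ E.Hom D

/-- The maps of `F` defined on a subgroup containing `W(S)` and carrying `W(S)` into itself lie
in `E`. -/
def HypN (W : ∀ (Q : Type u) [Group Q], Subgroup Q) (F : FusionSystem S) {S₀ : Subgroup Ω}
    (E : FusionSystem S₀) : Prop :=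
  ∀ (D : Subgroup Ω) (φ : D →* Ω), φ ∈ F.Hom D → inducedFunctor W S ≤ D →
    (∀ (q : Ω) (_ : q ∈ inducedFunctor W S) (hD : q ∈ D), φ ⟨q, hD⟩ ∈ inducedFunctor W S) →
      φ ∈ E.Hom D

omit [Fact p.Prime] in
theorem conj_mem_range_sup {G : Type*} [Group G] (ι : S →* G) {P X : Subgroup Ω} (hP : P ≤ S)
    (hX : X ≤ S) (g : G) (h1 : ∀ x : P, g * ι ⟨x, hP x.2⟩ * g⁻¹ ∈ ι.range)
    (h2 : ∀ x : X, g * ι ⟨x, hX x.2⟩ * g⁻¹ ∈ ι.range) :
    ∀ x : (P ⊔ X : Subgroup Ω), g * ι ⟨x, (sup_le hP hX) x.2⟩ * g⁻¹ ∈ ι.range := by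
  have hle : P ⊔ X ≤ preT ι (ι.range.comap (MulAut.conj g).toMonoidHom) := by
    refine sup_le ?_ ?_
    · intro x hx
      exact mem_preT.mpr ⟨hP hx, h1 ⟨x, hx⟩⟩
    · intro x hx
      exact mem_preT.mpr ⟨hX hx, h2 ⟨x, hx⟩⟩
  intro x
  obtain ⟨hx, h⟩ := mem_preT.mp (hle x.2)
  exact h

omit [Fact p.Prime] in
/-- A map realized by `g` lies in `E` as soon as its extensions to a larger subgroup `D` realized
by `g` do. -/
theorem mem_of_realized_ext {G : Type*} [Group G] {ι : S →* G} (F : FusionSystem S)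
    (hreal : F.IsRealizedBy ι) {S₀ : Subgroup Ω} (E : FusionSystem S₀)
    {P D : Subgroup Ω} (hPD : P ≤ D) (hD : D ≤ S) (g : G)
    (hgD : ∀ x : D, g * ι ⟨x, hD x.2⟩ * g⁻¹ ∈ ι.range)
    (φ : P →* Ω) (hφS : ∀ x : P, φ x ∈ S)
    (hφ : ∀ x : P, ι ⟨φ x, hφS x⟩ = g * ι ⟨x, hD (hPD x.2)⟩ * g⁻¹)
    (hE : ∀ (ψ : D →* Ω) (hψS : ∀ x : D, ψ x ∈ S), ψ ∈ F.Hom D →
      (∀ x : D, ι ⟨ψ x, hψS x⟩ = g * ι ⟨x, hD x.2⟩ * g⁻¹) → ψ ∈ E.Hom D) :
    φ ∈ E.Hom P := by
  obtain ⟨ψ, hψS, hψ⟩ := exists_hom_of_conj hreal.1 hD g hgD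
  have hψF : ψ ∈ F.Hom D := (hreal.2 D hD ψ hψS).mpr ⟨g, hψ⟩
  have hψE := hE ψ hψS hψF hψ
  have h1 := Cfsg.Agent.Lib.helper88.restrict_mem E hPD hψE
  have e : ψ.comp (Subgroup.inclusion hPD) = φ := by
    ext x
    have h2 : ι ⟨ψ (Subgroup.inclusion hPD x), hψS _⟩ = ι ⟨φ x, hφS x⟩ := by
      rw [hψ, hφ]
      rfl
    exact congrArg Subtype.val (hreal.1 h2)
  rw [e] at h1
  exact h1

/-- **The constrained case.** -/
theorem hom_subset_of_constrained (hmodel : ModelHyp.{u} p) (hW : IsCharPFunctor.{u} p W)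
    (hq : QuadHyp.{u} p W) [Finite S] (hS : IsPGroup p S) (F : FusionSystem S)
    (hcon : F.IsConstrained p) {S₀ : Subgroup Ω} (E : FusionSystem S₀) (hC : HypC p F E)
    (hN : HypN W F E) : ∀ P : Subgroup Ω, F.Hom P ⊆ E.Hom P := by
  classical
  obtain ⟨G, _, ι, hM⟩ := hmodel hS F hcon
  obtain ⟨hfin, hreal, ⟨T₀, hT₀⟩, hcon4⟩ := hM
  have := hfin
  have hinj := hreal.1
  have hKS : inducedFunctor W S ≤ S := Cfsg.Agent.Lib.helper39.ind_le S
  have hVS : powCenter p S ≤ S := (powCenter_le S).trans inf_le_left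
  have hpTop : IsPGroup p (⊤ : Subgroup S) := hS.to_subgroup _
  have hWT : inducedFunctor W (T₀ : Subgroup G) = (W ↥S).map ι := by
    rw [hT₀, MonoidHom.range_eq_map,
      ← Cfsg.Agent.Lib.helper39.ind_map hW ι (⊤ : Subgroup S) hpTop hinj.injOn, ind_topW hW S hS]
  have hrange : ∀ s : S, ι s ∈ (T₀ : Subgroup G) := fun s => by rw [hT₀]; exact ⟨s, rfl⟩
  have hZ : ∀ (z : Ω) (hz : z ∈ S ⊓ Subgroup.centralizer (S : Set Ω)),
      ι ⟨z, hz.1⟩ ∈ (T₀ : Subgroup G) ⊓ Subgroup.centralizer ((T₀ : Subgroup G) : Set G) := by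
    intro z hz
    refine Subgroup.mem_inf.mpr ⟨hrange _, ?_⟩
    rw [Subgroup.mem_centralizer_iff]
    intro t ht
    have ht' : t ∈ (T₀ : Subgroup G) := ht
    rw [hT₀] at ht'
    obtain ⟨s, rfl⟩ := ht'
    rw [← map_mul, ← map_mul]
    congr 1
    apply Subtype.ext
    exact (Subgroup.mem_centralizer_iff.mp hz.2) (s : Ω) s.2
  obtain ⟨Pr, hPr⟩ : ∃ Pr : G → Subgroup G → Prop, Pr = fun g A =>
      ∀ (P : Subgroup Ω) (hP : P ≤ S) (φ : P →* Ω) (hφS : ∀ x : P, φ x ∈ S),
        (∀ x : P, ι ⟨x, hP x.2⟩ ∈ A) →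
        (∀ x : P, ι ⟨φ x, hφS x⟩ = g * ι ⟨x, hP x.2⟩ * g⁻¹) → φ ∈ E.Hom P := ⟨_, rfl⟩
  have hcomp : ∀ (g h : G) (A B : Subgroup G), A ≤ T₀ → B ≤ T₀ → (∀ a ∈ A, g * a * g⁻¹ ∈ B) →
      (∀ b ∈ B, h * b * h⁻¹ ∈ (T₀ : Subgroup G)) → Pr g A → Pr h B → Pr (h * g) A := by
    intro g h A B hA hB hAB hBT h1 h2
    rw [hPr] at h1 h2 ⊢
    intro P hP φ hφS hPA hφ
    obtain ⟨φ₁, hφ₁S, hφ₁⟩ := exists_hom_of_conj hinj hP g (fun x => by
      have h3 := hB (hAB _ (hPA x))
      rw [hT₀] at h3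
      exact h3)
    have hφ₁E : φ₁ ∈ E.Hom P := h1 P hP φ₁ hφ₁S hPA hφ₁
    have hP₁ : φ₁.range ≤ S := by
      rintro _ ⟨x, rfl⟩
      exact hφ₁S x
    have hP₁B : ∀ y : φ₁.range, ι ⟨y, hP₁ y.2⟩ ∈ B := by
      rintro ⟨_, x, rfl⟩
      have e : (⟨φ₁ x, hP₁ ⟨x, rfl⟩⟩ : S) = ⟨φ₁ x, hφ₁S x⟩ := rfl
      rw [e, hφ₁ x]
      exact hAB _ (hPA x)
    obtain ⟨φ₂, hφ₂S, hφ₂⟩ := exists_hom_of_conj hinj hP₁ h (fun y => by
      have h3 := hBT _ (hP₁B y)
      rw [hT₀] at h3
      exact h3)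
    have hφ₂E : φ₂ ∈ E.Hom φ₁.range := h2 φ₁.range hP₁ φ₂ hφ₂S hP₁B hφ₂
    have hcE := E.comp_mem hφ₁E hφ₂E (fun x => ⟨x, rfl⟩)
    have e : φ₂.comp (φ₁.codRestrict φ₁.range (fun x => ⟨x, rfl⟩)) = φ := by
      ext x
      have h3 := hφ₂ ⟨φ₁ x, ⟨x, rfl⟩⟩
      have h4 := hφ₁ x
      have h6 : ι ⟨φ₂ ⟨φ₁ x, ⟨x, rfl⟩⟩, hφ₂S _⟩ = ι ⟨φ x, hφS x⟩ := by
        rw [h3, hφ x]
        have e' : (⟨((⟨φ₁ x, ⟨x, rfl⟩⟩ : φ₁.range) : Ω),
            hP₁ (⟨φ₁ x, ⟨x, rfl⟩⟩ : φ₁.range).2⟩ : S) = ⟨φ₁ x, hφ₁S x⟩ := rfl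
        rw [e', h4]
        group
      exact congrArg Subtype.val (hinj h6)
    rw [e] at hcE
    exact hcE
  have hCt : ∀ (g : G) (A : Subgroup G), A ≤ T₀ →
      (∀ a ∈ A, g * a * g⁻¹ ∈ (T₀ : Subgroup G)) →
      (∀ z ∈ (T₀ : Subgroup G) ⊓ Subgroup.centralizer ((T₀ : Subgroup G) : Set G),
        g * z ^ p = z ^ p * g) → Pr g A := by
    intro g A hA hgA hz
    rw [hPr]
    intro P hP φ hφS hPA hφ
    have hcomm : ∀ (v : Ω) (hv : v ∈ powCenter p S), g * ι ⟨v, hVS hv⟩ = ι ⟨v, hVS hv⟩ * g := by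
      have hle : powCenter p S ≤ preT ι (Subgroup.centralizer ({g} : Set G)) := by
        unfold powCenter
        rw [Subgroup.closure_le]
        rintro _ ⟨z, hz', rfl⟩
        refine mem_preT.mpr ⟨S.pow_mem hz'.1 p, ?_⟩
        rw [Subgroup.mem_centralizer_iff]
        intro h hh
        rw [Set.mem_singleton_iff] at hh
        rw [hh]
        have e : (⟨z ^ p, S.pow_mem hz'.1 p⟩ : S) = ⟨z, hz'.1⟩ ^ p := rfl
        rw [e, map_pow]
        exact hz _ (hZ z hz')
      intro v hv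
      obtain ⟨hvS, h⟩ := mem_preT.mp (hle hv)
      exact (Subgroup.mem_centralizer_iff.mp h) g rfl
    refine mem_of_realized_ext F hreal E (le_sup_left : P ≤ P ⊔ powCenter p S) (sup_le hP hVS) g
      ?_ φ hφS hφ ?_
    · apply conj_mem_range_sup ι hP hVS g
      · intro x
        rw [← hφ x]
        exact ⟨_, rfl⟩
      · intro v
        rw [hcomm v v.2, mul_inv_cancel_right]
        exact ⟨_, rfl⟩
    · intro ψ hψS hψF hψ
      apply hC _ ψ hψF le_sup_right
      intro v hv hD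
      have h1 := hψ ⟨v, hD⟩
      have h2 : g * ι ⟨v, hVS hv⟩ * g⁻¹ = ι ⟨v, hVS hv⟩ := by
        rw [hcomm v hv, mul_inv_cancel_right]
      have h3 : ι ⟨ψ ⟨v, hD⟩, hψS _⟩ = ι ⟨v, hVS hv⟩ := h1.trans h2
      exact congrArg Subtype.val (hinj h3)
  have hNt : ∀ (g : G) (A : Subgroup G), A ≤ T₀ →
      (∀ a ∈ A, g * a * g⁻¹ ∈ (T₀ : Subgroup G)) →
      g ∈ Subgroup.normalizer ((inducedFunctor W (T₀ : Subgroup G) : Subgroup G) : Set G) →
        Pr g A := by
    intro g A hA hgA hg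
    rw [hPr]
    intro P hP φ hφS hPA hφ
    have hmemW : ∀ (q : Ω) (hq : q ∈ inducedFunctor W S), ι ⟨q, hKS hq⟩ ∈ (W ↥S).map ι := by
      intro q hq
      obtain ⟨k', hk', hkk⟩ := hq
      refine ⟨k', hk', ?_⟩
      congr 1
      exact Subtype.ext hkk
    have hconjW : ∀ (q : Ω) (hq : q ∈ inducedFunctor W S),
        g * ι ⟨q, hKS hq⟩ * g⁻¹ ∈ (W ↥S).map ι := by
      intro q hq
      have hin := hmemW q hq
      rw [← hWT] at hin ⊢
      exact (Subgroup.mem_normalizer_iff.mp hg _).mp hin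
    refine mem_of_realized_ext F hreal E (le_sup_left : P ≤ P ⊔ inducedFunctor W S)
      (sup_le hP hKS) g ?_ φ hφS hφ ?_
    · apply conj_mem_range_sup ι hP hKS g
      · intro x
        rw [← hφ x]
        exact ⟨_, rfl⟩
      · intro q
        obtain ⟨s, -, hs⟩ := hconjW q q.2
        exact ⟨s, hs⟩
    · intro ψ hψS hψF hψ
      apply hN _ ψ hψF le_sup_right
      intro q hq hD
      have h1 := hψ ⟨q, hD⟩
      obtain ⟨s, hs, hsn⟩ := hconjW q hq
      have h2 : ι ⟨ψ ⟨q, hD⟩, hψS _⟩ = ι s := h1.trans hsn.symm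
      have h3 := hinj h2
      have h4 : ψ ⟨q, hD⟩ = (s : Ω) := congrArg Subtype.val h3
      rw [h4]
      exact ⟨s, hs, rfl⟩
  have key := gen_of_quad hW hq _ G rfl hcon4 T₀ Pr hcomp hCt hNt
  intro P φ hφ
  have hP := (F.le_of_mem hφ).1
  have hφS := (F.le_of_mem hφ).2
  obtain ⟨g, hg⟩ := (hreal.2 P hP φ hφS).mp hφ
  have h1 := key g ((P.subgroupOf S).map ι) (by
    rintro _ ⟨s, -, rfl⟩
    exact hrange s) (by
    rintro _ ⟨s, hs, rfl⟩
    have hsP : (s : Ω) ∈ P := Subgroup.mem_subgroupOf.mp hs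
    have h1 := hg ⟨s, hsP⟩
    have e : (⟨(s : Ω), hP hsP⟩ : S) = s := rfl
    rw [e] at h1
    rw [← h1]
    exact hrange _)
  rw [hPr] at h1
  exact h1 P hP φ hφS (fun x => ⟨⟨x, hP x.2⟩, Subgroup.mem_subgroupOf.mpr x.2, rfl⟩) hg

end stepA

section main

variable {Ω : Type u} [Group Ω] {p : ℕ} [Fact p.Prime]
  {W : ∀ (Q : Type u) [Group Q], Subgroup Q}

/-- `C_T(W(T)) ≤ W(T)` for finite subgroups `T`. -/
def SelfCentHyp (W : ∀ (Q : Type u) [Group Q], Subgroup Q) : Prop :=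
  ∀ (X : Type u) [Group X] (T : Subgroup X) [Finite T],
    T ⊓ Subgroup.centralizer ((inducedFunctor W T : Subgroup X) : Set X) ≤ inducedFunctor W T

/-- `W(T) ≤ R ≤ T` implies `W(R) = W(T)`. -/
def StableHyp (W : ∀ (Q : Type u) [Group Q], Subgroup Q) : Prop :=
  ∀ (X : Type u) [Group X] (T R : Subgroup X) [Finite T],
    inducedFunctor W T ≤ R → R ≤ T → inducedFunctor W R = inducedFunctor W T

/-- If `W(N_S(R)) ≤ R`, then `W(N_S(R))` contains its centralizer in `S`. -/
theorem centralizerIn_ind_le (hW : IsCharPFunctor.{u} p W) (h4 : SelfCentHyp.{u} W)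
    {S : Subgroup Ω} [Finite S] (hS : IsPGroup p S) {R' : Subgroup Ω} (hR'S : R' ≤ S)
    (hUR : inducedFunctor W (normalizerIn S R') ≤ R') :
    centralizerIn S (inducedFunctor W (normalizerIn S R')) ≤
      inducedFunctor W (normalizerIn S R') := by
  obtain ⟨T, hTdef⟩ : ∃ T : Subgroup Ω, T = normalizerIn S R' := ⟨_, rfl⟩
  rw [← hTdef] at hUR ⊢
  have hTS : T ≤ S := by rw [hTdef]; exact inf_le_left
  have hfinT : Finite T := finite_of_le hTS
  have hR'T : R' ≤ T := by rw [hTdef]; exact le_normalizerIn hR'S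
  obtain ⟨U, hUdef⟩ : ∃ U : Subgroup Ω, U = inducedFunctor W T := ⟨_, rfl⟩
  rw [← hUdef] at hUR ⊢
  have hTU : ∀ t ∈ T, t ∈ Subgroup.normalizer (U : Set Ω) := by
    intro t ht
    rw [hUdef]
    exact mem_normalizer_ind hW (hS.to_le hTS) (Subgroup.le_normalizer ht)
  have hCT : ∀ c ∈ centralizerIn S U, c ∈ T → c ∈ U := by
    intro c hc hcT
    rw [hUdef]
    apply h4 Ω T
    refine Subgroup.mem_inf.mpr ⟨hcT, ?_⟩
    rw [← hUdef]
    exact hc.2
  have hfinC : Finite ↥(centralizerIn S U) := finite_of_le (inf_le_left : centralizerIn S U ≤ S)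
  have hCR : centralizerIn S U ≤ R' := by
    by_contra hnot
    have hXS : centralizerIn S U ⊔ R' ≤ S := sup_le inf_le_left hR'S
    have hfinX : Finite ↥(centralizerIn S U ⊔ R') := finite_of_le hXS
    have hlt : R' < centralizerIn S U ⊔ R' := by
      refine lt_of_le_of_ne le_sup_right (fun h => hnot ?_)
      exact (le_sup_left : centralizerIn S U ≤ centralizerIn S U ⊔ R').trans h.ge
    obtain ⟨x, hx, hxR⟩ := exists_mem_normalizerIn_not_mem (hS.to_le hXS) hlt
    have hnorm : R' ≤ Subgroup.normalizer ((centralizerIn S U : Subgroup Ω) : Set Ω) := by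
      intro r hr
      apply Cfsg.Agent.Lib.helper88.mem_normalizer_of_conj_mem
      intro c hc
      refine ⟨S.mul_mem (S.mul_mem (hR'S hr) hc.1) (S.inv_mem (hR'S hr)), ?_⟩
      show r * c * r⁻¹ ∈ Subgroup.centralizer (U : Set Ω)
      rw [Subgroup.mem_centralizer_iff]
      intro u hu
      have hu' : r⁻¹ * u * r⁻¹⁻¹ ∈ U :=
        (Subgroup.mem_normalizer_iff.mp (hTU _ (T.inv_mem (hR'T hr))) u).mp hu
      have h2 := (Subgroup.mem_centralizer_iff.mp hc.2) _ hu'
      have e1 : u * (r * c * r⁻¹) = r * (r⁻¹ * u * r⁻¹⁻¹ * c) * r⁻¹ := by group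
      have e2 : r * c * r⁻¹ * u = r * (c * (r⁻¹ * u * r⁻¹⁻¹)) * r⁻¹ := by group
      rw [e1, e2, h2]
    have hx' : x ∈ ((centralizerIn S U ⊔ R' : Subgroup Ω) : Set Ω) := hx.1
    rw [Subgroup.coe_mul_of_right_le_normalizer_left _ _ hnorm] at hx'
    obtain ⟨c, hc, r, hr, hcr⟩ := Set.mem_mul.mp hx'
    have hcN : c ∈ Subgroup.normalizer (R' : Set Ω) := by
      have e : c = x * r⁻¹ := by rw [← hcr]; group
      rw [e]
      exact Subgroup.mul_mem _ hx.2 (Subgroup.inv_mem _ (Subgroup.le_normalizer hr))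
    have hcT : c ∈ T := by rw [hTdef]; exact ⟨hc.1, hcN⟩
    apply hxR
    rw [← hcr]
    exact R'.mul_mem (hUR (hCT c hc hcT)) hr
  intro c hc
  exact hCT c hc (hR'T (hCR hc))

/-- A map of `F` carrying `U` into `U` carries `U` onto `U`. -/
theorem exists_preimage_of_maps {S : Subgroup Ω} [Finite S] (F : FusionSystem S)
    {U D : Subgroup Ω} {φ : D →* Ω} (hφ : φ ∈ F.Hom D) (hUD : U ≤ D)
    (h : ∀ (u : Ω) (_ : u ∈ U) (hD : u ∈ D), φ ⟨u, hD⟩ ∈ U) (u : Ω) (hu : u ∈ U) :
    ∃ (u' : Ω) (hu' : u' ∈ U), φ ⟨u', hUD hu'⟩ = u := by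
  have hfinU : Finite U := finite_of_le (hUD.trans (le_of_hom F hφ))
  obtain ⟨f, hf⟩ : ∃ f : U → U, f = fun v => ⟨φ ⟨v, hUD v.2⟩, h v v.2 _⟩ := ⟨_, rfl⟩
  have hfi : Function.Injective f := by
    intro a b hab
    rw [hf] at hab
    have h1 : φ ⟨a, hUD a.2⟩ = φ ⟨b, hUD b.2⟩ := congrArg Subtype.val hab
    have h2 := F.injective_of_mem hφ h1
    have h3 : (a : Ω) = b := congrArg (fun d : D => (d : Ω)) h2
    exact Subtype.ext h3
  obtain ⟨v, hv⟩ := (Finite.injective_iff_surjective.mp hfi) ⟨u, hu⟩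
  rw [hf] at hv
  exact ⟨v, v.2, congrArg Subtype.val hv⟩

/-- A map of `F` defined between `U` and `N_S(U)` and carrying `U` into `U` is a map of the
normalizer system of `U`. -/
theorem mem_normalizerSystem_of_maps {S : Subgroup Ω} [Finite S] (F : FusionSystem S)
    {U D : Subgroup Ω} (hUS : U ≤ S) {φ : D →* Ω} (hφ : φ ∈ F.Hom D) (hUD : U ≤ D)
    (hDN : D ≤ normalizerIn S U)
    (h : ∀ (u : Ω) (_ : u ∈ U) (hD : u ∈ D), φ ⟨u, hD⟩ ∈ U) :
    φ ∈ (normalizerSystem F U hUS).Hom D := by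
  have hfinU : Finite U := finite_of_le hUS
  rw [(isNormalizerSystem_normalizerSystem F U hUS) D, mem_normalizerHom_iff]
  refine ⟨hφ, hDN, fun y => ⟨(F.le_of_mem hφ).2 y, ?_⟩, D, φ, hφ, le_rfl, hUD,
    fun _ _ _ => rfl, h⟩
  apply Cfsg.Agent.Lib.helper88.mem_normalizer_of_conj_mem
  intro u hu
  obtain ⟨u', hu', rfl⟩ := exists_preimage_of_maps F hφ hUD h u hu
  have hyn : (y : Ω) * u' * (y : Ω)⁻¹ ∈ U :=
    (Subgroup.mem_normalizer_iff.mp (hDN y.2).2 u').mp hu'
  have e : φ y * φ ⟨u', hUD hu'⟩ * (φ y)⁻¹ = φ ⟨(y : Ω) * u' * (y : Ω)⁻¹, hUD hyn⟩ := by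
    have e' : (⟨(y : Ω) * u' * (y : Ω)⁻¹, hUD hyn⟩ : D) = y * ⟨u', hUD hu'⟩ * y⁻¹ := rfl
    rw [e', map_mul, map_mul, map_inv]
  rw [e]
  exact h _ hyn _

/-- The normalizer system of a fully normalized subgroup `U` not normal in `S` lies in `E`, given
the theorem for smaller `p`-groups and the claim for the maps normalizing `W(N_S(U))`. -/
theorem normalizerSystem_subset (hW : IsCharPFunctor.{u} p W) {S₀ : Subgroup Ω}
    (E : FusionSystem S₀) {S : Subgroup Ω} [Finite S] (hS : IsPGroup p S) (hSS₀ : S ≤ S₀)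
    (F : FusionSystem S) (hF : F.IsSaturated p)
    (ih1 : ∀ (N : Subgroup Ω) [Finite N], Nat.card N < Nat.card S → IsPGroup p N → N ≤ S₀ →
      ∀ F' : FusionSystem N, F'.IsSaturated p → HypC p F' E → HypN W F' E →
        ∀ P : Subgroup Ω, F'.Hom P ⊆ E.Hom P)
    (hC : HypC p F E) {U : Subgroup Ω} (hfn : F.IsFullyNormalized U)
    (hNU : normalizerIn S U ≠ S)
    (hnext : ∀ (D : Subgroup Ω) (φ : D →* Ω), φ ∈ F.Hom D →
      inducedFunctor W (normalizerIn S U) ≤ D →
      D ≤ normalizerIn S (inducedFunctor W (normalizerIn S U)) →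
      (∀ (u : Ω) (_ : u ∈ inducedFunctor W (normalizerIn S U)) (hD : u ∈ D),
        φ ⟨u, hD⟩ ∈ inducedFunctor W (normalizerIn S U)) → φ ∈ E.Hom D) :
    ∀ P : Subgroup Ω, (normalizerSystem F U hfn.1).Hom P ⊆ E.Hom P := by
  have hUS : U ≤ S := hfn.1
  have hNS : normalizerIn S U ≤ S := inf_le_left
  have hfinN : Finite (normalizerIn S U) := finite_of_le hNS
  have hcard : Nat.card (normalizerIn S U) < Nat.card S :=
    card_lt_of_lt_le le_rfl (lt_of_le_of_ne hNS hNU)
  have hNsys := isNormalizerSystem_normalizerSystem F U hUS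
  have hsat := Cfsg.Agent.S5098.result p hS F hF U hfn (normalizerSystem F U hUS) hNsys
  have hF' : ∀ (D : Subgroup Ω) (ψ : D →* Ω), ψ ∈ (normalizerSystem F U hUS).Hom D →
      ψ ∈ F.Hom D := by
    intro D ψ hψ
    rw [hNsys D] at hψ
    exact hψ.1
  have hZ : S ⊓ Subgroup.centralizer (S : Set Ω) ≤
      normalizerIn S U ⊓ Subgroup.centralizer ((normalizerIn S U : Subgroup Ω) : Set Ω) := by
    intro z hz
    refine Subgroup.mem_inf.mpr ⟨⟨hz.1, ?_⟩, ?_⟩
    · apply mem_normalizer_of_mem_centralizer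
      rw [Subgroup.mem_centralizer_iff]
      intro u hu
      exact (Subgroup.mem_centralizer_iff.mp hz.2) u (hUS hu)
    · rw [Subgroup.mem_centralizer_iff]
      intro g hg
      exact (Subgroup.mem_centralizer_iff.mp hz.2) g (hNS hg)
  have hpow : powCenter p S ≤ powCenter p (normalizerIn S U) := powCenter_mono_of hZ
  refine ih1 (normalizerIn S U) hcard (hS.to_le hNS) (hNS.trans hSS₀) (normalizerSystem F U hUS)
    hsat ?_ ?_
  · intro D ψ hψ hVD hfix
    exact hC D ψ (hF' D ψ hψ) (hpow.trans hVD) (fun v hv hD => hfix v (hpow hv) hD)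
  · intro D ψ hψ hWD hmap
    have hDN : D ≤ normalizerIn S U := le_of_hom _ hψ
    exact hnext D ψ (hF' D ψ hψ) hWD
      (hDN.trans ((le_normalizerIn hNS).trans (normalizerIn_le_normalizerIn_ind hS hW hNS))) hmap

/-- **The chain step.** For a well-placed subgroup `U = W(N_S(R'))` in a chain starting above the
largest normal subgroup of `F`, the maps of `F` normalizing `U` and defined inside `N_S(U)` lie
in `E`. -/
theorem chainGen (hmodel : ModelHyp.{u} p) (hW : IsCharPFunctor.{u} p W) (hq : QuadHyp.{u} p W)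
    (h3 : StableHyp.{u} W) (h4 : SelfCentHyp.{u} W) {S₀ : Subgroup Ω} (E : FusionSystem S₀)
    {S : Subgroup Ω} [Finite S] (hS : IsPGroup p S) (hSS₀ : S ≤ S₀)
    (F : FusionSystem S) (hF : F.IsSaturated p)
    (ih1 : ∀ (N : Subgroup Ω) [Finite N], Nat.card N < Nat.card S → IsPGroup p N → N ≤ S₀ →
      ∀ F' : FusionSystem N, F'.IsSaturated p → HypC p F' E → HypN W F' E →
        ∀ P : Subgroup Ω, F'.Hom P ⊆ E.Hom P)
    (ih2 : ∀ F' : FusionSystem S, F'.IsSaturated p → (∀ P, F'.Hom P ⊆ F.Hom P) →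
      (∃ (P : Subgroup Ω) (φ : P →* Ω), φ ∈ F.Hom P ∧ φ ∉ F'.Hom P) →
      ∀ P : Subgroup Ω, F'.Hom P ⊆ E.Hom P)
    (hC : HypC p F E) (hN : HypN W F E) :
    ∀ U : Subgroup Ω, WellPlaced W F U →
      (∃ R' : Subgroup Ω, R' ≤ S ∧ U = inducedFunctor W (normalizerIn S R') ∧
        F.core ≤ normalizerIn S R' ∧ (U ≤ F.core → U ≤ R')) →
      ∀ (D : Subgroup Ω) (φ : D →* Ω), φ ∈ F.Hom D → U ≤ D → D ≤ normalizerIn S U →
        (∀ (u : Ω) (_ : u ∈ U) (hD : u ∈ D), φ ⟨u, hD⟩ ∈ U) → φ ∈ E.Hom D := by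
  intro U hU
  induction hU with
  | mk U hfn _ ih' =>
    intro hinv D φ hφ hUD hDN hφU
    obtain ⟨R', hR'S, hUdef, hQT, hUQ⟩ := hinv
    have hUS : U ≤ S := hfn.1
    have hT'S : normalizerIn S R' ≤ S := inf_le_left
    have hfinT' : Finite (normalizerIn S R') := finite_of_le hT'S
    have hT'U : ∀ t ∈ normalizerIn S R', t ∈ Subgroup.normalizer (U : Set Ω) := by
      intro t ht
      rw [hUdef]
      exact mem_normalizer_ind hW (hS.to_le hT'S) (Subgroup.le_normalizer ht)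
    by_cases hNU : normalizerIn S U = S
    · have hn : S ≤ Subgroup.normalizer (U : Set Ω) := by
        intro s hs
        have : s ∈ normalizerIn S U := by rw [hNU]; exact hs
        exact this.2
      have hφN : φ ∈ (normSys F U hUS hn).Hom D :=
        mem_normSys_of_forall_mem F U hUS hn hφ hUD (fun q hq => hφU q hq (hUD hq))
      have hsat := normSys_saturated hS F hF U hUS hn
      have hle := normSys_le F U hUS hn
      by_cases hne : ∃ (P : Subgroup Ω) (φ : P →* Ω), φ ∈ F.Hom P ∧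
          φ ∉ (normSys F U hUS hn).Hom P
      · exact ih2 _ hsat hle hne D hφN
      · push Not at hne
        have hUn : F.IsNormal U := by
          rw [isNormal_iff_forall_normExt]
          exact ⟨hUS, fun P φ hφ => ((mem_normSys_iff F U hUS hn φ).mp (hne P φ hφ)).2⟩
        have hUcore : U ≤ F.core := le_sSup hUn
        have hUR' := hUQ hUcore
        have hcU : centralizerIn S U ≤ U := by
          have h5 := centralizerIn_ind_le hW h4 hS hR'S (by rw [← hUdef]; exact hUR')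
          rw [← hUdef] at h5
          exact h5
        have hcen := isCentric_of_normal_of_centralizerIn_le hS F hF U hUS hn hcU
        have hcon : F.IsConstrained p := ⟨hF, U, hUn, hcen⟩
        exact hom_subset_of_constrained hmodel hW hq hS F hcon E hC hN D hφ
    · have hNS : normalizerIn S U ≤ S := inf_le_left
      have hfinN : Finite (normalizerIn S U) := finite_of_le hNS
      have hT'N : normalizerIn S R' ≤ normalizerIn S U := fun t ht => ⟨hT'S ht, hT'U t ht⟩
      have hnext := ih' hNU ⟨U, hUS, rfl, hQT.trans hT'N, fun h => by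
        have h6 := h3 Ω (normalizerIn S U) (normalizerIn S R') (h.trans hQT) hT'N
        rw [← hUdef] at h6
        rw [← h6]⟩
      have hsub := normalizerSystem_subset hW E hS hSS₀ F hF ih1 hC hfn hNU hnext
      exact hsub D (mem_normalizerSystem_of_maps F hUS hφ hUD hDN hφU)

/-- **The inductive step of the generation theorem.** -/
theorem hom_subset_step (hmodel : ModelHyp.{u} p) (hW : IsCharPFunctor.{u} p W)
    (hq : QuadHyp.{u} p W) (h3 : StableHyp.{u} W) (h4 : SelfCentHyp.{u} W) {S₀ : Subgroup Ω}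
    (E : FusionSystem S₀) {S : Subgroup Ω} [Finite S] (hS : IsPGroup p S) (hSS₀ : S ≤ S₀)
    (F : FusionSystem S) (hF : F.IsSaturated p)
    (ih1 : ∀ (N : Subgroup Ω) [Finite N], Nat.card N < Nat.card S → IsPGroup p N → N ≤ S₀ →
      ∀ F' : FusionSystem N, F'.IsSaturated p → HypC p F' E → HypN W F' E →
        ∀ P : Subgroup Ω, F'.Hom P ⊆ E.Hom P)
    (ih2 : ∀ F' : FusionSystem S, F'.IsSaturated p → (∀ P, F'.Hom P ⊆ F.Hom P) →
      (∃ (P : Subgroup Ω) (φ : P →* Ω), φ ∈ F.Hom P ∧ φ ∉ F'.Hom P) →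
      ∀ P : Subgroup Ω, F'.Hom P ⊆ E.Hom P)
    (hC : HypC p F E) (hN : HypN W F E) : ∀ P : Subgroup Ω, F.Hom P ⊆ E.Hom P := by
  have hres : ∀ P : Subgroup Ω,
      F.Hom P ⊆ (Cfsg.Agent.Lib.helper88.restrictTo E S hSS₀).Hom P := by
    apply hom_subset_of_wellPlaced hS hW F _ hF
    intro R hR hbig α hα
    have hRS : R ≤ S := hR.fullyNormalized.1
    have hφ := (mem_autGroup_iff F hRS α).mp hα
    suffices hsuff : R.subtype.comp α.toMonoidHom ∈ E.Hom R from
      ⟨hsuff, hRS, fun x => hRS (α x).2⟩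
    have hbigE : ∀ P : Subgroup Ω, R < P → F.Hom P ⊆ E.Hom P :=
      fun P hP φ hφ => (hbig P hP hφ).1
    have hQn : F.IsNormal F.core := Cfsg.Agent.Lib.helper88.isNormal_core F
    by_cases hQR : F.core ≤ R
    · by_cases hNR : normalizerIn S R = S
      · have hn : S ≤ Subgroup.normalizer (R : Set Ω) := by
          intro s hs
          have : s ∈ normalizerIn S R := by rw [hNR]; exact hs
          exact this.2
        by_cases hc : centralizerIn S R ≤ R
        · have hcon := normSys_isConstrained hS F hF R hRS hn hc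
          have hle := normSys_le F R hRS hn
          have h1 := hom_subset_of_constrained hmodel hW hq hS (normSys F R hRS hn) hcon E
            (fun D φ hφ => hC D φ (hle D hφ)) (fun D φ hφ => hN D φ (hle D hφ))
          apply h1 R
          exact mem_normSys_of_forall_mem F R hRS hn hφ le_rfl (fun q hq => (α ⟨q, hq⟩).2)
        · have hrec := (Cfsg.Agent.Lib.helper88.fullyAutomized_receptive_of_fullyNormalized hS F hF
            hR.fullyNormalized).2
          obtain ⟨ψ, hψ, hψφ⟩ := hrec.2 R _ hφ (range_subtype_comp_equiv α)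
          have hUext : R ≤ extender S R (R.subtype.comp α.toMonoidHom) :=
            Cfsg.Agent.Lib.helper88.le_extender F hφ
          have hCext : centralizerIn S R ≤ extender S R (R.subtype.comp α.toMonoidHom) := by
            intro c hc'
            apply Subgroup.subset_closure
            refine ⟨hc'.1, mem_normalizer_of_mem_centralizer hc'.2, 1, S.one_mem, fun x hx => ?_⟩
            have h1 : c * (x : Ω) * c⁻¹ = x := by
              have := (Subgroup.mem_centralizer_iff.mp hc'.2) (x : Ω) x.2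
              rw [← this]; group
            have e : (⟨c * (x : Ω) * c⁻¹, hx⟩ : R) = x := Subtype.ext h1
            rw [e]; simp
          have hRext : R ⊔ centralizerIn S R ≤ extender S R (R.subtype.comp α.toMonoidHom) :=
            sup_le hUext hCext
          have hlt : R < R ⊔ centralizerIn S R := by
            refine lt_of_le_of_ne le_sup_left (fun h => hc ?_)
            exact (le_sup_right : centralizerIn S R ≤ R ⊔ centralizerIn S R).trans h.ge
          have hψR := Cfsg.Agent.Lib.helper88.restrict_mem F hRext hψ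
          have hψE := hbigE _ hlt hψR
          have h1 := Cfsg.Agent.Lib.helper88.restrict_mem E
            (le_sup_left : R ≤ R ⊔ centralizerIn S R) hψE
          have e : (ψ.comp (Subgroup.inclusion hRext)).comp (Subgroup.inclusion le_sup_left) =
              R.subtype.comp α.toMonoidHom := by
            ext x
            exact hψφ x x.2 _
          rw [e] at h1
          exact h1
      · have hwp : WellPlaced W F (inducedFunctor W (normalizerIn S R)) := by
          cases hR with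
          | mk _ _ h => exact h hNR
        have hchain := chainGen hmodel hW hq h3 h4 E hS hSS₀ F hF ih1 ih2 hC hN _ hwp
          ⟨R, hRS, rfl, hQR.trans (le_normalizerIn hRS), fun h => h.trans hQR⟩
        have hsub := normalizerSystem_subset hW E hS hSS₀ F hF ih1 hC hR.fullyNormalized hNR hchain
        apply hsub R
        exact mem_normalizerSystem_of_maps F hRS hφ le_rfl (le_normalizerIn hRS)
          (fun u hu hD => (α ⟨u, hD⟩).2)
    · obtain ⟨ψ, hψ, hψφ, -⟩ := hQn.2 R _ hφ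
      have hlt : R < R ⊔ F.core := by
        refine lt_of_le_of_ne le_sup_left (fun h => hQR ?_)
        exact (le_sup_right : F.core ≤ R ⊔ F.core).trans h.ge
      have hψE := hbigE _ hlt hψ
      have h1 := Cfsg.Agent.Lib.helper88.restrict_mem E (le_sup_left : R ≤ R ⊔ F.core) hψE
      have e : ψ.comp (Subgroup.inclusion le_sup_left) = R.subtype.comp α.toMonoidHom := by
        ext x
        exact hψφ x
      rw [e] at h1
      exact h1
  intro P φ hφ
  exact (hres P hφ).1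

/-- **Generation.** Let `W` be an isomorphism-invariant `p`-group functor satisfying the
quadratic-element hypothesis, with `C_T(W(T)) ≤ W(T)` and `W(R) = W(T)` whenever `W(T) ≤ R ≤ T`.
A fusion system `E` containing the maps of the saturated system `F` over `S` that fix the `p`-th
powers of the elements of `Z(S)` and those that normalize `W(S)` contains every map of `F`. -/
theorem hom_subset_of_gen (hmodel : ModelHyp.{u} p) (hW : IsCharPFunctor.{u} p W)
    (hq : QuadHyp.{u} p W) (h3 : StableHyp.{u} W) (h4 : SelfCentHyp.{u} W) {S₀ : Subgroup Ω}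
    (E : FusionSystem S₀) :
    ∀ (n m : ℕ) (S : Subgroup Ω) [Finite S], Nat.card S = n → IsPGroup p S → S ≤ S₀ →
      ∀ F : FusionSystem S, F.IsSaturated p → morCount F = m → HypC p F E → HypN W F E →
        ∀ P : Subgroup Ω, F.Hom P ⊆ E.Hom P := by
  intro n
  induction n using Nat.strong_induction_on with
  | _ n ihn =>
    intro m
    induction m using Nat.strong_induction_on with
    | _ m ihm =>
      intro S _ hcard hS hSS₀ F hF hm hC hN
      have ih1 : ∀ (N : Subgroup Ω) [Finite N], Nat.card N < Nat.card S → IsPGroup p N →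
          N ≤ S₀ → ∀ F' : FusionSystem N, F'.IsSaturated p → HypC p F' E → HypN W F' E →
            ∀ P : Subgroup Ω, F'.Hom P ⊆ E.Hom P := by
        intro N _ hlt hN' hNS₀ F' hF' hC' hN''
        exact ihn (Nat.card N) (by rw [← hcard]; exact hlt) (morCount F') N rfl hN' hNS₀ F' hF'
          rfl hC' hN''
      have ih2 : ∀ F' : FusionSystem S, F'.IsSaturated p → (∀ P, F'.Hom P ⊆ F.Hom P) →
          (∃ (P : Subgroup Ω) (φ : P →* Ω), φ ∈ F.Hom P ∧ φ ∉ F'.Hom P) →
          ∀ P : Subgroup Ω, F'.Hom P ⊆ E.Hom P := by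
        intro F' hF' hle hne
        refine ihm (morCount F') (by rw [← hm]; exact morCount_lt hle hne) S hcard hS hSS₀ F' hF'
          rfl ?_ ?_
        · intro D φ hφ
          exact hC D φ (hle D hφ)
        · intro D φ hφ
          exact hN D φ (hle D hφ)
      exact hom_subset_step hmodel hW hq h3 h4 E hS hSS₀ F hF ih1 ih2 hC hN

end main

end Cfsg.Agent.Lib.helper86
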