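import Cfsg.Agent.Lib.helper90.PowGroup
import Cfsg.Agent.Lib.helper87.SubgroupSystem

/-!
Generation of the conjugation maps of a finite group `L` with `C_L(O_p(L)) ≤ O_p(L)` (helper86).

Let `W` be an isomorphism-invariant `p`-group functor satisfying the quadratic-element hypothesis
`QuadHyp` of helper90, and let `T` be a Sylow `p`-subgroup of `L`.  Then every conjugation map
`c_g : A → T` (`A ≤ T`, `g A g⁻¹ ≤ T`) is a composite of such maps with `g` centralizing the `p`-th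
powers of the elements of `Z(T)` or normalizing `W(T)` (`gen_of_quad`, stated for a predicate closed
under composition).
-/

set_option autoImplicit false

namespace Cfsg.Agent.Lib.helper86

open Cfsg Cfsg.Agent.Lib.helper90

universe u

section dec

variable {L : Type*} [Group L] [Finite L] {p : ℕ} [Fact p.Prime]

/-- For a Sylow `p`-subgroup `T`, a normal subgroup `K` and `B ≤ T`, the subgroup `T ∩ KB` is a
Sylow `p`-subgroup of `KB`. -/
theorem sylowIn_inf_sup (T : Sylow p L) (K : Subgroup L) [K.Normal] {B : Subgroup L}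
    (hB : B ≤ T) :
    ∃ R : Sylow p ↥(K ⊔ B), (R : Subgroup ↥(K ⊔ B)) =
      ((T : Subgroup L) ⊓ (K ⊔ B)).subgroupOf (K ⊔ B) := by
  have hp : IsPGroup p ↥(((T : Subgroup L) ⊓ (K ⊔ B)).subgroupOf (K ⊔ B)) :=
    (T.2.to_le inf_le_left).of_equiv (Subgroup.subgroupOfEquivOfLe inf_le_right).symm
  obtain ⟨R, hR⟩ := hp.exists_le_sylow
  refine ⟨R, le_antisymm ?_ hR⟩
  obtain ⟨RK, hRK⟩ := Cfsg.Agent.Lib.helper87.sylowIn_inf_normal T K
  have hmemR : ∀ (x : L) (hx : x ∈ K ⊔ B), x ∈ (T : Subgroup L) →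
      (⟨x, hx⟩ : ↥(K ⊔ B)) ∈ (R : Subgroup ↥(K ⊔ B)) := by
    intro x hx hxT
    apply hR
    rw [Subgroup.mem_subgroupOf]
    exact ⟨hxT, hx⟩
  have hclaim : ∀ z : ↥(K ⊔ B), z ∈ (R : Subgroup ↥(K ⊔ B)) → (z : L) ∈ K →
      (z : L) ∈ (T : Subgroup L) := by
    intro z hz hzK
    have hQ : IsPGroup p ↥((((R : Subgroup ↥(K ⊔ B)).map (K ⊔ B).subtype) ⊓ K).subgroupOf K) := by
      have h1 : IsPGroup p ↥((R : Subgroup ↥(K ⊔ B)).map (K ⊔ B).subtype) := R.2.map _
      exact (h1.to_le inf_le_left).of_equiv (Subgroup.subgroupOfEquivOfLe inf_le_right).symm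
    have hle : (RK : Subgroup K) ≤
        ((((R : Subgroup ↥(K ⊔ B)).map (K ⊔ B).subtype) ⊓ K).subgroupOf K) := by
      rw [hRK]
      intro w hw
      rw [Subgroup.mem_subgroupOf] at hw ⊢
      refine ⟨⟨⟨(w : L), (le_sup_left : K ≤ K ⊔ B) w.2⟩, hmemR _ _ hw.1, rfl⟩, w.2⟩
    have heq := RK.is_maximal' hQ hle
    have h2 : (⟨(z : L), hzK⟩ : K) ∈
        ((((R : Subgroup ↥(K ⊔ B)).map (K ⊔ B).subtype) ⊓ K).subgroupOf K) := by
      rw [Subgroup.mem_subgroupOf]
      exact ⟨⟨z, hz, rfl⟩, hzK⟩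
    rw [heq] at h2
    have h3 : (⟨(z : L), hzK⟩ : K) ∈ (RK : Subgroup K) := h2
    rw [hRK, Subgroup.mem_subgroupOf] at h3
    exact h3.1
  intro y hy
  have hy' : (y : L) ∈ ((K ⊔ B : Subgroup L) : Set L) := y.2
  rw [Subgroup.normal_mul] at hy'
  obtain ⟨k, hk, b, hb, hkb⟩ := Set.mem_mul.mp hy'
  have hbX : b ∈ K ⊔ B := (le_sup_right : B ≤ K ⊔ B) hb
  have hbR : (⟨b, hbX⟩ : ↥(K ⊔ B)) ∈ (R : Subgroup ↥(K ⊔ B)) := hmemR b hbX (hB hb)
  have hkR : y * (⟨b, hbX⟩ : ↥(K ⊔ B))⁻¹ ∈ (R : Subgroup ↥(K ⊔ B)) :=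
    Subgroup.mul_mem _ hy (Subgroup.inv_mem _ hbR)
  have hkeq : ((y * (⟨b, hbX⟩ : ↥(K ⊔ B))⁻¹ : ↥(K ⊔ B)) : L) = k := by
    show (y : L) * b⁻¹ = k
    rw [← hkb]; group
  have hkT : k ∈ (T : Subgroup L) := by
    have := hclaim _ hkR (by rw [hkeq]; exact hk)
    rw [hkeq] at this
    exact this
  rw [Subgroup.mem_subgroupOf]
  refine ⟨?_, y.2⟩
  rw [← hkb]
  exact Subgroup.mul_mem _ hkT (hB hb)

/-- **A refined Frattini argument.** For a Sylow `p`-subgroup `T`, a normal subgroup `K` and a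
conjugation `c_g` carrying `A ≤ T` into `T`, some `k ∈ K` has `k g ∈ N_L(T ∩ K)` and
`k (g A g⁻¹) k⁻¹ ≤ T`. -/
theorem frattini_refined (T : Sylow p L) (K : Subgroup L) [hK : K.Normal] (g : L)
    {A : Subgroup L} (hA : A ≤ T) (hgA : ∀ a ∈ A, g * a * g⁻¹ ∈ (T : Subgroup L)) :
    ∃ k ∈ K, k * g ∈ Subgroup.normalizer ((((T : Subgroup L) ⊓ K : Subgroup L)) : Set L) ∧
      ∀ a ∈ A, k * (g * a * g⁻¹) * k⁻¹ ∈ (T : Subgroup L) := by
  obtain ⟨B, hBdef⟩ : ∃ B : Subgroup L, B = A.map (MulAut.conj g).toMonoidHom := ⟨_, rfl⟩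
  have hBT : B ≤ T := by
    rw [hBdef]
    rintro _ ⟨a, ha, rfl⟩
    exact hgA a ha
  have hBmem : ∀ a ∈ A, g * a * g⁻¹ ∈ B := by
    intro a ha
    rw [hBdef]
    exact ⟨a, ha, rfl⟩
  obtain ⟨Y, hYdef⟩ : ∃ Y : Subgroup L,
      Y = ((T : Subgroup L).map (MulAut.conj g).toMonoidHom) ⊓ (K ⊔ B) := ⟨_, rfl⟩
  have hYp : IsPGroup p Y := by
    rw [hYdef]
    exact (T.2.map _).to_le inf_le_left
  have hYX : Y ≤ K ⊔ B := by rw [hYdef]; exact inf_le_right
  have hBY : B ≤ Y := by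
    rw [hYdef]
    refine le_inf ?_ le_sup_right
    rw [hBdef]
    exact Subgroup.map_mono hA
  have hsyl := sylowIn_inf_sup T K hBT
  obtain ⟨n, hn, hnY⟩ := Cfsg.Agent.Lib.helper87.exists_conj_le_of_sylowIn hsyl hYX hYp
  have hn' : n ∈ ((K ⊔ B : Subgroup L) : Set L) := hn
  rw [Subgroup.normal_mul] at hn'
  obtain ⟨k, hk, b, hb, hkb⟩ := Set.mem_mul.mp hn'
  have hkey : ∀ y ∈ Y, k * y * k⁻¹ ∈ (T : Subgroup L) := by
    intro y hy
    have h1 : b⁻¹ * y * b ∈ Y := Y.mul_mem (Y.mul_mem (Y.inv_mem (hBY hb)) hy) (hBY hb)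
    have h2 : n * (b⁻¹ * y * b) * n⁻¹ ∈ (T : Subgroup L) ⊓ (K ⊔ B) := hnY ⟨_, h1, rfl⟩
    have e : n * (b⁻¹ * y * b) * n⁻¹ = k * y * k⁻¹ := by rw [← hkb]; group
    rw [e] at h2
    exact h2.1
  refine ⟨k, hk, ?_, fun a ha => hkey _ (hBY (hBmem a ha))⟩
  apply Cfsg.Agent.Lib.helper88.mem_normalizer_of_conj_mem
  intro t ht
  have htK : g * t * g⁻¹ ∈ K := hK.conj_mem t ht.2 g
  have htY : g * t * g⁻¹ ∈ Y := by
    rw [hYdef]
    exact ⟨⟨t, ht.1, rfl⟩, (le_sup_left : K ≤ K ⊔ B) htK⟩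
  have e : k * g * t * (k * g)⁻¹ = k * (g * t * g⁻¹) * k⁻¹ := by group
  rw [e]
  exact ⟨hkey _ htY, hK.conj_mem _ htK k⟩

end dec

section gen

open scoped commutatorElement

/-- **Generation of conjugation maps.** Let `L` be a finite group with `C_L(O_p(L)) ≤ O_p(L)`,
`T` a Sylow `p`-subgroup and `W` a functor satisfying `QuadHyp`.  A predicate on the conjugation
maps `c_g : A → T` that is closed under composition and holds for the `g` centralizing the `p`-th
powers of the elements of `Z(T)` and for the `g` normalizing `W(T)` holds for all of them. -/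
theorem gen_of_quad {p : ℕ} [Fact p.Prime] {W : ∀ (Q : Type u) [Group Q], Subgroup Q}
    (hW : IsCharPFunctor.{u} p W) (hq : QuadHyp.{u} p W) (n : ℕ) :
    ∀ (L : Type u) [Group L] [Finite L], Nat.card L = n →
      Subgroup.centralizer ((pCore p L : Subgroup L) : Set L) ≤ pCore p L →
      ∀ (T : Sylow p L) (Pr : L → Subgroup L → Prop),
        (∀ (g h : L) (A B : Subgroup L), A ≤ T → B ≤ T → (∀ a ∈ A, g * a * g⁻¹ ∈ B) →
          (∀ b ∈ B, h * b * h⁻¹ ∈ (T : Subgroup L)) → Pr g A → Pr h B → Pr (h * g) A) →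
        (∀ (g : L) (A : Subgroup L), A ≤ T → (∀ a ∈ A, g * a * g⁻¹ ∈ (T : Subgroup L)) →
          (∀ z ∈ (T : Subgroup L) ⊓ Subgroup.centralizer ((T : Subgroup L) : Set L),
            g * z ^ p = z ^ p * g) → Pr g A) →
        (∀ (g : L) (A : Subgroup L), A ≤ T → (∀ a ∈ A, g * a * g⁻¹ ∈ (T : Subgroup L)) →
          g ∈ Subgroup.normalizer ((inducedFunctor W (T : Subgroup L) : Subgroup L) : Set L) →
            Pr g A) →
        ∀ (g : L) (A : Subgroup L), A ≤ T → (∀ a ∈ A, g * a * g⁻¹ ∈ (T : Subgroup L)) →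
          Pr g A := by
  induction n using Nat.strong_induction_on with
  | _ n IH =>
  intro L _ _ hn hcon T Pr hcomp hC hN g A hA hgA
  classical
  have hQn : (pCore p L).Normal := Cfsg.Agent.Lib.helper39.pCore_normal p L
  have hQp : IsPGroup p (pCore p L) := Cfsg.Agent.Lib.helper39.pCore_isPGroup p L
  have hQT : pCore p L ≤ T := Cfsg.Agent.Lib.helper39.pCore_le_sylow T
  obtain ⟨V, hVdef⟩ : ∃ V : Subgroup L,
      V = (Subgroup.center ↥(pCore p L)).map (pCore p L).subtype := ⟨_, rfl⟩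
  have hVmem : ∀ v : L, v ∈ V ↔ v ∈ pCore p L ∧ ∀ q ∈ pCore p L, q * v = v * q := by
    intro v
    rw [hVdef]
    constructor
    · rintro ⟨c, hc, rfl⟩
      refine ⟨c.2, fun q hq => ?_⟩
      have h1 := Subgroup.mem_center_iff.mp hc ⟨q, hq⟩
      exact congrArg Subtype.val h1
    · rintro ⟨hv, hc⟩
      refine ⟨⟨v, hv⟩, Subgroup.mem_center_iff.mpr ?_, rfl⟩
      intro q
      exact Subtype.ext (hc q q.2)
  have hVn : V.Normal := by
    constructor
    intro v hv x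
    rw [hVmem] at hv ⊢
    refine ⟨hQn.conj_mem v hv.1 x, fun q hq => ?_⟩
    have h1 := hv.2 (x⁻¹ * q * x) (by
      have := hQn.conj_mem q hq x⁻¹
      rwa [inv_inv] at this)
    calc q * (x * v * x⁻¹) = x * ((x⁻¹ * q * x) * v) * x⁻¹ := by group
      _ = x * (v * (x⁻¹ * q * x)) * x⁻¹ := by rw [h1]
      _ = x * v * x⁻¹ * q := by group
  have hVab : ∀ a ∈ V, ∀ b ∈ V, a * b = b * a := by
    intro a ha b hb
    exact ((hVmem b).mp hb).2 a ((hVmem a).mp ha).1
  -- `Z(T) ≤ V`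
  have hZV : ∀ z ∈ (T : Subgroup L) ⊓ Subgroup.centralizer ((T : Subgroup L) : Set L),
      z ∈ V := by
    intro z hz
    rw [hVmem]
    have hzc : z ∈ Subgroup.centralizer ((pCore p L : Subgroup L) : Set L) := by
      rw [Subgroup.mem_centralizer_iff]
      intro q hq
      exact (Subgroup.mem_centralizer_iff.mp hz.2) q (hQT hq)
    exact ⟨hcon hzc, fun q hq => (Subgroup.mem_centralizer_iff.mp hz.2) q (hQT hq)⟩
  by_cases hWn : (inducedFunctor W (T : Subgroup L)).Normal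
  · apply hN g A hA hgA
    rw [Subgroup.mem_normalizer_iff]
    intro h
    constructor
    · intro hh
      exact hWn.conj_mem h hh g
    · intro hh
      have h1 := hWn.conj_mem _ hh g⁻¹
      have e : g⁻¹ * (g * h * g⁻¹) * g⁻¹⁻¹ = h := by group
      rw [e] at h1
      exact h1
  -- a quadratic element outside `O_p(L)`
  obtain ⟨g₀, hgT, hgQ, hquad⟩ := hq L T hWn
  rw [← hVdef] at hquad
  obtain ⟨g', hg'T, hg'Q, hg'p, hg'le⟩ : ∃ g' : L, g' ∈ (T : Subgroup L) ∧ g' ∉ pCore p L ∧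
      g' ^ p ∈ pCore p L ∧ Subgroup.zpowers g' ≤ Subgroup.zpowers g₀ := by
    obtain ⟨k, hk⟩ := T.2 ⟨g₀, hgT⟩
    have hk' : g₀ ^ (p ^ k) = 1 := congrArg Subtype.val hk
    have hex : ∃ j, g₀ ^ (p ^ j) ∈ pCore p L := ⟨k, by rw [hk']; exact Subgroup.one_mem _⟩
    have hj := Nat.find_spec hex
    rcases Nat.eq_zero_or_pos (Nat.find hex) with h0 | hpos
    · exfalso
      rw [h0, pow_zero, pow_one] at hj
      exact hgQ hj
    · refine ⟨g₀ ^ (p ^ (Nat.find hex - 1)), Subgroup.pow_mem _ hgT _,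
        Nat.find_min hex (by omega), ?_, ?_⟩
      · rw [← pow_mul, ← pow_succ]
        have e : Nat.find hex - 1 + 1 = Nat.find hex := by omega
        rw [e]
        exact hj
      · rw [Subgroup.zpowers_le]
        exact Subgroup.pow_mem _ (Subgroup.mem_zpowers g₀) _
  have hquad' : ⁅⁅V, Subgroup.zpowers g'⁆, Subgroup.zpowers g'⁆ = ⊥ := by
    apply le_bot_iff.mp
    rw [← hquad]
    exact Subgroup.commutator_mono (Subgroup.commutator_mono le_rfl hg'le) hg'le
  have hg'pV : ∀ v ∈ V, g' ^ p * v = v * g' ^ p := by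
    intro v hv
    exact ((hVmem v).mp hv).2 _ hg'p
  -- every conjugate of `g'` centralizes the `p`-th powers of the elements of `Z(T)`
  have hconjy : ∀ x : L, ∀ z ∈ (T : Subgroup L) ⊓
      Subgroup.centralizer ((T : Subgroup L) : Set L),
      (x * g' * x⁻¹) * z ^ p = z ^ p * (x * g' * x⁻¹) := by
    intro x z hz
    have hzV : x⁻¹ * z * x ∈ V := by
      have := hVn.conj_mem z (hZV z hz) x⁻¹
      rwa [inv_inv] at this
    have h1 := commute_pow_of_quadratic hVn hVab hquad' p hg'pV (x⁻¹ * z * x) hzV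
    have e1 : (x⁻¹ * z * x) ^ p = x⁻¹ * z ^ p * x := by
      have := conj_pow (a := x⁻¹) (b := z) (i := p)
      rw [inv_inv] at this
      exact this
    rw [e1] at h1
    calc x * g' * x⁻¹ * z ^ p = x * (g' * (x⁻¹ * z ^ p * x)) * x⁻¹ := by group
      _ = x * ((x⁻¹ * z ^ p * x) * g') * x⁻¹ := by rw [h1]
      _ = z ^ p * (x * g' * x⁻¹) := by group
  obtain ⟨K, hKdef⟩ : ∃ K : Subgroup L, K = Subgroup.normalClosure ({g'} : Set L) := ⟨_, rfl⟩
  have hKn : K.Normal := by rw [hKdef]; exact Subgroup.normalClosure_normal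
  have hg'K : g' ∈ K := by
    rw [hKdef]; exact Subgroup.subset_normalClosure (Set.mem_singleton g')
  have hKy : ∀ k ∈ K, ∀ z ∈ (T : Subgroup L) ⊓
      Subgroup.centralizer ((T : Subgroup L) : Set L), k * z ^ p = z ^ p * k := by
    intro k hk z hz
    have hle : K ≤ Subgroup.centralizer ({z ^ p} : Set L) := by
      rw [hKdef]
      show Subgroup.closure (Group.conjugatesOfSet ({g'} : Set L)) ≤ _
      rw [Subgroup.closure_le]
      intro a ha
      rw [Group.mem_conjugatesOfSet_iff] at ha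
      obtain ⟨b, hb, hba⟩ := ha
      rw [Set.mem_singleton_iff] at hb
      rw [isConj_iff] at hba
      obtain ⟨c, hc⟩ := hba
      show a ∈ Subgroup.centralizer ({z ^ p} : Set L)
      rw [Subgroup.mem_centralizer_iff]
      intro h hh
      rw [Set.mem_singleton_iff] at hh
      rw [hh, ← hc, hb]
      exact (hconjy c z hz).symm
    have h1 := hle hk
    rw [Subgroup.mem_centralizer_iff] at h1
    exact (h1 _ rfl).symm
  obtain ⟨M, hMdef⟩ : ∃ M : Subgroup L,
      M = Subgroup.normalizer ((((T : Subgroup L) ⊓ K : Subgroup L)) : Set L) := ⟨_, rfl⟩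
  have hTM : (T : Subgroup L) ≤ M := by
    intro t ht
    rw [hMdef]
    apply mem_normalizer_inf_aux (Subgroup.le_normalizer ht)
    rw [Subgroup.mem_normalizer_iff]
    intro h
    constructor
    · intro hh
      exact hKn.conj_mem h hh t
    · intro hh
      have h1 := hKn.conj_mem _ hh t⁻¹
      have e : t⁻¹ * (t * h * t⁻¹) * t⁻¹⁻¹ = h := by group
      rw [e] at h1
      exact h1
  have hMne : M ≠ ⊤ := by
    intro hM
    apply hg'Q
    have hnorm : ((T : Subgroup L) ⊓ K).Normal := by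
      constructor
      intro a ha x
      have hx : x ∈ M := by rw [hM]; exact Subgroup.mem_top x
      rw [hMdef] at hx
      exact (Subgroup.mem_normalizer_iff.mp hx a).mp ha
    have hpg : IsPGroup p ↥((T : Subgroup L) ⊓ K) := T.2.to_le inf_le_left
    exact Cfsg.Agent.Lib.helper39.le_pCore hnorm hpg ⟨hg'T, hg'K⟩
  have hcardM : Nat.card ↥M < n := by
    rw [← hn]
    exact lt_of_le_of_ne (Subgroup.card_le_card_group M)
      (fun h => hMne ((Subgroup.card_eq_iff_eq_top M).mp h))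
  have hQM : pCore p L ≤ M := hQT.trans hTM
  have hconM : Subgroup.centralizer ((pCore p ↥M : Subgroup ↥M) : Set ↥M) ≤ pCore p ↥M := by
    have hn' : ((pCore p L).subgroupOf M).Normal := inferInstance
    have hp' : IsPGroup p ↥((pCore p L).subgroupOf M) :=
      hQp.comap_of_injective M.subtype M.subtype_injective
    have hle := Cfsg.Agent.Lib.helper39.le_pCore hn' hp'
    intro c hc
    apply hle
    rw [Subgroup.mem_subgroupOf]
    apply hcon
    rw [Subgroup.mem_centralizer_iff]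
    intro q hq
    have h1 := (Subgroup.mem_centralizer_iff.mp hc) ⟨q, hQM hq⟩
      (hle (Subgroup.mem_subgroupOf.mpr hq))
    exact congrArg Subtype.val h1
  -- the induction hypothesis in `M`
  have hIH := IH _ hcardM ↥M rfl hconM (T.subtype hTM)
    (fun (m : ↥M) (A' : Subgroup ↥M) => Pr (m : L) (A'.map M.subtype))
  have hTsub : ∀ x : ↥M, x ∈ ((T.subtype hTM : Sylow p ↥M) : Subgroup ↥M) ↔
      (x : L) ∈ (T : Subgroup L) := by
    intro x
    rw [Sylow.coe_subtype, Subgroup.mem_subgroupOf]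
  have hmapT : ∀ A' : Subgroup ↥M, A' ≤ ((T.subtype hTM : Sylow p ↥M) : Subgroup ↥M) →
      A'.map M.subtype ≤ (T : Subgroup L) := by
    rintro A' hA' _ ⟨a, ha, rfl⟩
    exact (hTsub a).mp (hA' ha)
  have hP1 : ∀ (m h : ↥M) (A' B' : Subgroup ↥M),
      A' ≤ ((T.subtype hTM : Sylow p ↥M) : Subgroup ↥M) →
      B' ≤ ((T.subtype hTM : Sylow p ↥M) : Subgroup ↥M) → (∀ a ∈ A', m * a * m⁻¹ ∈ B') →
      (∀ b ∈ B', h * b * h⁻¹ ∈ ((T.subtype hTM : Sylow p ↥M) : Subgroup ↥M)) →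
      Pr (m : L) (A'.map M.subtype) → Pr (h : L) (B'.map M.subtype) →
      Pr ((h * m : ↥M) : L) (A'.map M.subtype) := by
    intro m h A' B' hA' hB' hab hbT h1 h2
    refine hcomp (m : L) (h : L) _ _ (hmapT A' hA') (hmapT B' hB') ?_ ?_ h1 h2
    · rintro _ ⟨a, ha, rfl⟩
      exact ⟨m * a * m⁻¹, hab a ha, rfl⟩
    · rintro _ ⟨b, hb, rfl⟩
      exact (hTsub _).mp (hbT b hb)
  have hP2 : ∀ (m : ↥M) (A' : Subgroup ↥M),
      A' ≤ ((T.subtype hTM : Sylow p ↥M) : Subgroup ↥M) →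
      (∀ a ∈ A', m * a * m⁻¹ ∈ ((T.subtype hTM : Sylow p ↥M) : Subgroup ↥M)) →
      (∀ z ∈ ((T.subtype hTM : Sylow p ↥M) : Subgroup ↥M) ⊓ Subgroup.centralizer
        (((T.subtype hTM : Sylow p ↥M) : Subgroup ↥M) : Set ↥M), m * z ^ p = z ^ p * m) →
      Pr (m : L) (A'.map M.subtype) := by
    intro m A' hA' hmA hz
    refine hC (m : L) _ (hmapT A' hA') ?_ ?_
    · rintro _ ⟨a, ha, rfl⟩
      exact (hTsub _).mp (hmA a ha)
    · intro z hz'
      have hzc : (⟨z, hTM hz'.1⟩ : ↥M) ∈ Subgroup.centralizer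
          (((T.subtype hTM : Sylow p ↥M) : Subgroup ↥M) : Set ↥M) := by
        rw [Subgroup.mem_centralizer_iff]
        intro h hh
        exact Subtype.ext ((Subgroup.mem_centralizer_iff.mp hz'.2) (h : L) ((hTsub h).mp hh))
      have h1 := hz ⟨z, hTM hz'.1⟩ (Subgroup.mem_inf.mpr ⟨(hTsub _).mpr hz'.1, hzc⟩)
      exact congrArg Subtype.val h1
  have hP3 : ∀ (m : ↥M) (A' : Subgroup ↥M),
      A' ≤ ((T.subtype hTM : Sylow p ↥M) : Subgroup ↥M) →
      (∀ a ∈ A', m * a * m⁻¹ ∈ ((T.subtype hTM : Sylow p ↥M) : Subgroup ↥M)) →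
      m ∈ Subgroup.normalizer ((inducedFunctor W
        ((T.subtype hTM : Sylow p ↥M) : Subgroup ↥M) : Subgroup ↥M) : Set ↥M) →
      Pr (m : L) (A'.map M.subtype) := by
    intro m A' hA' hmA hm
    refine hN (m : L) _ (hmapT A' hA') ?_ ?_
    · rintro _ ⟨a, ha, rfl⟩
      exact (hTsub _).mp (hmA a ha)
    · have hind : inducedFunctor W ((T.subtype hTM : Sylow p ↥M) : Subgroup ↥M) =
          (inducedFunctor W (T : Subgroup L)).subgroupOf M := by
        rw [Sylow.coe_subtype]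
        exact ind_subgroupOf hW T.2 hTM
      rw [hind] at hm
      rw [Subgroup.mem_normalizer_iff]
      intro x
      have hWT : inducedFunctor W (T : Subgroup L) ≤ M :=
        (Cfsg.Agent.Lib.helper39.ind_le _).trans hTM
      constructor
      · intro hx
        have h1 := (Subgroup.mem_normalizer_iff.mp hm ⟨x, hWT hx⟩).mp
          (Subgroup.mem_subgroupOf.mpr hx)
        exact Subgroup.mem_subgroupOf.mp h1
      · intro hx
        have hxM : x ∈ M := by
          have h2 : (m : L)⁻¹ * ((m : L) * x * (m : L)⁻¹) * (m : L) ∈ M :=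
            M.mul_mem (M.mul_mem (M.inv_mem m.2) (hWT hx)) m.2
          have e : (m : L)⁻¹ * ((m : L) * x * (m : L)⁻¹) * (m : L) = x := by group
          rw [e] at h2
          exact h2
        have h1 := (Subgroup.mem_normalizer_iff.mp hm ⟨x, hxM⟩).mpr
          (Subgroup.mem_subgroupOf.mpr hx)
        exact Subgroup.mem_subgroupOf.mp h1
  have hIH' := hIH hP1 hP2 hP3
  -- the refined Frattini argument
  obtain ⟨k, hk, hkg, hkA⟩ := frattini_refined T K g hA hgA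
  rw [← hMdef] at hkg
  have hAM : A ≤ M := hA.trans hTM
  have h1 : Pr (k * g) A := by
    have h2 := hIH' ⟨k * g, hkg⟩ (A.subgroupOf M) (by
      intro a ha
      exact (hTsub a).mpr (hA (Subgroup.mem_subgroupOf.mp ha))) (by
      intro a ha
      rw [hTsub]
      have h3 := hkA (a : L) (Subgroup.mem_subgroupOf.mp ha)
      have e : k * (g * (a : L) * g⁻¹) * k⁻¹ = k * g * (a : L) * (k * g)⁻¹ := by group
      rw [e] at h3
      exact h3)
    rw [Subgroup.map_subgroupOf_eq_of_le hAM] at h2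
    exact h2
  obtain ⟨B, hBdef⟩ : ∃ B : Subgroup L, B = A.map (MulAut.conj (k * g)).toMonoidHom := ⟨_, rfl⟩
  have hBT : B ≤ T := by
    rw [hBdef]
    rintro _ ⟨a, ha, rfl⟩
    have h3 := hkA a ha
    have e : k * (g * a * g⁻¹) * k⁻¹ = k * g * a * (k * g)⁻¹ := by group
    rw [e] at h3
    exact h3
  have hBk : ∀ b ∈ B, k⁻¹ * b * k⁻¹⁻¹ ∈ (T : Subgroup L) := by
    intro b hb
    rw [hBdef] at hb
    obtain ⟨a, ha, rfl⟩ := hb
    have e : k⁻¹ * ((MulAut.conj (k * g)).toMonoidHom a) * k⁻¹⁻¹ = g * a * g⁻¹ := by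
      show k⁻¹ * (k * g * a * (k * g)⁻¹) * k⁻¹⁻¹ = g * a * g⁻¹
      group
    rw [e]
    exact hgA a ha
  have h2 : Pr k⁻¹ B := by
    apply hC k⁻¹ B hBT hBk
    intro z hz
    have h3 := hKy k hk z hz
    calc k⁻¹ * z ^ p = k⁻¹ * (z ^ p * k) * k⁻¹ := by group
      _ = k⁻¹ * (k * z ^ p) * k⁻¹ := by rw [h3]
      _ = z ^ p * k⁻¹ := by group
  have h3 := hcomp (k * g) k⁻¹ A B hA hBT (by
    intro a ha
    rw [hBdef]
    exact ⟨a, ha, rfl⟩) hBk h1 h2
  have e : k⁻¹ * (k * g) = g := by group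
  rw [e] at h3
  exact h3

end gen

end Cfsg.Agent.Lib.helper86
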