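import Cfsg.Agent.Lib.helper90.ThompsonCenter
import Cfsg.Agent.Lib.helper51.TJ
import Cfsg.Agent.S0649
import Cfsg.Agent.S0650

/-!
The Thompson subgroup (abelian version) satisfies the quadratic-element hypothesis `QuadHyp` of
helper90 (helper86): if `J(P)` is not normal in the finite group `G`, `P` a Sylow `p`-subgroup,
then some `g ∈ P` outside `O_p(G)` acts quadratically on `Z(O_p(G))`.  The proof is the replacement
theorem (S0649/S0650) applied to the abelian normal subgroup `Z(O_p(G))`.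

Also: `J(T) ≤ R ≤ T` implies `J(R) = J(T)`, and `C_T(J(T)) ≤ J(T)`.
-/

set_option autoImplicit false

namespace Cfsg.Agent.Lib.helper86

open Cfsg Cfsg.Agent.Lib.helper90 Cfsg.Agent.Lib.helper14 Cfsg.Agent.Lib.helper51

universe u

section repl

/-- Replacement for an abelian normal subgroup `B` of a finite `p`-group: if some abelian subgroup
of largest order does not contain `B`, then some such subgroup is normalized by `B`. -/
theorem exists_maxAbelian_normalized {S : Type*} [Group S] [Finite S] {p : ℕ} [Fact p.Prime]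
    (hS : IsPGroup p S) (B : Subgroup S) [B.Normal] (hB : IsMulCommutative B)
    (hU : ∃ U ∈ Cfsg.maxAbelianSubgroups S, ¬ B ≤ U) :
    ∃ A ∈ Cfsg.maxAbelianSubgroups S, ¬ B ≤ A ∧ B ≤ Subgroup.normalizer (A : Set S) := by
  obtain ⟨U, hUF, hU2⟩ := hU
  have hne : Nonempty {U : Subgroup S // U ∈ Cfsg.maxAbelianSubgroups S ∧ ¬ B ≤ U} :=
    ⟨⟨U, hUF, hU2⟩⟩
  obtain ⟨⟨A, hAF, hA2⟩, hmax⟩ := Finite.exists_max
    (fun U : {U : Subgroup S // U ∈ Cfsg.maxAbelianSubgroups S ∧ ¬ B ≤ U} => Nat.card ↥(U.1 ⊓ B))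
  refine ⟨A, hAF, hA2, ?_⟩
  by_contra hnot
  have hB2 : p = 2 → IsMulCommutative B := fun _ => hB
  have hBc := (Cfsg.Agent.Lib.helper88.isMulCommutative_iff_forall B).mp hB
  have hBB : ⁅B, B⁆ = ⊥ := by
    rw [Subgroup.commutator_eq_bot_iff_le_centralizer]
    intro x hx
    rw [Subgroup.mem_centralizer_iff]
    intro y hy
    exact hBc y hy x hx
  have hBA : ⁅B, B⁆ ≤ A := by rw [hBB]; exact bot_le
  obtain ⟨b, hb, hbN, hbA⟩ := Cfsg.Agent.S0649.result hS B hB2 A hAF.1 hBA hnot
  obtain ⟨h1, h2, -, h4, h5, -⟩ :=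
    Cfsg.Agent.S0650.result hS B hB2 A hAF.1 hBA hnot b hb hbN hbA
  have hF : ((A ⊓ A.map (MulAut.conj (b⁻¹)).toMonoidHom) ⊔
      Subgroup.closure {g : S | ∃ a ∈ A, g = a * b⁻¹ * a⁻¹ * b}) ∈ Cfsg.maxAbelianSubgroups S :=
    ⟨h2, fun B' hB' => by rw [h1]; exact hAF.2 B' hB'⟩
  have hnB : ¬ B ≤ (A ⊓ A.map (MulAut.conj (b⁻¹)).toMonoidHom) ⊔
      Subgroup.closure {g : S | ∃ a ∈ A, g = a * b⁻¹ * a⁻¹ * b} := by
    intro hle
    exact h5.ne (inf_eq_right.mpr hle)
  have hcard := hmax ⟨_, hF, hnB⟩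
  have heq : A ⊓ B = ((A ⊓ A.map (MulAut.conj (b⁻¹)).toMonoidHom) ⊔
      Subgroup.closure {g : S | ∃ a ∈ A, g = a * b⁻¹ * a⁻¹ * b}) ⊓ B :=
    Subgroup.eq_of_le_of_card_ge h4.le hcard
  exact h4.ne heq

end repl

section amb

variable {G : Type*} [Group G]

theorem goodE_zero_iff (A : Subgroup G) : GoodE 0 A ↔ ∀ x ∈ A, ∀ y ∈ A, x * y = y * x := by
  unfold GoodE
  rw [Cfsg.Agent.Lib.helper88.isMulCommutative_iff_forall]
  constructor
  · intro h
    exact h.1
  · intro h
    exact ⟨h, fun a _ => pow_zero a⟩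

/-- The abelian subgroups of largest order of a finite subgroup exist. -/
theorem famE_zero_nonempty (T : Subgroup G) [Finite T] : (famE 0 T).Nonempty := by
  classical
  have hbot : GoodE 0 (⊥ : Subgroup ↥T) := goodE_bot 0
  have hne : Nonempty {A : Subgroup ↥T // GoodE 0 A} := ⟨⟨⊥, hbot⟩⟩
  obtain ⟨⟨A, hA⟩, hmax⟩ := Finite.exists_max
    (fun A : {A : Subgroup ↥T // GoodE 0 A} => Nat.card ↥A.1)
  have hAm : A ∈ famT 0 ↥T := ⟨hA, fun B hB => hmax ⟨B, hB⟩⟩
  exact ⟨_, (mem_famT_iff 0 T A).mp hAm⟩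

/-- An element of `T` commuting with an abelian subgroup `A` of `T` of largest order lies
in `A`. -/
theorem mem_of_commute_famE {T A : Subgroup G} [Finite T] (hA : A ∈ famE 0 T) {x : G}
    (hx : x ∈ T) (hc : ∀ a ∈ A, a * x = x * a) : x ∈ A := by
  have hAc := (goodE_zero_iff A).mp hA.2.1
  have hgen : A ⊔ Subgroup.zpowers x = Subgroup.closure ((A : Set G) ∪ {x}) := by
    rw [Subgroup.closure_union, Subgroup.closure_eq, Subgroup.zpowers_eq_closure]
  have hBT : A ⊔ Subgroup.zpowers x ≤ T := sup_le hA.1 (by rw [Subgroup.zpowers_le]; exact hx)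
  have hgenc : ∀ u ∈ ((A : Set G) ∪ {x}), ∀ v ∈ ((A : Set G) ∪ {x}), u * v = v * u := by
    intro u hu v hv
    rcases hu with hu | hu
    · rcases hv with hv | hv
      · exact hAc u hu v hv
      · rw [Set.mem_singleton_iff] at hv
        rw [hv]
        exact hc u hu
    · rw [Set.mem_singleton_iff] at hu
      rcases hv with hv | hv
      · rw [hu]
        exact (hc v hv).symm
      · rw [Set.mem_singleton_iff] at hv
        rw [hu, hv]
  have hBc : GoodE 0 (A ⊔ Subgroup.zpowers x) := by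
    rw [goodE_zero_iff, hgen]
    intro u hu v hv
    have h1 : Subgroup.closure ((A : Set G) ∪ {x}) ≤
        Subgroup.centralizer ((A : Set G) ∪ {x}) := by
      rw [Subgroup.closure_le]
      intro w hw
      show w ∈ Subgroup.centralizer ((A : Set G) ∪ {x})
      rw [Subgroup.mem_centralizer_iff]
      intro h hh
      exact hgenc h hh w hw
    have h2 : Subgroup.closure ((A : Set G) ∪ {x}) ≤ Subgroup.centralizer ({v} : Set G) := by
      rw [Subgroup.closure_le]
      intro w hw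
      show w ∈ Subgroup.centralizer ({v} : Set G)
      rw [Subgroup.mem_centralizer_iff]
      intro h hh
      rw [Set.mem_singleton_iff] at hh
      rw [hh]
      exact ((Subgroup.mem_centralizer_iff.mp (h1 hv)) w hw).symm
    have h3 := (Subgroup.mem_centralizer_iff.mp (h2 hu)) v rfl
    exact h3.symm
  have hcard := hA.2.2 _ hBT hBc
  have hfin : Finite ↥(A ⊔ Subgroup.zpowers x) :=
    Finite.of_injective (Subgroup.inclusion hBT) (Subgroup.inclusion_injective hBT)
  have heq : A = A ⊔ Subgroup.zpowers x := Subgroup.eq_of_le_of_card_ge le_sup_left hcard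
  rw [heq]
  exact (le_sup_right : Subgroup.zpowers x ≤ A ⊔ Subgroup.zpowers x) (Subgroup.mem_zpowers x)

/-- `C_T(J(T)) ≤ J(T)`. -/
theorem inf_centralizer_thompsonA_le (T : Subgroup G) [Finite T] :
    T ⊓ Subgroup.centralizer ((Cfsg.thompsonSubgroupAOf T : Subgroup G) : Set G) ≤
      Cfsg.thompsonSubgroupAOf T := by
  intro x hx
  obtain ⟨A, hA⟩ := famE_zero_nonempty T
  have hAJ : A ≤ Cfsg.thompsonSubgroupAOf T := le_thompsonA hA
  apply hAJ
  apply mem_of_commute_famE hA hx.1
  intro a ha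
  exact (Subgroup.mem_centralizer_iff.mp hx.2) a (hAJ ha)

/-- `J(T) ≤ R ≤ T` implies `J(R) = J(T)`. -/
theorem thompsonA_eq_of_le {T R : Subgroup G} [Finite T]
    (h1 : Cfsg.thompsonSubgroupAOf T ≤ R) (h2 : R ≤ T) :
    Cfsg.thompsonSubgroupAOf R = Cfsg.thompsonSubgroupAOf T := by
  obtain ⟨A₀, hA₀⟩ := famE_zero_nonempty T
  have hA₀R : A₀ ≤ R := (le_thompsonA hA₀).trans h1
  have hfam : famE 0 R = famE 0 T := by
    ext A
    constructor
    · intro hA
      refine ⟨hA.1.trans h2, hA.2.1, fun B hB hBg => ?_⟩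
      exact (hA₀.2.2 B hB hBg).trans (hA.2.2 A₀ hA₀R hA₀.2.1)
    · intro hA
      exact ⟨(le_thompsonA hA).trans h1, hA.2.1, fun B hB hBg => hA.2.2 B (hB.trans h2) hBg⟩
  rw [thompsonA_eq_sSup, thompsonA_eq_sSup, hfam]

end amb

section quad

/-- **The Thompson subgroup satisfies the quadratic-element hypothesis.** -/
theorem quadHyp_funJ (p : ℕ) [Fact p.Prime] : QuadHyp.{u} p funJ := by
  intro G _ _ P hnn
  classical
  have hnn' : ¬ (Cfsg.thompsonSubgroupAOf (P : Subgroup G)).Normal := hnn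
  have hQn : (pCore p G).Normal := Cfsg.Agent.Lib.helper39.pCore_normal p G
  have hQP : pCore p G ≤ P := Cfsg.Agent.Lib.helper39.pCore_le_sylow P
  obtain ⟨V, hVdef⟩ : ∃ V : Subgroup G,
      V = (Subgroup.center ↥(pCore p G)).map (pCore p G).subtype := ⟨_, rfl⟩
  rw [← hVdef]
  have hVmem : ∀ v : G, v ∈ V ↔ v ∈ pCore p G ∧ ∀ q ∈ pCore p G, q * v = v * q := by
    intro v
    rw [hVdef]
    constructor
    · rintro ⟨c, hc, rfl⟩
      refine ⟨c.2, fun q hq => ?_⟩
      have h1 := Subgroup.mem_center_iff.mp hc ⟨q, hq⟩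
      exact congrArg Subtype.val h1
    · rintro ⟨hv, hc⟩
      refine ⟨⟨v, hv⟩, Subgroup.mem_center_iff.mpr ?_, rfl⟩
      intro q
      exact Subtype.ext (hc q q.2)
  have hVn : V.Normal := by
    constructor
    intro v hv x
    rw [hVmem] at hv ⊢
    refine ⟨hQn.conj_mem v hv.1 x, fun q hq => ?_⟩
    have h1 := hv.2 (x⁻¹ * q * x) (by
      have := hQn.conj_mem q hq x⁻¹
      rwa [inv_inv] at this)
    calc q * (x * v * x⁻¹) = x * ((x⁻¹ * q * x) * v) * x⁻¹ := by group
      _ = x * (v * (x⁻¹ * q * x)) * x⁻¹ := by rw [h1]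
      _ = x * v * x⁻¹ * q := by group
  have hVab : ∀ a ∈ V, ∀ b ∈ V, a * b = b * a := by
    intro a ha b hb
    exact ((hVmem b).mp hb).2 a ((hVmem a).mp ha).1
  have hVP : V ≤ P := fun v hv => hQP ((hVmem v).mp hv).1
  by_cases hcase : ∀ A ∈ famE 0 (P : Subgroup G), V ≤ A
  · -- every member contains `V`
    have hex : ∃ A ∈ famE 0 (P : Subgroup G), ¬ A ≤ pCore p G := by
      by_contra hall
      push Not at hall
      apply hnn'
      have hJQ : Cfsg.thompsonSubgroupAOf (P : Subgroup G) ≤ pCore p G := by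
        rw [thompsonA_eq_sSup]
        exact sSup_le hall
      have heq := thompsonA_eq_of_le hJQ hQP
      rw [← heq]
      constructor
      intro x hx g
      have h1 := Cfsg.Agent.Lib.helper88.thompsonSubgroupAOf_map
        (MulAut.conj g).injective (pCore p G) (f := (MulAut.conj g).toMonoidHom)
      have h2 : (pCore p G).map (MulAut.conj g).toMonoidHom = pCore p G := by
        apply map_conj_eq_of_mem_normalizer
        rw [Subgroup.normalizer_eq_top]
        exact Subgroup.mem_top g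
      rw [h2] at h1
      rw [h1]
      exact ⟨x, hx, rfl⟩
    obtain ⟨A, hA, hAQ⟩ := hex
    obtain ⟨g, hgA, hgQ⟩ := SetLike.not_le_iff_exists.mp hAQ
    refine ⟨g, hA.1 hgA, hgQ, ?_⟩
    have hAc := (goodE_zero_iff A).mp hA.2.1
    have h1 : ⁅V, Subgroup.zpowers g⁆ = ⊥ := by
      rw [Subgroup.commutator_eq_bot_iff_le_centralizer]
      intro v hv
      rw [Subgroup.mem_centralizer_iff]
      intro h hh
      have hhA : h ∈ A := by
        have hle : Subgroup.zpowers g ≤ A := by rw [Subgroup.zpowers_le]; exact hgA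
        exact hle hh
      exact hAc h hhA v (hcase A hA hv)
    rw [h1, Subgroup.commutator_bot_left]
  · -- some member does not contain `V`
    push Not at hcase
    obtain ⟨A, hA, hVA⟩ := hcase
    have hBn : (V.subgroupOf (P : Subgroup G)).Normal := inferInstance
    have hBab : IsMulCommutative ↥(V.subgroupOf (P : Subgroup G)) := by
      rw [Cfsg.Agent.Lib.helper88.isMulCommutative_iff_forall]
      intro x hx y hy
      exact Subtype.ext (hVab _ (Subgroup.mem_subgroupOf.mp hx) _ (Subgroup.mem_subgroupOf.mp hy))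
    have hA' : A.subgroupOf (P : Subgroup G) ∈ Cfsg.maxAbelianSubgroups ↥(P : Subgroup G) := by
      rw [← famT_zero_eq_maxAbelianSubgroups]
      exact subgroupOf_mem_famT hA
    have hBA' : ¬ V.subgroupOf (P : Subgroup G) ≤ A.subgroupOf (P : Subgroup G) := by
      intro hle
      apply hVA
      intro v hv
      have h1 : (⟨v, hVP hv⟩ : ↥(P : Subgroup G)) ∈ V.subgroupOf (P : Subgroup G) :=
        Subgroup.mem_subgroupOf.mpr hv
      exact Subgroup.mem_subgroupOf.mp (hle h1)
    obtain ⟨A₁, hA₁, hBA₁, hBN⟩ := exists_maxAbelian_normalized P.2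
      (V.subgroupOf (P : Subgroup G)) hBab ⟨_, hA', hBA'⟩
    have hA₁f : A₁.map (P : Subgroup G).subtype ∈ famE 0 (P : Subgroup G) := by
      rw [← mem_famT_iff, famT_zero_eq_maxAbelianSubgroups]
      exact hA₁
    have hVA₁ : ¬ V ≤ A₁.map (P : Subgroup G).subtype := by
      intro hle
      apply hBA₁
      intro b hb
      obtain ⟨a, ha, hab⟩ := hle (Subgroup.mem_subgroupOf.mp hb)
      have e : a = b := Subtype.ext hab
      rw [← e]
      exact ha
    have hVN : V ≤ Subgroup.normalizer ((A₁.map (P : Subgroup G).subtype : Subgroup G) : Set G) := by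
      intro v hv
      have h1 : (⟨v, hVP hv⟩ : ↥(P : Subgroup G)) ∈ Subgroup.normalizer (A₁ : Set ↥(P : Subgroup G)) :=
        hBN (Subgroup.mem_subgroupOf.mpr hv)
      exact Cfsg.Agent.Lib.helper39.map_mem_normalizer (P : Subgroup G).subtype h1
    have hA₁c := (goodE_zero_iff _).mp hA₁f.2.1
    have hex : ∃ g ∈ A₁.map (P : Subgroup G).subtype, ∃ v ∈ V, g * v ≠ v * g := by
      by_contra hcon
      push Not at hcon
      apply hVA₁
      intro v hv
      exact mem_of_commute_famE hA₁f (hVP hv) (fun a ha => hcon a ha v hv)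
    obtain ⟨g, hgA, v₀, hv₀, hgv⟩ := hex
    refine ⟨g, hA₁f.1 hgA, fun hgQ => hgv (((hVmem v₀).mp hv₀).2 g hgQ), ?_⟩
    have hzle : Subgroup.zpowers g ≤ A₁.map (P : Subgroup G).subtype := by
      rw [Subgroup.zpowers_le]; exact hgA
    have h1 : ⁅V, Subgroup.zpowers g⁆ ≤ V ⊓ A₁.map (P : Subgroup G).subtype := by
      rw [Subgroup.commutator_le]
      intro v hv h hh
      rw [commutatorElement_def]
      constructor
      · have h2 : h * v⁻¹ * h⁻¹ ∈ V := hVn.conj_mem _ (V.inv_mem hv) h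
        have e : v * h * v⁻¹ * h⁻¹ = v * (h * v⁻¹ * h⁻¹) := by group
        rw [e]
        exact V.mul_mem hv h2
      · have h2 : v * h * v⁻¹ ∈ A₁.map (P : Subgroup G).subtype :=
          (Subgroup.mem_normalizer_iff.mp (hVN hv) h).mp (hzle hh)
        exact Subgroup.mul_mem _ h2 (Subgroup.inv_mem _ (hzle hh))
    have h2 : ⁅V ⊓ A₁.map (P : Subgroup G).subtype, Subgroup.zpowers g⁆ = ⊥ := by
      rw [Subgroup.commutator_eq_bot_iff_le_centralizer]
      intro a ha
      rw [Subgroup.mem_centralizer_iff]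
      intro h hh
      exact hA₁c h (hzle hh) a ha.2
    apply le_bot_iff.mp
    rw [← h2]
    exact Subgroup.commutator_mono h1 le_rfl

end quad

end Cfsg.Agent.Lib.helper86
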