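import Cfsg.Agent.Lib.helper86.GenGroup
import Cfsg.Agent.Lib.helper86.QuadJ

/-!
Glauberman's generation theorem in subgroup form (helper86): a finite group `G` with
`C_G(O_p(G)) ≤ O_p(G)` and Sylow `p`-subgroup `S` is generated by the centralizer of the `p`-th
powers of the elements of `Z(S)` and the normalizer of `J(S)`.  Consequences for groups in which
`S` lies in a unique maximal subgroup.
-/

set_option autoImplicit false

namespace Cfsg.Agent.Lib.helper86

open Cfsg Cfsg.Agent.Lib.helper90

universe u

/-- The subgroup generated by the `p`-th powers of the elements of `Z(S)` lies in `Z(S)`. -/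
theorem powerClosure_center_le {G : Type*} [Group G] (p : ℕ) (T : Subgroup G) :
    powerClosure p 1 (T ⊓ Subgroup.centralizer (T : Set G)) ≤
      T ⊓ Subgroup.centralizer (T : Set G) := by
  unfold powerClosure
  rw [Subgroup.closure_le]
  rintro y ⟨x, hx, rfl⟩
  exact pow_mem hx _

/-- **Glauberman's generation theorem**: `G = ⟨C_G(℧¹(Z(S))), N_G(J(S))⟩` when
`C_G(O_p(G)) ≤ O_p(G)`. -/
theorem centralizer_sup_normalizer_eq_top {G : Type u} [Group G] [Finite G] {p : ℕ}
    [Fact p.Prime] (S : Sylow p G)
    (hcon : Subgroup.centralizer ((pCore p G : Subgroup G) : Set G) ≤ pCore p G) :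
    Subgroup.centralizer ((powerClosure p 1 ((S : Subgroup G) ⊓
        Subgroup.centralizer ((S : Subgroup G) : Set G)) : Subgroup G) : Set G) ⊔
      Subgroup.normalizer ((thompsonSubgroupAOf (S : Subgroup G) : Subgroup G) : Set G) = ⊤ := by
  rw [eq_top_iff]
  intro g _
  obtain ⟨H, hH⟩ : ∃ H : Subgroup G, H = Subgroup.centralizer ((powerClosure p 1
      ((S : Subgroup G) ⊓ Subgroup.centralizer ((S : Subgroup G) : Set G)) : Subgroup G) : Set G) ⊔
      Subgroup.normalizer ((thompsonSubgroupAOf (S : Subgroup G) : Subgroup G) : Set G) := ⟨_, rfl⟩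
  rw [← hH]
  have key := gen_of_quad (isCharPFunctor_funJ.{u} p) (quadHyp_funJ.{u} p) (Nat.card G) G rfl hcon S
    (fun g _ => g ∈ H) ?_ ?_ ?_ g ⊥ bot_le ?_
  · exact key
  · intro g h A B _ _ _ _ hg hh
    exact mul_mem hh hg
  · intro g A _ _ hz
    have hle : powerClosure p 1 ((S : Subgroup G) ⊓
        Subgroup.centralizer ((S : Subgroup G) : Set G)) ≤ Subgroup.centralizer ({g} : Set G) := by
      unfold powerClosure
      rw [Subgroup.closure_le]
      rintro y ⟨x, hx, rfl⟩
      rw [SetLike.mem_coe, Subgroup.mem_centralizer_iff]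
      intro k hk
      rw [Set.mem_singleton_iff] at hk
      subst hk
      rw [pow_one]
      exact hz x hx
    have hg : g ∈ Subgroup.centralizer ((powerClosure p 1 ((S : Subgroup G) ⊓
        Subgroup.centralizer ((S : Subgroup G) : Set G)) : Subgroup G) : Set G) := by
      rw [Subgroup.mem_centralizer_iff]
      intro x hx
      have h1 := hle hx
      rw [Subgroup.mem_centralizer_iff] at h1
      exact (h1 g rfl).symm
    rw [hH]
    exact Subgroup.mem_sup_left hg
  · intro g A _ _ hg
    rw [hH]
    exact Subgroup.mem_sup_right hg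
  · intro a ha
    rw [Subgroup.mem_bot] at ha
    subst ha
    simp

/-- Frattini argument for the intersection of a Sylow subgroup with a normal subgroup. -/
theorem normal_sup_normalizer_inf_eq_top {G : Type*} [Group G] [Finite G] {p : ℕ} [Fact p.Prime]
    (S : Sylow p G) (C : Subgroup G) [C.Normal] :
    C ⊔ Subgroup.normalizer ((((S : Subgroup G) ⊓ C : Subgroup G)) : Set G) = ⊤ := by
  rw [eq_top_iff]
  intro g _
  obtain ⟨k, hk, hkg, -⟩ := frattini_refined S C g (A := ⊥) bot_le (by
    intro a ha
    rw [Subgroup.mem_bot] at ha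
    subst ha
    simp)
  have e : g = k⁻¹ * (k * g) := by group
  rw [e]
  exact mul_mem (Subgroup.mem_sup_left (inv_mem hk)) (Subgroup.mem_sup_right hkg)

/-- If a Sylow `p`-subgroup `S` lies in a unique maximal subgroup `M`, every proper subgroup
containing `S` lies in `M`. -/
theorem le_of_unique_coatom {G : Type*} [Group G] [Finite G] {T M : Subgroup G}
    (huniq : ∀ M' : Subgroup G, IsCoatom M' ∧ T ≤ M' → M' = M)
    {X : Subgroup G} (hTX : T ≤ X) (hX : X ≠ ⊤) : X ≤ M := by
  rcases IsCoatomic.eq_top_or_exists_le_coatom X with h1 | ⟨M', hM', hXM'⟩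
  · exact absurd h1 hX
  · have h2 := huniq M' ⟨hM', hTX.trans hXM'⟩
    rw [← h2]
    exact hXM'

/-- **Dichotomy for a Sylow subgroup in a unique maximal subgroup.** If `C_G(O_p(G)) ≤ O_p(G)` and
`S` lies in a unique maximal subgroup of `G`, then `Z(S) ≤ Z(G)`-type centrality of the `p`-th
powers holds, or `J(S)` is normal in `G`. -/
theorem central_or_normal_of_unique_coatom {G : Type u} [Group G] [Finite G] {p : ℕ}
    [Fact p.Prime] (S : Sylow p G)
    (hcon : Subgroup.centralizer ((pCore p G : Subgroup G) : Set G) ≤ pCore p G)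
    {M : Subgroup G} (hM : IsCoatom M)
    (huniq : ∀ M' : Subgroup G, IsCoatom M' ∧ (S : Subgroup G) ≤ M' → M' = M) :
    Subgroup.centralizer ((powerClosure p 1 ((S : Subgroup G) ⊓
        Subgroup.centralizer ((S : Subgroup G) : Set G)) : Subgroup G) : Set G) = ⊤ ∨
      (thompsonSubgroupAOf (S : Subgroup G)).Normal := by
  have hgen := centralizer_sup_normalizer_eq_top S hcon
  have hSC : (S : Subgroup G) ≤ Subgroup.centralizer ((powerClosure p 1 ((S : Subgroup G) ⊓
        Subgroup.centralizer ((S : Subgroup G) : Set G)) : Subgroup G) : Set G) := by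
    intro s hs
    rw [Subgroup.mem_centralizer_iff]
    intro x hx
    have h1 : x ∈ Subgroup.centralizer ((S : Subgroup G) : Set G) :=
      (powerClosure_center_le p _ hx).2
    rw [Subgroup.mem_centralizer_iff] at h1
    exact (h1 s hs).symm
  have hSN : (S : Subgroup G) ≤
      Subgroup.normalizer ((thompsonSubgroupAOf (S : Subgroup G) : Subgroup G) : Set G) := by
    intro s hs
    exact mem_normalizer_ind (isCharPFunctor_funJ.{u} p) S.isPGroup' (Subgroup.le_normalizer hs)
  by_cases hC : Subgroup.centralizer ((powerClosure p 1 ((S : Subgroup G) ⊓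
        Subgroup.centralizer ((S : Subgroup G) : Set G)) : Subgroup G) : Set G) = ⊤
  · exact Or.inl hC
  by_cases hN : Subgroup.normalizer
      ((thompsonSubgroupAOf (S : Subgroup G) : Subgroup G) : Set G) = ⊤
  · exact Or.inr (Subgroup.normalizer_eq_top_iff.mp hN)
  · exfalso
    have h1 := le_of_unique_coatom huniq hSC hC
    have h2 := le_of_unique_coatom huniq hSN hN
    have h3 : (⊤ : Subgroup G) ≤ M := by
      rw [← hgen]
      exact sup_le h1 h2
    exact hM.1 (top_le_iff.mp h3)

end Cfsg.Agent.Lib.helper86
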