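import Mathlib
import Cfsg.Agent.Lib.helper30.OmegaCent

/-!
# A relative form of the Omega-lemma

If `p` is odd, `Y` is a normal subgroup of the `p`-group `R` and `E` is maximal among the normal
elementary abelian subgroups of `R` contained in `Y`, then every element of `Y` of order dividing
`p` that centralizes `E` lies in `E`.
-/

set_option autoImplicit false

namespace Cfsg.Agent.Lib.helper86.HHKC

open Cfsg.Agent.Lib.helper30

theorem omega_rel {R : Type*} [Group R] [Finite R] (p : ℕ) [Fact p.Prime] (hp : p ≠ 2)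
    (hR : IsPGroup p R) (Y : Subgroup R) [hYn : Y.Normal] (E : Subgroup R) [hEn : E.Normal]
    (hEY : E ≤ Y)
    (hEab : ∀ x ∈ E, ∀ y ∈ E, x * y = y * x) (hEexp : ∀ x ∈ E, x ^ p = 1)
    (hmax : ∀ F : Subgroup R, F.Normal → F ≤ Y → (∀ x ∈ F, ∀ y ∈ F, x * y = y * x) →
      (∀ x ∈ F, x ^ p = 1) → E ≤ F → F ≤ E) :
    ∀ x ∈ Subgroup.centralizer (E : Set R), x ∈ Y → x ^ p = 1 → x ∈ E := by
  have hpp : p.Prime := Fact.out
  have hodd : 2 ∣ p - 1 := by
    obtain ⟨k, hk⟩ := hpp.odd_of_ne_two hp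
    exact ⟨k, by omega⟩
  have hP1 : ∀ x ∈ lev E 1, x ∈ Y → x ^ p = 1 → x ∈ E := by
    intro x hx hxY hxp
    have hx0 := hx
    rw [mem_lev_succ] at hx
    obtain ⟨hxC, hx1⟩ := hx
    have hx1' : ∀ r, x * r * x⁻¹ * r⁻¹ ∈ E := fun r => (mem_lev_zero E hEab _).mp (hx1 r)
    have hcl : ∀ a ∈ lev E 1, ∀ b ∈ lev E 1, ∀ c ∈ lev E 1,
        (a * b * a⁻¹ * b⁻¹) * c = c * (a * b * a⁻¹ * b⁻¹) := by
      intro a ha b hb c hc
      rw [mem_lev_succ] at ha hc
      have h1 : a * b * a⁻¹ * b⁻¹ ∈ E := (mem_lev_zero E hEab _).mp (ha.2 b)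
      exact Subgroup.mem_centralizer_iff.mp hc.1 _ h1
    obtain ⟨B, hB⟩ := exists_omega p hp (lev E 1) hcl
    have hEl : E ≤ lev E 1 := by
      intro y hy
      rw [mem_lev_succ]
      refine ⟨Subgroup.mem_centralizer_iff.mpr (fun e he => hEab e he y hy), fun r => ?_⟩
      rw [mem_lev_zero E hEab]
      have := hEn.conj_mem _ (E.inv_mem hy) r
      have h2 : y * r * y⁻¹ * r⁻¹ = y * (r * y⁻¹ * r⁻¹) := by group
      rw [h2]
      exact E.mul_mem hy this
    have hFB : Subgroup.closure ((E : Set R) ∪ {x}) ≤ B := by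
      rw [Subgroup.closure_le]
      rintro y (hy | hy)
      · exact (hB y).mpr ⟨hEl hy, hEexp y hy⟩
      · rw [Set.mem_singleton_iff] at hy
        subst hy
        exact (hB _).mpr ⟨hx0, hxp⟩
    have hEF : E ≤ Subgroup.closure ((E : Set R) ∪ {x}) :=
      fun e he => Subgroup.subset_closure (Or.inl he)
    have hxF : x ∈ Subgroup.closure ((E : Set R) ∪ {x}) := Subgroup.subset_closure (Or.inr rfl)
    have hFY : Subgroup.closure ((E : Set R) ∪ {x}) ≤ Y := by
      rw [Subgroup.closure_le]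
      rintro y (hy | hy)
      · exact hEY hy
      · rw [Set.mem_singleton_iff] at hy
        subst hy
        exact hxY
    have hFn : (Subgroup.closure ((E : Set R) ∪ {x})).Normal := by
      apply closure_normal_of_conj_mem
      rintro g y (hy | hy)
      · exact hEF (hEn.conj_mem y hy g)
      · rw [Set.mem_singleton_iff] at hy
        subst hy
        have h1 : g * y * g⁻¹ = (y * g * y⁻¹ * g⁻¹)⁻¹ * y := by group
        rw [h1]
        exact Subgroup.mul_mem _ (Subgroup.inv_mem _ (hEF (hx1' g))) hxF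
    have hFab : ∀ u ∈ Subgroup.closure ((E : Set R) ∪ {x}),
        ∀ v ∈ Subgroup.closure ((E : Set R) ∪ {x}), u * v = v * u := by
      apply closure_comm
      rintro s (hs | hs) t (ht | ht)
      · exact hEab s hs t ht
      · rw [Set.mem_singleton_iff] at ht
        subst ht
        exact Subgroup.mem_centralizer_iff.mp hxC s hs
      · rw [Set.mem_singleton_iff] at hs
        subst hs
        exact (Subgroup.mem_centralizer_iff.mp hxC t ht).symm
      · rw [Set.mem_singleton_iff] at hs ht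
        subst hs
        subst ht
        rfl
    exact hmax _ hFn hFY hFab (fun y hy => ((hB y).mp (hFB hy)).2) hEF hxF
  have hP : ∀ j : ℕ, ∀ x ∈ lev E (j + 1), x ∈ Y → x ^ p = 1 → x ∈ E := by
    intro j
    induction j with
    | zero => exact hP1
    | succ j ih =>
      intro x hx hxY hxp
      obtain ⟨hxC, hxl⟩ := (mem_lev_succ E (j + 1) x).mp hx
      have hcY : ∀ w : R, x * w * x⁻¹ * w⁻¹ ∈ Y := by
        intro w
        have h1 : x * w * x⁻¹ * w⁻¹ = x * (w * x⁻¹ * w⁻¹) := by group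
        rw [h1]
        exact Y.mul_mem hxY (hYn.conj_mem _ (Y.inv_mem hxY) w)
      have hQ : ∀ i : ℕ, ∀ w : R, x * w * x⁻¹ * w⁻¹ ∈ lev E i → x * w * x⁻¹ * w⁻¹ ∈ E := by
        intro i
        induction i with
        | zero =>
          intro w hw
          exact (mem_lev_zero E hEab _).mp hw
        | succ i ihi =>
          intro w hw
          have hcl := (mem_lev_succ E i _).mp hw
          have h1 : x * (x * w * x⁻¹ * w⁻¹) * x⁻¹ * (x * w * x⁻¹ * w⁻¹)⁻¹ ∈ lev E i := by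
            have := hcl.2 x
            have h2 : ∀ c : R, x * c * x⁻¹ * c⁻¹ = (c * x * c⁻¹ * x⁻¹)⁻¹ := fun c => by group
            rw [h2]
            exact Subgroup.inv_mem _ this
          have h3 : x * (x * w * x⁻¹ * w⁻¹) * x⁻¹ * (x * w * x⁻¹ * w⁻¹)⁻¹ ∈ E := ihi _ h1
          have hz : (x * w * x⁻¹ * w⁻¹) * x⁻¹ * (x * w * x⁻¹ * w⁻¹)⁻¹ * x ∈ E := by
            have := hEn.conj_mem _ h3 x⁻¹
            have h4 : ∀ c : R, c * x⁻¹ * c⁻¹ * x = x⁻¹ * (x * c * x⁻¹ * c⁻¹) * x⁻¹⁻¹ :=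
              fun c => by group
            rw [h4]
            exact this
          have hzx : Commute ((x * w * x⁻¹ * w⁻¹) * x⁻¹ * (x * w * x⁻¹ * w⁻¹)⁻¹ * x) x⁻¹ :=
            Subgroup.mem_centralizer_iff.mp (Subgroup.inv_mem _ hxC) _ hz
          have hzc : Commute ((x * w * x⁻¹ * w⁻¹) * x⁻¹ * (x * w * x⁻¹ * w⁻¹)⁻¹ * x)
              (x * w * x⁻¹ * w⁻¹) :=
            Subgroup.mem_centralizer_iff.mp hcl.1 _ hz
          have hmul' : ∀ c : R, c * x⁻¹ = (c * x⁻¹ * c⁻¹ * x) * (x⁻¹ * c) := fun c => by group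
          have hmul : (x * w * x⁻¹ * w⁻¹) * x⁻¹
              = ((x * w * x⁻¹ * w⁻¹) * x⁻¹ * (x * w * x⁻¹ * w⁻¹)⁻¹ * x)
                * (x⁻¹ * (x * w * x⁻¹ * w⁻¹)) := hmul' _
          have hpow := Cfsg.Agent.S1443.mul_pow_of_comm_central x⁻¹ (x * w * x⁻¹ * w⁻¹) _ hmul
            hzx hzc p
          have h5 : x⁻¹ * (x * w * x⁻¹ * w⁻¹) = w * x⁻¹ * w⁻¹ := by group
          have h6 : (x⁻¹ * (x * w * x⁻¹ * w⁻¹)) ^ p = 1 := by
            rw [h5, conj_pow, inv_pow, hxp]
            group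
          have hzp : ((x * w * x⁻¹ * w⁻¹) * x⁻¹ * (x * w * x⁻¹ * w⁻¹)⁻¹ * x) ^ (p * (p - 1) / 2)
              = 1 := by
            rw [Nat.mul_div_assoc p hodd, pow_mul, hEexp _ hz, one_pow]
          rw [h6, inv_pow, hxp, inv_one, one_mul, hzp, mul_one] at hpow
          exact ih _ (hxl w) (hcY w) hpow.symm
      have hx1 : x ∈ lev E 1 := by
        rw [mem_lev_succ]
        exact ⟨hxC, fun r => (mem_lev_zero E hEab _).mpr (hQ (j + 1) r (hxl r))⟩
      exact hP1 x hx1 hxY hxp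
  intro x hx hxY hxp
  obtain ⟨n, hn⟩ := lev_top p hR E
  exact hP n x (lev_le_succ E n (hn x hx)) hxY hxp

end Cfsg.Agent.Lib.helper86.HHKC
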