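import Mathlib
import Cfsg.Agent.Lib.helper37.CoprimeGen
import Cfsg.Agent.Lib.helper30.RankTwo
import Cfsg.Agent.Lib.helper66.PGroupAction
import Cfsg.Agent.Lib.helper40.Cores

/-!
# The `q`-group argument for the two-layer Hall–Higman lemma

`qarg`: let `N` be a normal `p'`-subgroup of `Γ` containing its centralizer, `P` a `p`-subgroup,
`B ≤ P` an elementary abelian subgroup normalized by `P` which centralizes every `P`-invariant
abelian `q`-subgroup of `N`, and `g ∈ P` with `g ^ p ^ n = 1` such that `y = g ^ p ^ (n - 1)`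
centralizes every `g`-invariant abelian `q`-subgroup of `N`.  Then `y` centralizes `B`.
-/

set_option autoImplicit false

namespace Cfsg.Agent.Lib.helper86.HHKC

variable {Γ : Type*} [Group Γ]

/-- If `F` has index at most `p` in the elementary abelian group `B` and `b ∈ B ∖ F`, then every
element of `B` is of the form `f * b ^ i` with `f ∈ F`. -/
theorem exists_eq_mul_pow [Finite Γ] (p : ℕ) [hp : Fact p.Prime] (B F : Subgroup Γ) (hFB : F ≤ B)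
    (hidx : F.relIndex B ≤ p) (hBab : ∀ a ∈ B, ∀ b ∈ B, a * b = b * a)
    (hBexp : ∀ b ∈ B, b ^ p = 1) (b : Γ) (hb : b ∈ B) (hbF : b ∉ F) :
    ∀ c ∈ B, ∃ f ∈ F, ∃ i : ℕ, c = f * b ^ i := by
  obtain ⟨k, hk⟩ : ∃ k, p = k + 1 := ⟨p - 1, by have := hp.out.pos; omega⟩
  let K : Subgroup Γ :=
    { carrier := {c | ∃ f ∈ F, ∃ i : ℕ, c = f * b ^ i}
      one_mem' := ⟨1, F.one_mem, 0, by simp⟩
      mul_mem' := by
        rintro _ _ ⟨f, hf, i, rfl⟩ ⟨f', hf', j, rfl⟩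
        refine ⟨f * f', F.mul_mem hf hf', i + j, ?_⟩
        have h1 : b ^ i * f' = f' * b ^ i := hBab _ (B.pow_mem hb i) _ (hFB hf')
        calc f * b ^ i * (f' * b ^ j) = f * (b ^ i * f') * b ^ j := by group
          _ = f * (f' * b ^ i) * b ^ j := by rw [h1]
          _ = f * f' * b ^ (i + j) := by rw [pow_add]; group
      inv_mem' := by
        rintro _ ⟨f, hf, i, rfl⟩
        refine ⟨f⁻¹, F.inv_mem hf, k * i, ?_⟩
        have h1 : b ^ (k * i) = (b ^ i)⁻¹ := by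
          apply eq_inv_of_mul_eq_one_left
          rw [← pow_add]
          have e : k * i + i = p * i := by rw [hk]; ring
          rw [e, pow_mul, hBexp b hb, one_pow]
        have h2 : (b ^ i)⁻¹ * f⁻¹ = f⁻¹ * (b ^ i)⁻¹ :=
          hBab _ (B.inv_mem (B.pow_mem hb i)) _ (B.inv_mem (hFB hf))
        rw [h1, mul_inv_rev, h2] }
  have hKmem : ∀ c, c ∈ K ↔ ∃ f ∈ F, ∃ i : ℕ, c = f * b ^ i := fun c => Iff.rfl
  have hFK : F ≤ K := fun f hf => (hKmem f).mpr ⟨f, hf, 0, by simp⟩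
  have hKB : K ≤ B := by
    rintro _ ⟨f, hf, i, rfl⟩
    exact B.mul_mem (hFB hf) (B.pow_mem hb i)
  have hbK : b ∈ K := (hKmem b).mpr ⟨1, F.one_mem, 1, by simp⟩
  have hlt : F < K := lt_of_le_of_ne hFK (fun h => hbF (h ▸ hbK))
  have hKp : IsPGroup p K := by
    rintro ⟨c, hc⟩
    refine ⟨1, ?_⟩
    apply Subtype.ext
    show c ^ p ^ 1 = 1
    rw [pow_one]
    exact hBexp c (hKB hc)
  have h1 : p * Nat.card F ≤ Nat.card K := Cfsg.Agent.Lib.helper30.pgroup_lt_card p F K hKp hlt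
  have h2 : Nat.card B ≤ p * Nat.card F := by
    have h3 := Subgroup.relIndex_mul_relIndex (⊥ : Subgroup Γ) F B bot_le hFB
    rw [Subgroup.relIndex_bot_left, Subgroup.relIndex_bot_left] at h3
    rw [← h3, mul_comm]
    exact Nat.mul_le_mul_right _ hidx
  have hKeq : K = B := Subgroup.eq_of_le_of_card_ge hKB (h2.trans h1)
  intro c hc
  rw [← hKeq] at hc
  exact (hKmem c).mp hc

/-- An element `y` of order dividing `p` normalizing `B` and a subgroup `F` of index at most `p`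
acts trivially on `B / F`. -/
theorem delta_mem_of_normalizes [Finite Γ] (p : ℕ) [hp : Fact p.Prime] (B F : Subgroup Γ)
    (hFB : F ≤ B) (hidx : F.relIndex B ≤ p) (hBab : ∀ a ∈ B, ∀ b ∈ B, a * b = b * a)
    (hBexp : ∀ b ∈ B, b ^ p = 1) (y : Γ) (hy : y ^ p = 1) (hyB : ∀ b ∈ B, y * b * y⁻¹ ∈ B)
    (hyF : ∀ f ∈ F, y * f * y⁻¹ ∈ F) (b : Γ) (hb : b ∈ B) : b * (y * b⁻¹ * y⁻¹) ∈ F := by
  by_cases hbF : b ∈ F
  · exact F.mul_mem hbF (hyF _ (F.inv_mem hbF))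
  obtain ⟨f, hf, i, hfi⟩ := exists_eq_mul_pow p B F hFB hidx hBab hBexp b hb hbF (y * b * y⁻¹)
    (hyB b hb)
  have key : ∀ k : ℕ, ∃ fk ∈ F, y ^ k * b * (y ^ k)⁻¹ = fk * b ^ (i ^ k) := by
    intro k
    induction k with
    | zero => exact ⟨1, F.one_mem, by simp⟩
    | succ k ih =>
      obtain ⟨fk, hfk, hk⟩ := ih
      refine ⟨(y * fk * y⁻¹) * f ^ (i ^ k), F.mul_mem (hyF _ hfk) (F.pow_mem hf _), ?_⟩
      have h1 : y ^ (k + 1) * b * (y ^ (k + 1))⁻¹ = y * (y ^ k * b * (y ^ k)⁻¹) * y⁻¹ := by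
        rw [pow_succ']; group
      have h2 : y * (fk * b ^ (i ^ k)) * y⁻¹ = (y * fk * y⁻¹) * (y * b * y⁻¹) ^ (i ^ k) := by
        rw [conj_pow]; group
      have hc : Commute f (b ^ i) := hBab _ (hFB hf) _ (B.pow_mem hb i)
      rw [h1, hk, h2, hfi, hc.mul_pow, ← pow_mul, pow_succ, mul_comm i (i ^ k)]
      simp only [mul_assoc]
  obtain ⟨fp, hfp, hp1⟩ := key p
  rw [hy] at hp1
  have h3 : b ^ (i ^ p) = b ^ i := by
    rw [pow_eq_pow_mod (i ^ p) (hBexp b hb), pow_eq_pow_mod i (hBexp b hb)]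
    congr 1
    have h4 : ((i ^ p : ℕ) : ZMod p) = (i : ZMod p) := by
      rw [Nat.cast_pow, ZMod.pow_card]
    exact (ZMod.natCast_eq_natCast_iff' _ _ _).mp h4
  have h4 : b = fp * b ^ i := by
    rw [← h3]
    simpa using hp1
  have h5 : b * (y * b⁻¹ * y⁻¹) = fp * f⁻¹ := by
    have h6 : y * b⁻¹ * y⁻¹ = (y * b * y⁻¹)⁻¹ := by group
    rw [h6, hfi]
    nth_rewrite 1 [h4]
    group
  rw [h5]
  exact F.mul_mem hfp (F.inv_mem hf)

/-- A commutator `[d, t]` of order prime to `p` commuting with the element `t` of order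
dividing `p` is trivial. -/
theorem comm_eq_one_of_commute {p : ℕ} (d t : Γ) (ht : t ^ p = 1)
    (hc : (d * t * d⁻¹ * t⁻¹) * t = t * (d * t * d⁻¹ * t⁻¹))
    (hcop : (orderOf (d * t * d⁻¹ * t⁻¹)).Coprime p) : d * t = t * d := by
  have h1 : (d * t * d⁻¹ * t⁻¹) ^ p = 1 := by
    have h2 : (d * t * d⁻¹ * t⁻¹ * t) ^ p = (d * t * d⁻¹ * t⁻¹) ^ p * t ^ p :=
      Commute.mul_pow hc p
    have h3 : d * t * d⁻¹ * t⁻¹ * t = d * t * d⁻¹ := by group
    rw [h3, conj_pow, ht] at h2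
    simpa using h2.symm
  have h4 : d * t * d⁻¹ * t⁻¹ = 1 :=
    Cfsg.Agent.Lib.helper40.eq_one_of_pow_eq_one_of_coprime (k := 1) (by rw [pow_one]; exact h1)
      hcop
  calc d * t = (d * t * d⁻¹ * t⁻¹) * (t * d) := by group
    _ = t * d := by rw [h4, one_mul]

/-- An element not centralizing the `p'`-group `N` does not centralize some `P`-invariant
Sylow subgroup of `N`. -/
theorem exists_q_not_centralized [Finite Γ] (p : ℕ) [hp : Fact p.Prime] (N P : Subgroup Γ)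
    (hNp : (Nat.card N).Coprime p) (hP : IsPGroup p P)
    (hPN : P ≤ Subgroup.normalizer (N : Set Γ)) (t : Γ) (ht : ∃ v ∈ N, t * v ≠ v * t) :
    ∃ q : ℕ, q.Prime ∧ ∃ Q : Subgroup Γ, Q ≤ N ∧ IsPGroup q Q ∧
      P ≤ Subgroup.normalizer (Q : Set Γ) ∧ ∃ u ∈ Q, t * u ≠ u * t := by
  by_contra hcon
  push Not at hcon
  obtain ⟨v, hvN, hv⟩ := ht
  apply hv
  have hX : ¬ p ∣ Nat.card N := fun h =>
    hp.out.one_lt.ne' (Nat.Coprime.eq_one_of_dvd hNp.symm h)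
  have hcard : Nat.card N ≤ Nat.card (N ⊓ Subgroup.centralizer ({t} : Set Γ) : Subgroup Γ) := by
    apply Nat.le_of_dvd Nat.card_pos
    rw [← Nat.factorization_le_iff_dvd Nat.card_pos.ne' Nat.card_pos.ne', Finsupp.le_def]
    intro q
    by_cases hq : q.Prime
    · have : Fact q.Prime := ⟨hq⟩
      obtain ⟨Q, hQN, hQq, hPQ, hQcard⟩ :=
        Cfsg.Agent.Lib.helper37.exists_invariant_sylow p q P N hP hX hPN
      have hQC : Q ≤ N ⊓ Subgroup.centralizer ({t} : Set Γ) := by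
        intro u hu
        refine Subgroup.mem_inf.mpr ⟨hQN hu, ?_⟩
        rw [Subgroup.mem_centralizer_iff]
        intro s hs
        rw [Set.mem_singleton_iff] at hs
        subst hs
        exact hcon q hq Q hQN hQq hPQ u hu
      have hdvd : q ^ (Nat.card N).factorization q
          ∣ Nat.card (N ⊓ Subgroup.centralizer ({t} : Set Γ) : Subgroup Γ) := by
        rw [← hQcard]
        exact Subgroup.card_dvd_of_le hQC
      exact (hq.pow_dvd_iff_le_factorization Nat.card_pos.ne').mp hdvd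
    · rw [Nat.factorization_eq_zero_of_not_prime _ hq]
      exact Nat.zero_le _
  have heq := Subgroup.eq_of_le_of_card_ge
    (inf_le_left : N ⊓ Subgroup.centralizer ({t} : Set Γ) ≤ N) hcard
  have hv' : v ∈ N ⊓ Subgroup.centralizer ({t} : Set Γ) := by rw [heq]; exact hvN
  exact Subgroup.mem_centralizer_iff.mp (Subgroup.mem_inf.mp hv').2 t rfl

/-- In a cyclic `p`-group, every nontrivial element has `g ^ p ^ (n - 1)` among its powers. -/
theorem exists_pow_eq_pow {p : ℕ} [hp : Fact p.Prime] (g : Γ) (n : ℕ) (hn : 1 ≤ n)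
    (hg : g ^ p ^ n = 1) (i : ℕ) (hi : g ^ i ≠ 1) : ∃ m : ℕ, (g ^ i) ^ m = g ^ p ^ (n - 1) := by
  have hi0 : i ≠ 0 := by
    rintro rfl
    exact hi (pow_zero g)
  obtain ⟨e, m, hm, him⟩ := Nat.exists_eq_pow_mul_and_not_dvd hi0 p hp.out.one_lt.ne'
  have hen : e ≤ n - 1 := by
    by_contra hlt
    push Not at hlt
    apply hi
    have h1 : p ^ n ∣ i := by
      rw [him]
      exact Dvd.dvd.mul_right (pow_dvd_pow p (by omega)) m
    obtain ⟨c, hc⟩ := h1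
    rw [hc, pow_mul, hg, one_pow]
  have hcop : Nat.Coprime m p := ((Nat.Prime.coprime_iff_not_dvd hp.out).mpr hm).symm
  obtain ⟨m', -, hm'⟩ := Nat.exists_mul_mod_eq_one_of_coprime hcop hp.out.one_lt
  have hyp : (g ^ p ^ (n - 1)) ^ p = 1 := by
    rw [← pow_mul, ← pow_succ, Nat.sub_add_cancel hn, hg]
  refine ⟨p ^ (n - 1 - e) * m', ?_⟩
  have h2 : (g ^ i) ^ (p ^ (n - 1 - e)) = (g ^ p ^ (n - 1)) ^ m := by
    rw [← pow_mul, ← pow_mul, him]
    congr 1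
    have h3 : p ^ (n - 1) = p ^ e * p ^ (n - 1 - e) := by
      rw [← pow_add]
      congr 1
      omega
    rw [h3]
    ring
  rw [pow_mul, h2, ← pow_mul, pow_eq_pow_mod (m * m') hyp, hm', pow_one]

/-- Conjugates of commuting elements commute. -/
theorem commute_conj (h a b : Γ) (hab : a * b = b * a) :
    (h * a * h⁻¹) * (h * b * h⁻¹) = (h * b * h⁻¹) * (h * a * h⁻¹) := by
  calc (h * a * h⁻¹) * (h * b * h⁻¹) = h * (a * b) * h⁻¹ := by group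
    _ = h * (b * a) * h⁻¹ := by rw [hab]
    _ = (h * b * h⁻¹) * (h * a * h⁻¹) := by group

/-- The `q`-group argument. -/
theorem qarg [Finite Γ] {p : ℕ} [hp : Fact p.Prime]
    (N : Subgroup Γ) [hNn : N.Normal] (hNp : (Nat.card N).Coprime p)
    (hCN : Subgroup.centralizer (N : Set Γ) ≤ N)
    (P : Subgroup Γ) (hP : IsPGroup p P)
    (B : Subgroup Γ) (hBP : B ≤ P) (hBn : ∀ r ∈ P, ∀ b ∈ B, r * b * r⁻¹ ∈ B)
    (hBab : ∀ a ∈ B, ∀ b ∈ B, a * b = b * a) (hBexp : ∀ b ∈ B, b ^ p = 1)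
    (hBcent : ∀ (q : ℕ), q.Prime → q ≠ p → ∀ A : Subgroup Γ, A ≤ N → IsPGroup q A →
      (∀ a ∈ A, ∀ b ∈ A, a * b = b * a) → (∀ r ∈ P, ∀ a ∈ A, r * a * r⁻¹ ∈ A) →
      ∀ b ∈ B, ∀ a ∈ A, b * a = a * b)
    (g : Γ) (hgP : g ∈ P) (n : ℕ) (hn : 1 ≤ n) (hg : g ^ p ^ n = 1)
    (hC : ∀ (q : ℕ), q.Prime → q ≠ p → ∀ A : Subgroup Γ, A ≤ N → IsPGroup q A →
      (∀ a ∈ A, ∀ b ∈ A, a * b = b * a) → (∀ a ∈ A, g * a * g⁻¹ ∈ A) →
      ∀ a ∈ A, g ^ p ^ (n - 1) * a = a * g ^ p ^ (n - 1)) :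
    ∀ b ∈ B, g ^ p ^ (n - 1) * b = b * g ^ p ^ (n - 1) := by
  classical
  obtain ⟨y, hy⟩ : ∃ y, y = g ^ p ^ (n - 1) := ⟨_, rfl⟩
  rw [← hy] at hC ⊢
  have hyp : y ^ p = 1 := by rw [hy, ← pow_mul, ← pow_succ, Nat.sub_add_cancel hn, hg]
  have hyP : y ∈ P := by rw [hy]; exact P.pow_mem hgP _
  have hordN : ∀ v ∈ N, (orderOf v).Coprime p := by
    intro v hv
    have h1 : orderOf v ∣ Nat.card N := by
      have := orderOf_dvd_natCard (⟨v, hv⟩ : N)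
      rwa [Subgroup.orderOf_mk] at this
    exact Nat.Coprime.coprime_dvd_left h1 hNp
  by_contra hcon
  push Not at hcon
  obtain ⟨b₁, hb₁, hyb₁⟩ := hcon
  have hδB : ∀ b ∈ B, b * (y * b⁻¹ * y⁻¹) ∈ B := fun b hb =>
    B.mul_mem hb (hBn y hyP _ (B.inv_mem hb))
  have ht₁ : b₁ * (y * b₁⁻¹ * y⁻¹) ≠ 1 := by
    intro h
    apply hyb₁
    have h1 : y * b₁ = (b₁ * (y * b₁⁻¹ * y⁻¹))⁻¹ * (b₁ * y) := by group
    rw [h1, h, inv_one, one_mul]
  have ht₁N : ∃ v ∈ N, (b₁ * (y * b₁⁻¹ * y⁻¹)) * v ≠ v * (b₁ * (y * b₁⁻¹ * y⁻¹)) := by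
    by_contra hall
    push Not at hall
    have hmem : b₁ * (y * b₁⁻¹ * y⁻¹) ∈ N := by
      apply hCN
      rw [Subgroup.mem_centralizer_iff]
      intro v hv
      exact (hall v hv).symm
    exact ht₁ (Cfsg.Agent.Lib.helper40.eq_one_of_pow_eq_one_of_coprime (k := 1)
      (by rw [pow_one]; exact hBexp _ (hδB b₁ hb₁)) (hordN _ hmem))
  have hPN : P ≤ Subgroup.normalizer (N : Set Γ) := by
    rw [Subgroup.normalizer_eq_top]
    exact le_top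
  obtain ⟨q, hq, Q, hQN, hQq, hPQ, u₀, hu₀Q, hu₀⟩ :=
    exists_q_not_centralized p N P hNp hP hPN _ ht₁N
  have hqp : q ≠ p := by
    rintro rfl
    obtain ⟨k, hk⟩ := hQq ⟨u₀, hu₀Q⟩
    have hk' : u₀ ^ q ^ k = 1 := by simpa using congrArg Subtype.val hk
    have h1 : u₀ = 1 :=
      Cfsg.Agent.Lib.helper40.eq_one_of_pow_eq_one_of_coprime hk' (hordN _ (hQN hu₀Q))
    apply hu₀
    rw [h1, mul_one, one_mul]
  have : Fact q.Prime := ⟨hq⟩
  have hPQ' : ∀ r ∈ P, ∀ u ∈ Q, r * u * r⁻¹ ∈ Q := Subgroup.le_normalizer_iff.mp hPQ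
  -- a minimal `P`-invariant subgroup `D` of `Q` not centralized by `[B, y]`
  have hex : ∃ c : ℕ, ∃ D : Subgroup Γ, D ≤ Q ∧ (∀ r ∈ P, ∀ u ∈ D, r * u * r⁻¹ ∈ D) ∧
      (∃ b ∈ B, ∃ u ∈ D, (b * (y * b⁻¹ * y⁻¹)) * u ≠ u * (b * (y * b⁻¹ * y⁻¹))) ∧
      Nat.card D = c :=
    ⟨_, Q, le_rfl, hPQ', ⟨b₁, hb₁, u₀, hu₀Q, hu₀⟩, rfl⟩
  obtain ⟨D, hDQ, hPD, hDnc, hcard⟩ := Nat.find_spec hex
  have hmin : ∀ D₁ : Subgroup Γ, D₁ ≤ D → (∀ r ∈ P, ∀ u ∈ D₁, r * u * r⁻¹ ∈ D₁) → D₁ ≠ D →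
      ∀ b ∈ B, ∀ u ∈ D₁, (b * (y * b⁻¹ * y⁻¹)) * u = u * (b * (y * b⁻¹ * y⁻¹)) := by
    intro D₁ hD₁ hPD₁ hne
    by_contra hcon
    push Not at hcon
    have hlt : Nat.card D₁ < Nat.card D := Cfsg.Agent.Lib.helper66.card_lt_card_of_lt' hD₁ hne
    rw [hcard] at hlt
    exact Nat.find_min hex hlt ⟨D₁, hD₁.trans hDQ, hPD₁, hcon, rfl⟩
  have hDN : D ≤ N := hDQ.trans hQN
  have hDq : IsPGroup q D := hQq.to_le hDQ
  have hordD : ∀ v ∈ D, (orderOf v).Coprime p := fun v hv => hordN v (hDN hv)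
  have hBD : ∀ b ∈ B, ∀ u ∈ D, b * u * b⁻¹ ∈ D := fun b hb => hPD b (hBP hb)
  have hcommD : ∀ v ∈ D, ∀ f ∈ B, v * f * v⁻¹ * f⁻¹ ∈ D := by
    intro v hv f hf
    have h1 : v * f * v⁻¹ * f⁻¹ = v * (f * v⁻¹ * f⁻¹) := by group
    rw [h1]
    exact D.mul_mem hv (hBD f hf _ (D.inv_mem hv))
  -- the commutator subgroup of `D`
  obtain ⟨Dc, hDc⟩ : ∃ Dc : Subgroup Γ, Dc = ⁅D, D⁆ := ⟨_, rfl⟩
  have hcomm_mem : ∀ a ∈ D, ∀ b ∈ D, a * b * a⁻¹ * b⁻¹ ∈ Dc := by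
    intro a ha b hb
    rw [hDc, ← commutatorElement_def]
    exact Subgroup.commutator_mem_commutator ha hb
  have hDcD : Dc ≤ D := by
    rw [hDc, Subgroup.commutator_le]
    intro a ha b hb
    rw [commutatorElement_def]
    exact D.mul_mem (D.mul_mem (D.mul_mem ha hb) (D.inv_mem ha)) (D.inv_mem hb)
  have hDcne : Dc ≠ D := by
    intro h
    have hnil : Group.IsNilpotent ↥D := hDq.isNilpotent
    have hsolv : Group.IsSolvable ↥D := inferInstance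
    have hnt : Nontrivial ↥D := by
      obtain ⟨b, hb, u, hu, hne⟩ := hDnc
      refine ⟨⟨⟨u, hu⟩, 1, ?_⟩⟩
      intro h1
      apply hne
      have h2 : u = 1 := congrArg Subtype.val h1
      rw [h2, mul_one, one_mul]
    have h1 := Group.IsSolvable.commutator_lt_top_of_nontrivial ↥D
    have h2 : (commutator ↥D).map D.subtype = ⁅D, D⁆ := Subgroup.map_subtype_commutator D
    apply h1.ne
    apply Subgroup.map_injective D.subtype_injective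
    rw [h2, ← hDc, h, ← MonoidHom.range_eq_map, Subgroup.range_subtype]
  have hPDc : ∀ r ∈ P, ∀ u ∈ Dc, r * u * r⁻¹ ∈ Dc := by
    have h1 := Cfsg.Agent.Lib.helper37.le_normalizer_commutator_self P D
      (Subgroup.le_normalizer_iff.mpr hPD)
    rw [hDc]
    exact Subgroup.le_normalizer_iff.mp h1
  have hDDc : ∀ d ∈ D, ∀ z ∈ Dc, d * z * d⁻¹ ∈ Dc := by
    intro d hd z hz
    have h1 : d * z * d⁻¹ = (d * z * d⁻¹ * z⁻¹) * z := by group
    rw [h1]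
    exact Dc.mul_mem (hcomm_mem d hd z (hDcD hz)) hz
  have hδDc : ∀ b ∈ B, ∀ z ∈ Dc, (b * (y * b⁻¹ * y⁻¹)) * z = z * (b * (y * b⁻¹ * y⁻¹)) :=
    hmin Dc hDcD hPDc hDcne
  -- `D` centralizes its commutator subgroup
  have hcent : ∀ d ∈ D, ∀ z ∈ Dc, d * z = z * d := by
    by_contra hcon
    push Not at hcon
    obtain ⟨d₀, hd₀, z₀, hz₀, hne₀⟩ := hcon
    obtain ⟨C, hC'⟩ : ∃ C : Subgroup Γ, C = D ⊓ Subgroup.centralizer (Dc : Set Γ) := ⟨_, rfl⟩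
    have hCmem : ∀ w, w ∈ C ↔ w ∈ D ∧ ∀ z ∈ Dc, z * w = w * z := by
      intro w
      rw [hC', Subgroup.mem_inf, Subgroup.mem_centralizer_iff]
      rfl
    have hCD : C ≤ D := fun w hw => ((hCmem w).mp hw).1
    have hCne : C ≠ D := by
      intro h
      have h1 : d₀ ∈ C := by rw [h]; exact hd₀
      exact hne₀ (((hCmem d₀).mp h1).2 z₀ hz₀).symm
    have hPC : ∀ r ∈ P, ∀ u ∈ C, r * u * r⁻¹ ∈ C := by
      intro r hr u hu
      obtain ⟨huD, huc⟩ := (hCmem u).mp hu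
      refine (hCmem _).mpr ⟨hPD r hr u huD, ?_⟩
      intro z hz
      have h1 : r⁻¹ * z * r⁻¹⁻¹ ∈ Dc := hPDc r⁻¹ (P.inv_mem hr) z hz
      have h2 := huc _ h1
      calc z * (r * u * r⁻¹) = r * ((r⁻¹ * z * r⁻¹⁻¹) * u) * r⁻¹ := by group
        _ = r * (u * (r⁻¹ * z * r⁻¹⁻¹)) * r⁻¹ := by rw [h2]
        _ = r * u * r⁻¹ * z := by group
    have hCc := hmin C hCD hPC hCne
    obtain ⟨b, hb, u, hu, hne⟩ := hDnc
    apply hne
    obtain ⟨t, ht⟩ : ∃ t, t = b * (y * b⁻¹ * y⁻¹) := ⟨_, rfl⟩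
    have hCt : ∀ w ∈ C, t * w = w * t := by rw [ht]; exact hCc b hb
    have hDct : ∀ z ∈ Dc, t * z = z * t := by rw [ht]; exact hδDc b hb
    rw [← ht]
    have htB : t ∈ B := by rw [ht]; exact hδB b hb
    have hcD : u * t * u⁻¹ * t⁻¹ ∈ D := hcommD u hu t htB
    have hcC : u * t * u⁻¹ * t⁻¹ ∈ C := by
      refine (hCmem _).mpr ⟨hcD, ?_⟩
      intro z hz
      have e1 : t * z = z * t := hDct z hz
      have e2 : t * (u⁻¹ * z * u⁻¹⁻¹) = (u⁻¹ * z * u⁻¹⁻¹) * t :=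
        hDct _ (hDDc u⁻¹ (D.inv_mem hu) z hz)
      have e1' : t⁻¹ * z = z * t⁻¹ := by
        have h3 : Commute t z := e1
        exact h3.inv_left.eq
      calc z * (u * t * u⁻¹ * t⁻¹) = u * ((u⁻¹ * z * u⁻¹⁻¹) * t) * u⁻¹ * t⁻¹ := by group
        _ = u * (t * (u⁻¹ * z * u⁻¹⁻¹)) * u⁻¹ * t⁻¹ := by rw [e2]
        _ = u * t * u⁻¹ * (z * t⁻¹) := by group
        _ = u * t * u⁻¹ * (t⁻¹ * z) := by rw [e1']
        _ = u * t * u⁻¹ * t⁻¹ * z := by group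
    have h5 := comm_eq_one_of_commute u t (hBexp t htB) (hCt _ hcC).symm (hordD _ hcD)
    exact h5.symm
  have hDcab : ∀ a ∈ Dc, ∀ b ∈ Dc, a * b = b * a := fun a ha b hb => hcent a (hDcD ha) b hb
  have hBDc : ∀ b ∈ B, ∀ z ∈ Dc, b * z = z * b :=
    hBcent q hq hqp Dc (hDcD.trans hDN) (hDq.to_le hDcD) hDcab hPDc
  -- elements of `D` commuting with `f ∈ B` commute with the commutators `[v, f]`
  have hL2 : ∀ f ∈ B, ∀ m ∈ D, m * f = f * m → ∀ v ∈ D,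
      m * (v * f * v⁻¹ * f⁻¹) = (v * f * v⁻¹ * f⁻¹) * m := by
    intro f hf m hm hmf v hv
    obtain ⟨c, hc⟩ : ∃ c, c = m * v * m⁻¹ * v⁻¹ := ⟨_, rfl⟩
    have hcDc : c ∈ Dc := by rw [hc]; exact hcomm_mem m hm v hv
    have hcf : f * c = c * f := hBDc f hf c hcDc
    have hwD : v * f * v⁻¹ * f⁻¹ ∈ D := hcommD v hv f hf
    have hcw : (v * f * v⁻¹ * f⁻¹) * c = c * (v * f * v⁻¹ * f⁻¹) := hcent _ hwD c hcDc
    have e1 : m * v * m⁻¹ = c * v := by rw [hc]; group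
    have e2 : m * f * m⁻¹ = f := by rw [hmf]; group
    have e3 : c⁻¹ * f⁻¹ = f⁻¹ * c⁻¹ := by rw [← mul_inv_rev, ← mul_inv_rev, hcf]
    have key : m * (v * f * v⁻¹ * f⁻¹) * m⁻¹ = c * (v * f * v⁻¹ * f⁻¹) * c⁻¹ := by
      calc m * (v * f * v⁻¹ * f⁻¹) * m⁻¹
          = (m * v * m⁻¹) * (m * f * m⁻¹) * (m * v * m⁻¹)⁻¹ * (m * f * m⁻¹)⁻¹ := by group
        _ = c * v * f * (c * v)⁻¹ * f⁻¹ := by rw [e1, e2]
        _ = c * v * f * v⁻¹ * (c⁻¹ * f⁻¹) := by group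
        _ = c * v * f * v⁻¹ * (f⁻¹ * c⁻¹) := by rw [e3]
        _ = c * (v * f * v⁻¹ * f⁻¹) * c⁻¹ := by group
    have h6 : m * (v * f * v⁻¹ * f⁻¹) * m⁻¹ = v * f * v⁻¹ * f⁻¹ := by
      rw [key, ← hcw]
      group
    calc m * (v * f * v⁻¹ * f⁻¹) = (m * (v * f * v⁻¹ * f⁻¹) * m⁻¹) * m := by group
      _ = (v * f * v⁻¹ * f⁻¹) * m := by rw [h6]
  -- a hyperplane `F` of `B` moved by `y`
  have hBD' : B ≤ Subgroup.normalizer (D : Set Γ) := Subgroup.le_normalizer_iff.mpr hBD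
  have hsup := Cfsg.Agent.Lib.helper37.qgroup_le_iSup_centralizer p q (fun h => hqp h.symm) B D
    hBab hBexp hDq hBD'
  have hgood : ∃ F : Subgroup Γ, F ≤ B ∧ F.relIndex B ≤ p ∧ ∃ b ∈ B, ∃ u ∈ D,
      (∀ f ∈ F, f * u = u * f) ∧
      (b * (y * b⁻¹ * y⁻¹)) * u ≠ u * (b * (y * b⁻¹ * y⁻¹)) := by
    by_contra hno
    push Not at hno
    obtain ⟨b, hb, u, hu, hne⟩ := hDnc
    apply hne
    have hle : (⨆ F : {F : Subgroup Γ // F ≤ B ∧ F.relIndex B ≤ p},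
        D ⊓ Subgroup.centralizer ((F : Subgroup Γ) : Set Γ))
          ≤ Subgroup.centralizer ({b * (y * b⁻¹ * y⁻¹)} : Set Γ) := by
      apply iSup_le
      rintro ⟨F, hFB, hFidx⟩ w hw
      obtain ⟨hwD, hwF⟩ := Subgroup.mem_inf.mp hw
      rw [Subgroup.mem_centralizer_iff]
      intro s hs
      rw [Set.mem_singleton_iff] at hs
      subst hs
      exact hno F hFB hFidx b hb w hwD (fun f hf => Subgroup.mem_centralizer_iff.mp hwF f hf)
    exact Subgroup.mem_centralizer_iff.mp (hle (hsup hu)) _ rfl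
  obtain ⟨F, hFB, hFidx, b₂, hb₂, u, hu, huF, hne₂⟩ := hgood
  obtain ⟨e, he⟩ : ∃ e, e = b₂ * (y * b₂⁻¹ * y⁻¹) := ⟨_, rfl⟩
  rw [← he] at hne₂
  have heB : e ∈ B := by rw [he]; exact hδB b₂ hb₂
  have heF : e ∉ F := fun h => hne₂ (huF e h)
  have hyF : ∃ f₀ ∈ F, y * f₀ * y⁻¹ ∉ F := by
    by_contra hall
    push Not at hall
    apply heF
    rw [he]
    exact delta_mem_of_normalizes p B F hFB hFidx hBab hBexp y hyp (hBn y hyP) hall b₂ hb₂
  obtain ⟨f₀, hf₀, hyf₀⟩ := hyF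
  -- the element `a = [u, e]`
  obtain ⟨a, ha⟩ : ∃ a, a = u * e * u⁻¹ * e⁻¹ := ⟨_, rfl⟩
  have haD : a ∈ D := by rw [ha]; exact hcommD u hu e heB
  have haF : ∀ f ∈ F, Commute a f := by
    intro f hf
    have c1 : Commute u f := (huF f hf).symm
    have c2 : Commute e f := hBab e heB f (hFB hf)
    rw [ha]
    exact ((c1.mul_left c2).mul_left c1.inv_left).mul_left c2.inv_left
  have hae : ¬ (a * e = e * a) := by
    intro h
    apply hne₂
    have h1 := comm_eq_one_of_commute u e (hBexp e heB) (by rw [← ha]; exact h)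
      (by rw [← ha]; exact hordD a haD)
    exact h1.symm
  have hG1 : ∀ h ∈ P, (∃ f ∈ F, h * f * h⁻¹ ∉ F) →
      a * (h * a * h⁻¹) = (h * a * h⁻¹) * a := by
    rintro h hh ⟨f, hf, hfF⟩
    obtain ⟨b', hb'⟩ : ∃ b', b' = h * f * h⁻¹ := ⟨_, rfl⟩
    obtain ⟨u', hu'⟩ : ∃ u', u' = h * u * h⁻¹ := ⟨_, rfl⟩
    rw [← hb'] at hfF
    have hb'B : b' ∈ B := by rw [hb']; exact hBn h hh f (hFB hf)
    obtain ⟨f₁, hf₁, j, hj⟩ := exists_eq_mul_pow p B F hFB hFidx hBab hBexp b' hb'B hfF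
      (h * e * h⁻¹) (hBn h hh e heB)
    have hu'D : u' ∈ D := by rw [hu']; exact hPD h hh u hu
    have hcu : Commute b' u' := by
      rw [hb', hu']
      exact commute_conj h f u (huF f hf)
    have e1 : h * a * h⁻¹ = u' * f₁ * u'⁻¹ * f₁⁻¹ := by
      have e0 : h * a * h⁻¹ = u' * (h * e * h⁻¹) * u'⁻¹ * (h * e * h⁻¹)⁻¹ := by
        rw [ha, hu']
        group
      rw [e0, hj]
      have c1' : b' ^ j * u'⁻¹ = u'⁻¹ * b' ^ j := (hcu.pow_left j).inv_right.eq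
      calc u' * (f₁ * b' ^ j) * u'⁻¹ * (f₁ * b' ^ j)⁻¹
          = u' * f₁ * (b' ^ j * u'⁻¹) * (b' ^ j)⁻¹ * f₁⁻¹ := by group
        _ = u' * f₁ * (u'⁻¹ * b' ^ j) * (b' ^ j)⁻¹ * f₁⁻¹ := by rw [c1']
        _ = u' * f₁ * u'⁻¹ * f₁⁻¹ := by group
    rw [e1]
    exact hL2 f₁ (hFB hf₁) a haD (haF f₁ hf₁).eq u' hu'D
  have hG2 : ∀ i : ℕ, a * (g ^ i * a * (g ^ i)⁻¹) = (g ^ i * a * (g ^ i)⁻¹) * a := by
    intro i
    by_cases hi : g ^ i = 1
    · rw [hi]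
      simp
    by_cases hnorm : ∃ f ∈ F, g ^ i * f * (g ^ i)⁻¹ ∉ F
    · exact hG1 _ (P.pow_mem hgP i) hnorm
    · exfalso
      push Not at hnorm
      obtain ⟨m, hm⟩ := exists_pow_eq_pow g n hn hg i hi
      have hpow : ∀ k : ℕ, ∀ f ∈ F, (g ^ i) ^ k * f * ((g ^ i) ^ k)⁻¹ ∈ F := by
        intro k
        induction k with
        | zero =>
          intro f hf
          simpa using hf
        | succ k ih =>
          intro f hf
          have h1 : (g ^ i) ^ (k + 1) * f * ((g ^ i) ^ (k + 1))⁻¹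
              = g ^ i * ((g ^ i) ^ k * f * ((g ^ i) ^ k)⁻¹) * (g ^ i)⁻¹ := by
            rw [pow_succ']
            group
          rw [h1]
          exact hnorm _ (ih f hf)
      apply hyf₀
      have h2 := hpow m f₀ hf₀
      rw [hm, ← hy] at h2
      exact h2
  -- the abelian `g`-invariant subgroup generated by the conjugates of `a`
  obtain ⟨A, hA⟩ : ∃ A : Subgroup Γ,
      A = Subgroup.closure (Set.range fun i : ℕ => g ^ i * a * (g ^ i)⁻¹) := ⟨_, rfl⟩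
  have hAab : ∀ s ∈ A, ∀ t ∈ A, s * t = t * s := by
    rw [hA]
    apply Cfsg.Agent.Lib.helper30.closure_comm
    have key : ∀ i j : ℕ, i ≤ j → (g ^ i * a * (g ^ i)⁻¹) * (g ^ j * a * (g ^ j)⁻¹)
        = (g ^ j * a * (g ^ j)⁻¹) * (g ^ i * a * (g ^ i)⁻¹) := by
      intro i j hij
      obtain ⟨k, rfl⟩ := Nat.exists_eq_add_of_le hij
      have h2 : g ^ (i + k) * a * (g ^ (i + k))⁻¹
          = g ^ i * (g ^ k * a * (g ^ k)⁻¹) * (g ^ i)⁻¹ := by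
        rw [pow_add]
        group
      rw [h2]
      exact commute_conj (g ^ i) a (g ^ k * a * (g ^ k)⁻¹) (hG2 k)
    rintro _ ⟨i, rfl⟩ _ ⟨j, rfl⟩
    rcases le_total i j with hij | hij
    · exact key i j hij
    · exact (key j i hij).symm
  have hAD : A ≤ D := by
    rw [hA, Subgroup.closure_le]
    rintro _ ⟨i, rfl⟩
    exact hPD _ (P.pow_mem hgP i) a haD
  have hAg : ∀ s ∈ A, g * s * g⁻¹ ∈ A := by
    intro s hs
    have h1 : A.map (MulAut.conj g).toMonoidHom ≤ A := by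
      rw [hA, MonoidHom.map_closure, Subgroup.closure_le]
      rintro _ ⟨_, ⟨i, rfl⟩, rfl⟩
      apply Subgroup.subset_closure
      refine ⟨i + 1, ?_⟩
      show g ^ (i + 1) * a * (g ^ (i + 1))⁻¹ = g * (g ^ i * a * (g ^ i)⁻¹) * g⁻¹
      rw [pow_succ']
      group
    have h2 := h1 ⟨s, hs, rfl⟩
    simpa using h2
  have haA : a ∈ A := by
    rw [hA]
    exact Subgroup.subset_closure ⟨0, by simp⟩
  have hya : y * a = a * y :=
    hC q hq hqp A (hAD.trans hDN) (hDq.to_le hAD) hAab hAg a haA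
  apply hae
  have hb''B : y * f₀ * y⁻¹ ∈ B := hBn y hyP f₀ (hFB hf₀)
  obtain ⟨f₁, hf₁, j, hj⟩ := exists_eq_mul_pow p B F hFB hFidx hBab hBexp (y * f₀ * y⁻¹) hb''B
    hyf₀ e heB
  have c1 : Commute a f₁ := haF f₁ hf₁
  have c4 : Commute a y := hya.symm
  have c2 : Commute a (y * f₀ * y⁻¹) := (c4.mul_right (haF f₀ hf₀)).mul_right c4.inv_right
  rw [hj]
  exact (c1.mul_right (c2.pow_right j)).eq

end Cfsg.Agent.Lib.helper86.HHKC
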