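import Mathlib
import Cfsg.Prelude.Def_Local
import Cfsg.Prelude.Def_Solvable
import Cfsg.Agent.Lib.helper38.HHBMain
import Cfsg.Agent.Lib.helper86.HHOmega
import Cfsg.Agent.Lib.helper86.HHQ

/-!
# Commuting of the top powers of exceptional elements (for the Hall–Higman bound `l_p ≤ 2 e`)

`kc`: let `H` be a finite `p`-solvable group (`p` odd) with `O_p(H) = 1`, faithfully represented in
characteristic `p`.  If `x'`, `x''` generate a `p`-group, `x' ^ p ^ n = x'' ^ p ^ n = 1` and both are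
exceptional (`(ρ x - 1) ^ (p ^ n - 1) = 0`), then `x' ^ p ^ (n - 1)` and `x'' ^ p ^ (n - 1)`
commute.
-/

set_option autoImplicit false

namespace Cfsg.Agent.Lib.helper86.HHKC

open Cfsg.Agent.Lib.helper38

/-- An exceptional element `g` (`g ^ p ^ n = 1`, `(ρ g - 1) ^ (p ^ n - 1) = 0`) of a faithfully
represented group: `g ^ p ^ (n - 1)` centralizes every `g`-invariant abelian `q`-subgroup. -/
theorem abelian_centralized {p : ℕ} [Fact p.Prime] {F : Type*} [Field F] [CharP F p] {V : Type*}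
    [AddCommGroup V] [Module F V] [FiniteDimensional F V] {H : Type*} [Group H] [Finite H]
    (ρ : H →* Module.End F V) (hinj : Function.Injective ρ) (g : H) (n : ℕ) (hn : 1 ≤ n)
    (hg : g ^ p ^ n = 1) (hs : (ρ g - 1) ^ (p ^ n - 1) = 0) (q : ℕ) (hq : q.Prime) (hqp : q ≠ p)
    (A : Subgroup H) (hAq : IsPGroup q A) (hAab : ∀ a ∈ A, ∀ b ∈ A, a * b = b * a)
    (hAg : ∀ a ∈ A, g * a * g⁻¹ ∈ A) :
    ∀ a ∈ A, g ^ p ^ (n - 1) * a = a * g ^ p ^ (n - 1) := by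
  classical
  by_contra hcon
  push Not at hcon
  obtain ⟨u, hu, hyu⟩ := hcon
  have hp : p.Prime := Fact.out
  obtain ⟨Φ, hΦ⟩ := HHB.exists_baseChange F V (AlgebraicClosure F)
  have hchar : CharP (AlgebraicClosure F) p :=
    charP_of_injective_algebraMap (algebraMap F (AlgebraicClosure F)).injective p
  obtain ⟨ρK, hρK⟩ : ∃ ρK : H →* Module.End (AlgebraicClosure F)
      (Fin (Module.finrank F V) → AlgebraicClosure F), ∀ g, ρK g = Φ (ρ g) :=
    ⟨(Φ : Module.End F V →* _).comp ρ, fun g => rfl⟩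
  have hinjK : Function.Injective ρK := fun a b h => hinj (hΦ (by rw [← hρK, ← hρK, h]))
  have hsK : (ρK g - 1) ^ (p ^ n - 1) = 0 := by
    rw [hρK, ← map_one Φ, ← map_sub, ← map_pow, hs, map_zero]
  have : Fact q.Prime := ⟨hq⟩
  have hH3 : ∃ u ∈ A, ρK (g ^ p ^ (n - 1)) * ρK u ≠ ρK u * ρK (g ^ p ^ (n - 1)) := by
    refine ⟨u, hu, fun hcon => hyu (hinjK ?_)⟩
    rw [map_mul, map_mul, hcon]
  have hconcl := HHB.gen (K := AlgebraicClosure F) (p := p) (q := q) (fun h => hqp h.symm) _ H _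
    ρK A g n (p ^ n - 1) hAq hAg hn hg hH3 hsK rfl
  rcases hconcl with h | ⟨n₀, m, h1, h2, h3, h4, ⟨a, ha, b, hb, hab⟩, h6⟩
  · have := pow_pos hp.pos n
    omega
  · exact hab (hAab a ha b hb)

/-- **Key commuting lemma.** -/
theorem kc {p : ℕ} [Fact p.Prime] (hp : p ≠ 2) {F : Type*} [Field F] [CharP F p] {V : Type*}
    [AddCommGroup V] [Module F V] [FiniteDimensional F V] {H : Type*} [Group H] [Finite H]
    (ρ : H →* Module.End F V) (hinj : Function.Injective ρ) (hsol : Cfsg.IsPSolvable p H)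
    (hOp : Cfsg.pCore p H = ⊥) (x' x'' : H) (hD : IsPGroup p (Subgroup.closure {x', x''}))
    (n : ℕ) (hn : 1 ≤ n) (h1 : x' ^ p ^ n = 1) (h2 : x'' ^ p ^ n = 1)
    (hs1 : (ρ x' - 1) ^ (p ^ n - 1) = 0) (hs2 : (ρ x'' - 1) ^ (p ^ n - 1) = 0) :
    x' ^ p ^ (n - 1) * x'' ^ p ^ (n - 1) = x'' ^ p ^ (n - 1) * x' ^ p ^ (n - 1) := by
  classical
  have hpp : p.Prime := Fact.out
  obtain ⟨P, hP⟩ : ∃ P : Subgroup H, P = Subgroup.closure {x', x''} := ⟨_, rfl⟩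
  rw [← hP] at hD
  have hx'P : x' ∈ P := by rw [hP]; exact Subgroup.subset_closure (by simp)
  have hx''P : x'' ∈ P := by rw [hP]; exact Subgroup.subset_closure (by simp)
  obtain ⟨N, hN⟩ : ∃ N : Subgroup H, N = Cfsg.pPrimeCore p H := ⟨_, rfl⟩
  have hNn : N.Normal := by rw [hN]; exact Cfsg.Agent.Lib.helper40.pPrimeCore_normal' p H
  have hNcop : (Nat.card N).Coprime p := by
    rw [hN]; exact Cfsg.Agent.Lib.helper40.pPrimeCore_card_coprime p H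
  have hCN : Subgroup.centralizer (N : Set H) ≤ N := by
    rw [hN]; exact Cfsg.Agent.Lib.helper66.centralizer_pPrimeCore_le_of_isPSolvable hsol hOp
  -- the exceptional elements of `P`
  obtain ⟨exc, hexc⟩ : ∃ exc : H → Prop,
      ∀ g, exc g ↔ g ∈ P ∧ g ^ p ^ n = 1 ∧ (ρ g - 1) ^ (p ^ n - 1) = 0 := ⟨_, fun g => Iff.rfl⟩
  have hexc_conj : ∀ r ∈ P, ∀ g, exc g → exc (r * g * r⁻¹) := by
    intro r hr g hg
    obtain ⟨hgP, hgn, hgs⟩ := (hexc g).mp hg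
    refine (hexc _).mpr ⟨P.mul_mem (P.mul_mem hr hgP) (P.inv_mem hr), ?_, ?_⟩
    · rw [conj_pow, hgn]
      group
    · have hrr : ρ r⁻¹ * ρ r = 1 := by rw [← map_mul, inv_mul_cancel, map_one]
      have hrr' : ρ r * ρ r⁻¹ = 1 := by rw [← map_mul, mul_inv_cancel, map_one]
      have e1 : ρ (r * g * r⁻¹) - 1 = ρ r * (ρ g - 1) * ρ r⁻¹ := by
        rw [map_mul, map_mul, mul_sub, sub_mul, mul_one, hrr']
      have e2 : ∀ k : ℕ, (ρ r * (ρ g - 1) * ρ r⁻¹) ^ k = ρ r * (ρ g - 1) ^ k * ρ r⁻¹ := by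
        intro k
        induction k with
        | zero => rw [pow_zero, pow_zero, mul_one, hrr']
        | succ k ih =>
          rw [pow_succ, ih, pow_succ]
          calc ρ r * (ρ g - 1) ^ k * ρ r⁻¹ * (ρ r * (ρ g - 1) * ρ r⁻¹)
              = ρ r * (ρ g - 1) ^ k * (ρ r⁻¹ * ρ r) * (ρ g - 1) * ρ r⁻¹ := by
                simp only [mul_assoc]
            _ = ρ r * ((ρ g - 1) ^ k * (ρ g - 1)) * ρ r⁻¹ := by
                rw [hrr]
                simp only [mul_assoc, mul_one]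
      rw [e1, e2, hgs, mul_zero, zero_mul]
  obtain ⟨Y, hY⟩ : ∃ Y : Subgroup H,
      Y = Subgroup.closure {z | ∃ g, exc g ∧ z = g ^ p ^ (n - 1)} := ⟨_, rfl⟩
  have hYn : ∀ r ∈ P, ∀ z ∈ Y, r * z * r⁻¹ ∈ Y := by
    intro r hr z hz
    have h3 : Y.map (MulAut.conj r).toMonoidHom ≤ Y := by
      rw [hY, MonoidHom.map_closure, Subgroup.closure_le]
      rintro _ ⟨_, ⟨g, hg, rfl⟩, rfl⟩
      apply Subgroup.subset_closure
      refine ⟨r * g * r⁻¹, hexc_conj r hr g hg, ?_⟩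
      show r * g ^ p ^ (n - 1) * r⁻¹ = (r * g * r⁻¹) ^ p ^ (n - 1)
      rw [conj_pow]
    have h4 := h3 ⟨z, hz, rfl⟩
    simpa using h4
  have hCg : ∀ g, exc g → ∀ (q : ℕ), q.Prime → q ≠ p → ∀ A : Subgroup H, A ≤ N → IsPGroup q A →
      (∀ a ∈ A, ∀ b ∈ A, a * b = b * a) → (∀ a ∈ A, g * a * g⁻¹ ∈ A) →
      ∀ a ∈ A, g ^ p ^ (n - 1) * a = a * g ^ p ^ (n - 1) := by
    intro g hg q hq hqp A _ hAq hAab hAg
    obtain ⟨hgP, hgn, hgs⟩ := (hexc g).mp hg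
    exact abelian_centralized ρ hinj g n hn hgn hgs q hq hqp A hAq hAab hAg
  -- a maximal normal elementary abelian subgroup of `P` inside `Y`
  have hYn' : (Y.subgroupOf P).Normal := by
    constructor
    intro z hz r
    rw [Subgroup.mem_subgroupOf] at hz ⊢
    simpa using hYn r r.2 z hz
  obtain ⟨E, -, hE⟩ := Finite.exists_le_maximal
    (p := fun E : Subgroup ↥P => E.Normal ∧ E ≤ Y.subgroupOf P ∧
      (∀ x ∈ E, ∀ y ∈ E, x * y = y * x) ∧ ∀ x ∈ E, x ^ p = 1) (a := ⊥)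
    ⟨inferInstance, bot_le, by simp, by simp⟩
  obtain ⟨⟨hEn, hEY, hEab, hEexp⟩, hEmax⟩ := hE
  have hΩ := omega_rel p hp hD (Y.subgroupOf P) E hEY hEab hEexp
    (fun F hFn hFY hFab hFexp hEF => hEmax ⟨hFn, hFY, hFab, hFexp⟩ hEF)
  obtain ⟨B, hB⟩ : ∃ B : Subgroup H, B = E.map P.subtype := ⟨_, rfl⟩
  have hBmem : ∀ z : H, z ∈ B ↔ ∃ hz : z ∈ P, (⟨z, hz⟩ : ↥P) ∈ E := by
    intro z
    rw [hB]
    constructor
    · rintro ⟨w, hw, rfl⟩
      exact ⟨w.2, hw⟩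
    · rintro ⟨hz, hw⟩
      exact ⟨⟨z, hz⟩, hw, rfl⟩
  have hBP : B ≤ P := fun z hz => ((hBmem z).mp hz).1
  have hBn : ∀ r ∈ P, ∀ b ∈ B, r * b * r⁻¹ ∈ B := by
    intro r hr b hb
    obtain ⟨hbP, hbE⟩ := (hBmem b).mp hb
    refine (hBmem _).mpr ⟨P.mul_mem (P.mul_mem hr hbP) (P.inv_mem hr), ?_⟩
    exact hEn.conj_mem ⟨b, hbP⟩ hbE ⟨r, hr⟩
  have hBab : ∀ a ∈ B, ∀ b ∈ B, a * b = b * a := by
    intro a ha b hb
    obtain ⟨haP, haE⟩ := (hBmem a).mp ha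
    obtain ⟨hbP, hbE⟩ := (hBmem b).mp hb
    exact congrArg Subtype.val (hEab _ haE _ hbE)
  have hBexp : ∀ b ∈ B, b ^ p = 1 := by
    intro b hb
    obtain ⟨hbP, hbE⟩ := (hBmem b).mp hb
    exact congrArg Subtype.val (hEexp _ hbE)
  have hBY : B ≤ Y := by
    intro b hb
    obtain ⟨hbP, hbE⟩ := (hBmem b).mp hb
    exact Subgroup.mem_subgroupOf.mp (hEY hbE)
  have hBcent : ∀ (q : ℕ), q.Prime → q ≠ p → ∀ A : Subgroup H, A ≤ N → IsPGroup q A →
      (∀ a ∈ A, ∀ b ∈ A, a * b = b * a) → (∀ r ∈ P, ∀ a ∈ A, r * a * r⁻¹ ∈ A) →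
      ∀ b ∈ B, ∀ a ∈ A, b * a = a * b := by
    intro q hq hqp A hAN hAq hAab hAP b hb a ha
    have hle : Y ≤ Subgroup.centralizer (A : Set H) := by
      rw [hY, Subgroup.closure_le]
      rintro _ ⟨g, hg, rfl⟩
      rw [SetLike.mem_coe, Subgroup.mem_centralizer_iff]
      intro a ha
      exact (hCg g hg q hq hqp A hAN hAq hAab (hAP g ((hexc g).mp hg).1) a ha).symm
    exact (Subgroup.mem_centralizer_iff.mp (hle (hBY hb)) a ha).symm
  -- every generator of `Y` centralizes `B`, hence lies in `B`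
  have hgenB : ∀ g, exc g → g ^ p ^ (n - 1) ∈ B := by
    intro g hg
    obtain ⟨hgP, hgn, hgs⟩ := (hexc g).mp hg
    have hc := qarg N hNcop hCN P hD B hBP hBn hBab hBexp hBcent g hgP n hn hgn (hCg g hg)
    have hyP : g ^ p ^ (n - 1) ∈ P := P.pow_mem hgP _
    refine (hBmem _).mpr ⟨hyP, ?_⟩
    apply hΩ
    · rw [Subgroup.mem_centralizer_iff]
      intro e he
      apply Subtype.ext
      have heB : (e : H) ∈ B := (hBmem _).mpr ⟨e.2, he⟩
      exact (hc _ heB).symm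
    · rw [Subgroup.mem_subgroupOf, hY]
      exact Subgroup.subset_closure ⟨g, hg, rfl⟩
    · apply Subtype.ext
      show (g ^ p ^ (n - 1)) ^ p = 1
      rw [← pow_mul, ← pow_succ, Nat.sub_add_cancel hn, hgn]
  exact hBab _ (hgenB x' ((hexc x').mpr ⟨hx'P, h1, hs1⟩)) _
    (hgenB x'' ((hexc x'').mpr ⟨hx''P, h2, hs2⟩))

end Cfsg.Agent.Lib.helper86.HHKC
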