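import Mathlib

set_option autoImplicit false

/-!
# Towards the principal ideal theorem (helper86)

Crossed homomorphisms `d : G → M` into a module over the integral group ring of
`Q = G / G'`, and the key fact (Witt's determinant argument): the norm element of `ℤ[Q]`
kills every value `d g` as soon as there is a linear functional `e` with
`e (d g) = π g - 1`.
-/

namespace Cfsg.Agent.Lib.helper86

universe u

/-- Generators of a finite abelian group whose exponents multiply to the order. -/
theorem exists_gens_prod_eq_card (Q : Type u) [CommGroup Q] [Finite Q] :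
    ∃ (ι : Type) (_ : Fintype ι) (y : ι → Q) (n : ι → ℕ),
      (∀ i, y i ^ n i = 1) ∧ Subgroup.closure (Set.range y) = ⊤ ∧ ∏ i, n i = Nat.card Q := by
  obtain ⟨ι, hι, n, hn, ⟨e⟩⟩ := CommGroup.equiv_prod_multiplicative_zmod_of_finite Q
  classical
  refine ⟨ι, hι, fun i => e.symm (Pi.mulSingle i (Multiplicative.ofAdd 1)), n, ?_, ?_, ?_⟩
  · intro i
    rw [← map_pow, ← Pi.mulSingle_pow, ← ofAdd_nsmul]
    have h0 : (n i • (1 : ZMod (n i))) = 0 := by simp
    rw [h0]; simp
  · rw [eq_top_iff]
    intro q _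
    have hq : q = e.symm (e q) := (e.symm_apply_apply q).symm
    rw [hq, ← Finset.univ_prod_mulSingle (e q), map_prod]
    refine Subgroup.prod_mem _ fun i _ => ?_
    have h1 : (Pi.mulSingle i (e q i) : (j : ι) → Multiplicative (ZMod (n j))) =
        (Pi.mulSingle i (Multiplicative.ofAdd (1 : ZMod (n i))) :
          (j : ι) → Multiplicative (ZMod (n j))) ^
        (ZMod.val (Multiplicative.toAdd (e q i))) := by
      rw [← Pi.mulSingle_pow, ← ofAdd_nsmul]
      congr 1
      have : NeZero (n i) := ⟨by have := hn i; omega⟩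
      simp
    rw [h1, map_pow]
    exact Subgroup.pow_mem _ (Subgroup.subset_closure (Set.mem_range_self i)) _
  · rw [Nat.card_congr e.toEquiv, Nat.card_pi]
    refine Finset.prod_congr rfl fun i _ => ?_
    simp [Nat.card_congr Multiplicative.toAdd]

/-- If a square matrix kills a vector of module elements, its determinant kills each of them. -/
theorem det_smul_eq_zero_of_mulVec {R : Type*} [CommRing R] {M : Type*} [AddCommGroup M]
    [Module R M] {n : Type*} [Fintype n] [DecidableEq n] (A : Matrix n n R) (u : n → M)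
    (h : ∀ k, ∑ j, A k j • u j = 0) (k : n) : A.det • u k = 0 := by
  have h1 : ∀ k, ∑ j, (A.adjugate * A) k j • u j = 0 := by
    intro k
    simp only [Matrix.mul_apply, Finset.sum_smul, mul_smul]
    rw [Finset.sum_comm]
    simp only [← Finset.smul_sum, h, smul_zero, Finset.sum_const_zero]
  have h2 := h1 k
  rw [Matrix.adjugate_mul] at h2
  simpa [Matrix.smul_apply, Matrix.one_apply, ite_smul] using h2

section Aug

variable (Q : Type*) [CommGroup Q]

/-- The augmentation of the integral group ring. -/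
noncomputable def augZ : MonoidAlgebra ℤ Q →+* ℤ :=
  (MonoidAlgebra.lift ℤ ℤ Q (1 : Q →* ℤ)).toRingHom

variable {Q}

theorem augZ_of (q : Q) : augZ Q (MonoidAlgebra.of ℤ Q q) = 1 := by
  simp [augZ]

/-- Multiplying by the norm element only sees the augmentation. -/
theorem mul_norm_eq [Fintype Q] (a : MonoidAlgebra ℤ Q) :
    a * (∑ q : Q, MonoidAlgebra.of ℤ Q q) = augZ Q a • ∑ q : Q, MonoidAlgebra.of ℤ Q q := by
  induction a using MonoidAlgebra.induction_on with
  | of m =>
    rw [augZ_of, one_smul, Finset.mul_sum]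
    simp_rw [← map_mul]
    exact Fintype.sum_equiv (Equiv.mulLeft m) _ _ (fun _ => rfl)
  | add x y hx hy => rw [add_mul, hx, hy, map_add, add_smul]
  | smul r x hx => rw [smul_mul_assoc, hx, map_zsmul, smul_assoc]

end Aug

section Der

open scoped commutatorElement

variable {G : Type*} [Group G] {Q : Type*} [CommGroup Q]
variable {M : Type*} [AddCommGroup M] [Module (MonoidAlgebra ℤ Q) M]

/-- Crossed homomorphisms from `G` to a module over the group ring of a quotient `Q`. -/
def IsCrossedHom (π : G →* Q) (d : G → M) : Prop :=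
  ∀ g h, d (g * h) = d g + MonoidAlgebra.of ℤ Q (π g) • d h

namespace IsCrossedHom

variable {π : G →* Q} {d : G → M}

theorem map_one (hd : IsCrossedHom π d) : d 1 = 0 := by
  have h := hd 1 1
  rw [mul_one, _root_.map_one, _root_.map_one, one_smul] at h
  exact left_eq_add.mp h

theorem map_inv (hd : IsCrossedHom π d) (g : G) :
    d g⁻¹ = -(MonoidAlgebra.of ℤ Q (π g)⁻¹ • d g) := by
  have h := hd g⁻¹ g
  rw [inv_mul_cancel, hd.map_one, _root_.map_inv] at h
  exact eq_neg_of_add_eq_zero_left h.symm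

theorem map_pow (hd : IsCrossedHom π d) (g : G) (k : ℕ) :
    d (g ^ k) = (∑ j ∈ Finset.range k, MonoidAlgebra.of ℤ Q (π g) ^ j) • d g := by
  induction k with
  | zero => simp [hd.map_one]
  | succ k ih => rw [pow_succ, hd, ih, Finset.sum_range_succ, add_smul, _root_.map_pow, _root_.map_pow]

theorem map_commutator (hd : IsCrossedHom π d) (g h : G) :
    d ⁅g, h⁆ = (1 - MonoidAlgebra.of ℤ Q (π h)) • d g +
      (MonoidAlgebra.of ℤ Q (π g) - 1) • d h := by
  have e1 : MonoidAlgebra.of ℤ Q (π (g * h)) * MonoidAlgebra.of ℤ Q (π g)⁻¹ =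
      MonoidAlgebra.of ℤ Q (π h) := by
    rw [← _root_.map_mul, _root_.map_mul π, mul_inv_cancel_comm]
  have e2 : MonoidAlgebra.of ℤ Q (π (g * h * g⁻¹)) * MonoidAlgebra.of ℤ Q (π h)⁻¹ = 1 := by
    rw [← _root_.map_mul, _root_.map_mul π, _root_.map_mul π, _root_.map_inv π,
      mul_inv_cancel_comm, mul_inv_cancel, _root_.map_one]
  rw [commutatorElement_def, hd, hd, hd, hd.map_inv, hd.map_inv]
  rw [smul_neg, smul_neg, smul_smul, smul_smul, e1, e2, sub_smul, sub_smul, one_smul, one_smul]
  abel

theorem mem_smul_span_of_mem_commutator (hd : IsCrossedHom π d) {a : G}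
    (ha : a ∈ commutator G) :
    d a ∈ RingHom.ker (augZ Q) • Submodule.span (MonoidAlgebra ℤ Q) (Set.range d) := by
  rw [commutator_eq_closure] at ha
  induction ha using Subgroup.closure_induction with
  | mem x hx =>
    obtain ⟨g, h, rfl⟩ := hx
    rw [hd.map_commutator]
    refine Submodule.add_mem _
      (Submodule.smul_mem_smul ?_ (Submodule.subset_span ⟨g, rfl⟩))
      (Submodule.smul_mem_smul ?_ (Submodule.subset_span ⟨h, rfl⟩))
    · rw [RingHom.mem_ker, map_sub, _root_.map_one, augZ_of, sub_self]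
    · rw [RingHom.mem_ker, map_sub, _root_.map_one, augZ_of, sub_self]
  | one => rw [hd.map_one]; exact Submodule.zero_mem _
  | mul x y _ _ hx hy => rw [hd x y]; exact Submodule.add_mem _ hx (Submodule.smul_mem _ _ hy)
  | inv x _ hx => rw [hd.map_inv]; exact Submodule.neg_mem _ (Submodule.smul_mem _ _ hx)

/-- **Witt's determinant argument.**  If `π : G → Q` is onto the finite abelian group `Q` with
kernel inside `G'`, `d` is a crossed homomorphism into a `ℤ[Q]`-module and `e` is a linear
functional with `e (d g) = π g - 1`, then the norm element kills every `d g`. -/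
theorem norm_smul_eq_zero [Finite G] [Fintype Q] (hd : IsCrossedHom π d)
    (hπ : Function.Surjective π) (hker : π.ker ≤ commutator G)
    (e : M →ₗ[MonoidAlgebra ℤ Q] MonoidAlgebra ℤ Q)
    (he : ∀ g, e (d g) = MonoidAlgebra.of ℤ Q (π g) - 1) (g : G) :
    (∑ q : Q, MonoidAlgebra.of ℤ Q q) • d g = 0 := by
  classical
  obtain ⟨ι, hι, y, n, hy, hcl, hcard⟩ := exists_gens_prod_eq_card Q
  choose x hx using fun i => hπ (y i)
  have hfinA : Fintype ↥(commutator G) := Fintype.ofFinite _
  let u : ι ⊕ ↥(commutator G) → M := Sum.elim (fun i => d (x i)) (fun a => d a.1)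
  have hU : ∀ g, d g ∈ Submodule.span (MonoidAlgebra ℤ Q) (Set.range u) := by
    let K : Subgroup G :=
      { carrier := {g | d g ∈ Submodule.span (MonoidAlgebra ℤ Q) (Set.range u)}
        mul_mem' := fun {a b} ha hb => by
          show d (a * b) ∈ Submodule.span (MonoidAlgebra ℤ Q) (Set.range u)
          rw [hd a b]; exact Submodule.add_mem _ ha (Submodule.smul_mem _ _ hb)
        one_mem' := by
          show d 1 ∈ Submodule.span (MonoidAlgebra ℤ Q) (Set.range u)
          rw [hd.map_one]; exact Submodule.zero_mem _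
        inv_mem' := fun {a} ha => by
          show d a⁻¹ ∈ Submodule.span (MonoidAlgebra ℤ Q) (Set.range u)
          rw [hd.map_inv]; exact Submodule.neg_mem _ (Submodule.smul_mem _ _ ha) }
    have hxK : ∀ i, x i ∈ K := fun i => Submodule.subset_span ⟨Sum.inl i, rfl⟩
    have hAK : ∀ a ∈ commutator G, a ∈ K := fun a ha =>
      Submodule.subset_span ⟨Sum.inr ⟨a, ha⟩, rfl⟩
    have hmap : K.map π = ⊤ := by
      rw [eq_top_iff, ← hcl, Subgroup.closure_le]
      rintro _ ⟨i, rfl⟩
      exact ⟨x i, hxK i, hx i⟩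
    intro g
    have hg : π g ∈ K.map π := by rw [hmap]; trivial
    obtain ⟨k, hk, hkg⟩ := hg
    have h1 : k⁻¹ * g ∈ commutator G :=
      hker (by rw [MonoidHom.mem_ker, _root_.map_mul, _root_.map_inv, hkg, inv_mul_cancel])
    have h2 : g = k * (k⁻¹ * g) := by group
    have h3 : k * (k⁻¹ * g) ∈ K := K.mul_mem hk (hAK _ h1)
    rw [← h2] at h3
    exact h3
  have hspan : Submodule.span (MonoidAlgebra ℤ Q) (Set.range d) ≤
      Submodule.span (MonoidAlgebra ℤ Q) (Set.range u) :=
    Submodule.span_le.mpr (by rintro _ ⟨g, rfl⟩; exact hU g)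
  let D : ι ⊕ ↥(commutator G) → MonoidAlgebra ℤ Q :=
    Sum.elim (fun i => ∑ j ∈ Finset.range (n i), MonoidAlgebra.of ℤ Q (y i) ^ j) (fun _ => 1)
  have hD : ∀ k, D k • u k ∈
      RingHom.ker (augZ Q) • Submodule.span (MonoidAlgebra ℤ Q) (Set.range u) := by
    rintro (i | a)
    · show (∑ j ∈ Finset.range (n i), MonoidAlgebra.of ℤ Q (y i) ^ j) • d (x i) ∈ _
      rw [← hx i, ← hd.map_pow]
      refine Submodule.smul_mono le_rfl hspan (hd.mem_smul_span_of_mem_commutator (hker ?_))
      rw [MonoidHom.mem_ker, _root_.map_pow, hx i, hy i]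
    · show (1 : MonoidAlgebra ℤ Q) • d a.1 ∈ _
      rw [one_smul]
      exact Submodule.smul_mono le_rfl hspan (hd.mem_smul_span_of_mem_commutator a.2)
  have hP : ∀ k, ∃ P : ι ⊕ ↥(commutator G) → MonoidAlgebra ℤ Q,
      (∀ j, P j ∈ RingHom.ker (augZ Q)) ∧ ∑ j, P j • u j = D k • u k := by
    intro k
    obtain ⟨c, hc, hsum⟩ :=
      (Submodule.mem_ideal_smul_span_iff_exists_sum (RingHom.ker (augZ Q)) u _).mp (hD k)
    refine ⟨c, hc, ?_⟩
    rw [← hsum, Finsupp.sum_fintype]
    intro i; exact zero_smul _ _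
  choose P hPΔ hPsum using hP
  let Mx : Matrix (ι ⊕ ↥(commutator G)) (ι ⊕ ↥(commutator G)) (MonoidAlgebra ℤ Q) :=
    Matrix.diagonal D - Matrix.of P
  have hMu : ∀ k, ∑ j, Mx k j • u j = 0 := by
    intro k
    simp only [Mx, Matrix.sub_apply, Matrix.of_apply, sub_smul, Finset.sum_sub_distrib, hPsum k]
    rw [sub_eq_zero]
    simp [Matrix.diagonal_apply, ite_smul]
  have hdet : ∀ k, Mx.det • u k = 0 := det_smul_eq_zero_of_mulVec Mx u hMu
  have hdet_y : ∀ i, Mx.det * (MonoidAlgebra.of ℤ Q (y i) - 1) = 0 := by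
    intro i
    have h1 := congrArg e (hdet (Sum.inl i))
    rw [map_smul, map_zero] at h1
    have h2 : e (u (Sum.inl i)) = MonoidAlgebra.of ℤ Q (y i) - 1 := by
      show e (d (x i)) = _
      rw [he (x i), hx i]
    rw [h2, smul_eq_mul] at h1
    exact h1
  have hdet_q : ∀ q : Q, Mx.det * MonoidAlgebra.of ℤ Q q = Mx.det := by
    intro q
    have hq : q ∈ Subgroup.closure (Set.range y) := by rw [hcl]; trivial
    induction hq using Subgroup.closure_induction with
    | mem q hq =>
      obtain ⟨i, rfl⟩ := hq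
      have h1 := hdet_y i
      rw [mul_sub, mul_one, sub_eq_zero] at h1
      exact h1
    | one => rw [_root_.map_one, mul_one]
    | mul a b _ _ ha hb => rw [_root_.map_mul, ← mul_assoc, ha, hb]
    | inv a _ ha =>
      conv_lhs => rw [← ha]
      rw [mul_assoc, ← _root_.map_mul, mul_inv_cancel, _root_.map_one, mul_one]
  have haug : augZ Q Mx.det = (Nat.card Q : ℤ) := by
    rw [RingHom.map_det]
    have h1 : (augZ Q).mapMatrix Mx = Matrix.diagonal (fun k => augZ Q (D k)) := by
      ext k j
      have h2 : augZ Q (P k j) = 0 := hPΔ k j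
      simp only [RingHom.mapMatrix_apply, Matrix.map_apply, Mx, Matrix.sub_apply,
        Matrix.of_apply, map_sub, h2, sub_zero]
      by_cases hkj : k = j
      · subst hkj; simp
      · simp [hkj]
    rw [h1, Matrix.det_diagonal, Fintype.prod_sum_type]
    have hl : ∀ i, augZ Q (D (Sum.inl i)) = (n i : ℤ) := by
      intro i
      show augZ Q (∑ j ∈ Finset.range (n i), MonoidAlgebra.of ℤ Q (y i) ^ j) = _
      rw [map_sum]
      simp only [_root_.map_pow, augZ_of, one_pow]
      simp
    have hr : ∀ a, augZ Q (D (Sum.inr a)) = 1 := fun a => _root_.map_one _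
    simp only [hl, hr, Finset.prod_const_one, mul_one]
    rw [← hcard]
    push_cast
    rfl
  have hN : Mx.det * (∑ q : Q, MonoidAlgebra.of ℤ Q q) = (Nat.card Q : ℤ) • Mx.det := by
    rw [Finset.mul_sum]
    simp_rw [hdet_q]
    rw [Finset.sum_const, Finset.card_univ, Nat.card_eq_fintype_card, natCast_zsmul]
  have hdetN : Mx.det = ∑ q : Q, MonoidAlgebra.of ℤ Q q := by
    have h3 : (Nat.card Q : ℤ) • Mx.det = (Nat.card Q : ℤ) • ∑ q : Q, MonoidAlgebra.of ℤ Q q := by
      rw [← hN, mul_norm_eq, haug]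
    have h4 : (Nat.card Q : ℤ) ≠ 0 := by
      have : Nat.card Q ≠ 0 := Nat.card_pos.ne'
      exact_mod_cast this
    exact smul_right_injective _ h4 h3
  have hNu : ∀ k, (∑ q : Q, MonoidAlgebra.of ℤ Q q) • u k = 0 := by
    intro k; rw [← hdetN]; exact hdet k
  have hfin : ∀ m ∈ Submodule.span (MonoidAlgebra ℤ Q) (Set.range u),
      (∑ q : Q, MonoidAlgebra.of ℤ Q q) • m = 0 := by
    intro m hm
    induction hm using Submodule.span_induction with
    | mem m hm => obtain ⟨k, rfl⟩ := hm; exact hNu k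
    | zero => exact smul_zero _
    | add a b _ _ ha hb => rw [smul_add, ha, hb, add_zero]
    | smul r a _ ha => rw [smul_comm, ha, smul_zero]
  exact hfin _ (hU g)

end IsCrossedHom

end Der

end Cfsg.Agent.Lib.helper86
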