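import Cfsg.Agent.Lib.helper86.QO_REPa
import Cfsg.Agent.Lib.helper78.QO_L1
import Cfsg.Agent.Lib.helper75.QO_L2
import Cfsg.Agent.Lib.helper56.QO_L5a
import Cfsg.Agent.Lib.helper75.QO_L5b
import Cfsg.Agent.Lib.helper3.QO_L6c
import Cfsg.Agent.Lib.helper6.QO_L7

/-!
# S1935, piece REP: the replacement step (verbatim Skel statement)
-/

set_option autoImplicit false

namespace Cfsg.Agent.Lib.helper86.QO

open Cfsg.Agent.Lib.helper74.QO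

/-- PIECE REP -/
theorem replacement {V : Type*} [AddCommGroup V] [Finite V] (p : ℕ) [Fact p.Prime]
    (hp2 : p ≠ 2) (hV : ∀ v : V, p • v = 0) (𝔾 : Subgroup (AddMonoid.End V)ˣ)
    (E : ℕ → AddSubgroup (AddMonoid.End V)) (n : ℕ) (hn : E n = ⊥)
    (hmono : ∀ i, E (i + 1) ≤ E i)
    (hE1 : ∀ g ∈ 𝔾, ((g : (AddMonoid.End V)ˣ) : AddMonoid.End V) - 1 ∈ E 1)
    (hEm : ∀ i, ∀ e ∈ E i, ∀ g ∈ 𝔾,
        (((g : (AddMonoid.End V)ˣ) : AddMonoid.End V) - 1) * e ∈ E (i + 1) ∧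
        e * (((g : (AddMonoid.End V)ˣ) : AddMonoid.End V) - 1) ∈ E (i + 1))
    (A : Subgroup (AddMonoid.End V)ˣ) (hA𝔾 : A ≤ 𝔾) (hA : Quad A)
    (x : (AddMonoid.End V)ˣ) (hx : x ∈ 𝔾)
    (hxq : ((x : AddMonoid.End V) - 1) * ((x : AddMonoid.End V) - 1) = 0)
    (hN : ∀ s : ℤ, ∀ b ∈ A,
      x ^ s * b * x ^ (-s) ∈ Subgroup.normalizer (A : Set (AddMonoid.End V)ˣ))
    (hx' : x ∉ Subgroup.normalizer (A : Set (AddMonoid.End V)ˣ)) :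
    ∃ A' : Subgroup (AddMonoid.End V)ˣ, A' ≤ 𝔾 ∧ Quad A' ∧ Nat.card A' = Nat.card A ∧
      Nat.card (Cfsg.Agent.Lib.helper74.QO.Fix A) ≤ Nat.card (Cfsg.Agent.Lib.helper74.QO.Fix A') ∧
      pot E n A < pot E n A' :=
  replacement_of p hp2 hV 𝔾 E n hn hmono hE1 hEm A hA𝔾 hA x hx hxq hN hx'
    (fun W ξ hξ hW => Cfsg.Agent.Lib.helper78.QO.lim_mul W ξ hξ hW)
    (fun W ξ hξ => Cfsg.Agent.Lib.helper75.QO.lim_card W ξ hξ)
    (fun W ξ E' hE' hc => Cfsg.Agent.Lib.helper56.QO.lim_inf_card W ξ E' hE' hc)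
    (fun W ξ E' n' hn' hmono' h0 hE' hc hcard =>
      Cfsg.Agent.Lib.helper75.QO.lim_strict W ξ E' n' hn' hmono' h0 hE' hc hcard)
    (fun H B hB hBH y hy hyq k hk hNy =>
      Cfsg.Agent.Lib.helper3.QO.lim_units_mem H B hB hBH y hy hyq k hk hNy)
    (fun W ξ hξ => Cfsg.Agent.Lib.helper6.QO.lim_fix W ξ hξ)

end Cfsg.Agent.Lib.helper86.QO
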