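import Cfsg.Agent.Lib.helper86.Tate
import Cfsg.Agent.Lib.helper88.Solvable
import Cfsg.Agent.Lib.helper88.AbelianSimple
import Cfsg.Agent.Lib.helper89.FusionNormalizer

/-!
# Applications of Tate's theorem for fusion systems (helper86)

* `focal_le_of_forall_aut`: for a saturated fusion system `F` over a finite `p`-group `S` and a
  strongly closed subgroup `S₀` with `S / S₀` abelian, if every automorphism of `S` in `F` acts
  trivially on `S / S₀` then `foc(F) ≤ S₀` (the factor system over the abelian group `S / S₀` is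
  generated by its automorphisms of `S / S₀`, which are induced from `Aut_F(S)`).
* `exists_conj_of_normalizerSystem_inner`: if `N_F(S)` is the inner system then every map of `F`
  defined on `S` is conjugation by an element of `S`.
* `frattini_map_congr`.
-/

set_option autoImplicit false

namespace Cfsg.Agent.Lib.helper86

open Cfsg Cfsg.FusionSystem Cfsg.Agent.Lib.helper88
open scoped commutatorElement

variable {Ω : Type*} [Group Ω] {S : Subgroup Ω}

theorem frattini_map_congr {T S : Subgroup Ω} (h : T = S) :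
    (frattini T).map T.subtype = (frattini S).map S.subtype := by
  subst h
  rfl

/-- if `N_F(S)` is the inner fusion system then every map of `F` defined on `S` is conjugation by
an element of `S`. -/
theorem exists_conj_of_normalizerSystem_inner [Finite S] (F : FusionSystem S)
    (hN : ∀ N : FusionSystem (normalizerIn S S), F.IsNormalizerSystem S N →
      ∀ P : Subgroup Ω, N.Hom P = (innerFusionSystem (normalizerIn S S)).Hom P)
    {ψ : S →* Ω} (hψ : ψ ∈ F.Hom S) : ∃ g ∈ S, ∀ s : S, ψ s = g * (s : Ω) * g⁻¹ := by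
  have hle : S ≤ normalizerIn S S := fun s hs => ⟨hs, Subgroup.le_normalizer hs⟩
  have h1 := hN _ (helper89.isNormalizerSystem_normalizerSystem F S le_rfl) S
  have h2 : ψ ∈ (helper89.normalizerSystem F S le_rfl).Hom S :=
    (helper89.mem_normalizerSystemOn_iff F S _ le_rfl le_rfl ψ).2
      ⟨hψ, hle, fun x => hle ((F.le_of_mem hψ).2 x), S, ψ, hψ, le_rfl, le_rfl,
        fun x hx hR => rfl, fun q _ hR => (F.le_of_mem hψ).2 _⟩
  rw [h1] at h2
  obtain ⟨-, g, hg, h⟩ := h2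
  exact ⟨g, hg.1, h⟩

/-- if `S₀` is strongly closed with `S / S₀` abelian and every automorphism of `S` in the
saturated system `F` acts trivially on `S / S₀`, then `foc(F) ≤ S₀`. -/
theorem focal_le_of_forall_aut [Finite S] {p : ℕ} [Fact p.Prime] (hS : IsPGroup p S)
    (F : FusionSystem S) (hF : F.IsSaturated p) (S₀ : Subgroup Ω) (hS₀ : F.StronglyClosed S₀)
    (hcomm : ∀ x ∈ S, ∀ y ∈ S, x * y * x⁻¹ * y⁻¹ ∈ S₀)
    (hAut : ∀ ψ ∈ F.Hom S, ∀ s : S, (s : Ω)⁻¹ * ψ s ∈ S₀) :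
    F.focalSubgroup ≤ S₀ := by
  haveI hn : (S₀.subgroupOf S).Normal := by
    constructor
    intro n hn g
    rw [Subgroup.mem_subgroupOf] at hn ⊢
    have h1 := S₀.mul_mem (hcomm g g.2 n n.2) hn
    have e : (g : Ω) * n * (g : Ω)⁻¹ * (n : Ω)⁻¹ * n = ((g * n * g⁻¹ : S) : Ω) := by
      simp
    rw [← e]
    exact h1
  obtain ⟨θ, hθ⟩ : ∃ θ : S →* S ⧸ S₀.subgroupOf S, θ = QuotientGroup.mk' (S₀.subgroupOf S) :=
    ⟨_, rfl⟩
  have hker : ∀ s : S, θ s = 1 ↔ (s : Ω) ∈ S₀ := by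
    intro s
    rw [hθ]
    exact (QuotientGroup.eq_one_iff s).trans Subgroup.mem_subgroupOf
  have hrange : θ.range = ⊤ := by
    rw [hθ]
    exact MonoidHom.range_eq_top.2 (QuotientGroup.mk'_surjective _)
  obtain ⟨E, hE⟩ := helper87.exists_factorSystem F S₀ hS₀ θ hker ⊤ hrange
  have hEsat := factorSystem_saturated hS F hF hS₀ θ E hE
  have hmor := (Cfsg.Agent.S5134.result p hS F hF S₀ hS₀ θ E hE).1
  have hS' : IsPGroup p (⊤ : Subgroup (S ⧸ S₀.subgroupOf S)) :=
    (hS.to_quotient _).to_subgroup _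
  have hab : ∀ x ∈ (⊤ : Subgroup (S ⧸ S₀.subgroupOf S)),
      ∀ y ∈ (⊤ : Subgroup (S ⧸ S₀.subgroupOf S)), x * y = y * x := by
    intro x _ y _
    induction x using QuotientGroup.induction_on with
    | H a =>
      induction y using QuotientGroup.induction_on with
      | H b =>
        rw [← QuotientGroup.mk_mul, ← QuotientGroup.mk_mul]
        apply QuotientGroup.eq.2
        rw [Subgroup.mem_subgroupOf]
        have h1 := hcomm (b : Ω)⁻¹ (S.inv_mem b.2) (a : Ω)⁻¹ (S.inv_mem a.2)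
        have e : (((a * b)⁻¹ * (b * a) : S) : Ω) =
            (b : Ω)⁻¹ * (a : Ω)⁻¹ * (b : Ω)⁻¹⁻¹ * (a : Ω)⁻¹⁻¹ := by
          simp [mul_assoc]
        rw [e]
        exact h1
  have hαtriv : ∀ α ∈ E.autGroup ⊤, ∀ s : S,
      ((α ⟨θ s, Subgroup.mem_top _⟩ : (⊤ : Subgroup (S ⧸ S₀.subgroupOf S))) :
        S ⧸ S₀.subgroupOf S) = θ s := by
    intro α hα s
    have h1 := (mem_autGroup_iff' E le_rfl α).mp hα
    obtain ⟨-, ψ, hψ, hR, hψS, hR', hind⟩ := (hE.2.2.2 ⊤ _).1 h1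
    have hle : S ≤ preimageAlong θ ⊤ := by
      intro x hx
      rw [helper87.mem_preimageAlong]
      exact ⟨hx, Subgroup.mem_top _⟩
    have hψ₀ := restrict_mem F hle hψ
    have h2 := hAut _ hψ₀ s
    have h3 := hind ⟨s, hle s.2⟩
    have h4 : θ ⟨ψ ⟨s, hle s.2⟩, hψS ⟨s, hle s.2⟩⟩ = θ s := by
      have h5 : θ (s⁻¹ * ⟨ψ ⟨s, hle s.2⟩, hψS ⟨s, hle s.2⟩⟩) = 1 := (hker _).2 h2
      rw [map_mul, map_inv, inv_mul_eq_one] at h5
      exact h5.symm
    exact h3.trans h4
  unfold FusionSystem.focalSubgroup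
  rw [Subgroup.closure_le]
  rintro _ ⟨P, φ, x, hφ, rfl⟩
  obtain ⟨φ', hφ', hPS, hφS, hP', hind⟩ := hmor.2 P φ hφ
  obtain ⟨α, hα, hαφ⟩ := exists_aut_extending_of_abelian hS' E hEsat hab hφ'
  have h1 := hαφ ⟨θ ⟨x, hPS x.2⟩, hP' x⟩
  have h2 := hαtriv α hα ⟨x, hPS x.2⟩
  have h3 := hind x
  have h4 : θ ⟨φ x, hφS x⟩ = θ ⟨x, hPS x.2⟩ := h3.symm.trans (h1.symm.trans h2)
  have h5 : θ ((⟨x, hPS x.2⟩ : S)⁻¹ * ⟨φ x, hφS x⟩) = 1 := by
    rw [map_mul, map_inv, h4, inv_mul_cancel]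
  exact (hker _).1 h5

end Cfsg.Agent.Lib.helper86
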