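import Cfsg.Agent.Lib.helper86.FullTransfer
import Cfsg.Agent.Lib.helper86.BisetFocal

/-!
# Ingredients of the Thompson transfer for fusion systems (helper86)

* `card_invariant_modEq`: for a `p`-group acting on a finite set, an invariant subset containing all
  the fixed points has the cardinality of the whole set modulo `p`.
* `signHom`: the sign character `G →* ℤˣ` of a subgroup of index 2.
* `lam_co_eq`: the value of the transfer factor of a block fixed by `s` can be computed at any point
  of the block.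
* `exists_hom_of_fixed`: if every element of `C ≤ S` fixes the block of `x` in the realization of a
  biset with twisted diagonal stabilizers, then `a ↦ b⁻¹` (where `(a, 1) • x = (1, b) • x`) is a map of
  `F` defined on `C`.
* `prod_eq_neg_one_pow`: a product of signs.
-/

set_option autoImplicit false

namespace Cfsg.Agent.Lib.helper86

open Cfsg Cfsg.FusionSystem Cfsg.Agent.Lib.helper88

/-- for a `p`-group acting on a finite set, an invariant subset containing all the fixed points has
the cardinality of the whole set modulo `p`. -/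
theorem card_invariant_modEq {p : ℕ} [Fact p.Prime] {G : Type*} [Group G] (hG : IsPGroup p G)
    {Y : Type*} [MulAction G Y] [Finite Y] (P : Y → Prop)
    (hinv : ∀ (g : G) (y : Y), P y → P (g • y))
    (hfix : ∀ y : Y, (∀ g : G, g • y = y) → P y) :
    Nat.card {y : Y // P y} ≡ Nat.card Y [MOD p] := by
  let M : SubMulAction G Y := ⟨{y | P y}, fun g y hy => hinv g y hy⟩
  have h1 : Nat.card M ≡ Nat.card (MulAction.fixedPoints G M) [MOD p] :=
    hG.card_modEq_card_fixedPoints M
  have h2 := hG.card_modEq_card_fixedPoints Y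
  have e : Nat.card (MulAction.fixedPoints G M) = Nat.card (MulAction.fixedPoints G Y) :=
    Nat.card_congr
      { toFun := fun m => ⟨(m.1 : Y), fun g => congrArg Subtype.val (m.2 g)⟩
        invFun := fun y => ⟨⟨y.1, hfix y.1 y.2⟩, fun g => Subtype.ext (y.2 g)⟩
        left_inv := fun m => rfl
        right_inv := fun y => rfl }
  rw [e] at h1
  exact h1.trans h2.symm

open scoped Classical in
/-- the sign character of a subgroup of index 2. -/
noncomputable def signHom {G : Type*} [Group G] (H : Subgroup G) (hH : H.index = 2) : G →* ℤˣ :=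
  MonoidHom.mk' (fun s => if s ∈ H then 1 else -1) (by
    intro a b
    have h := Subgroup.mul_mem_iff_of_index_two hH (a := a) (b := b)
    by_cases ha : a ∈ H <;> by_cases hb : b ∈ H <;> simp [h, ha, hb])

theorem signHom_of_mem {G : Type*} [Group G] (H : Subgroup G) (hH : H.index = 2) {s : G}
    (hs : s ∈ H) : signHom H hH s = 1 := by
  classical
  show (if s ∈ H then (1 : ℤˣ) else -1) = 1
  rw [if_pos hs]

theorem signHom_of_not_mem {G : Type*} [Group G] (H : Subgroup G) (hH : H.index = 2) {s : G}
    (hs : s ∉ H) : signHom H hH s = -1 := by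
  classical
  show (if s ∈ H then (1 : ℤˣ) else -1) = -1
  rw [if_neg hs]

theorem mem_of_signHom_ne {G : Type*} [Group G] (H : Subgroup G) (hH : H.index = 2) {s : G}
    (hs : signHom H hH s ≠ -1) : s ∈ H := by
  by_contra h
  exact hs (signHom_of_not_mem H hH h)

/-- a product of signs. -/
theorem prod_eq_neg_one_pow {ι : Type*} [DecidableEq ι] (s : Finset ι) (v : ι → ℤˣ) :
    ∏ q ∈ s, v q = (-1) ^ (s.filter (fun q => v q = -1)).card := by
  rw [← Finset.prod_filter_mul_prod_filter_not s (fun q => v q = -1)]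
  have h1 : ∏ q ∈ s.filter (fun q => v q = -1), v q =
      ∏ _q ∈ s.filter (fun q => v q = -1), (-1 : ℤˣ) :=
    Finset.prod_congr rfl (fun q hq => (Finset.mem_filter.1 hq).2)
  have h2 : ∏ q ∈ s.filter (fun q => ¬ v q = -1), v q = 1 :=
    Finset.prod_eq_one (fun q hq =>
      (Int.units_eq_one_or (v q)).resolve_right (Finset.mem_filter.1 hq).2)
  rw [h1, h2, mul_one, Finset.prod_const]

variable {Ω : Type*} [Group Ω] (S : Subgroup Ω)

section Value

variable {X : Type*} [MulAction (S × S) X]
  (hfree : ∀ (x : X) (c : S), (((1 : S), c) : S × S) • x = x → c = 1)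
  {A : Type*} [CommGroup A] (lam : S →* A)

include hfree in
/-- the transfer factor of a block fixed by `s` can be computed at any point of the block. -/
theorem lam_co_eq (s : S) (x : X) (b : S)
    (hb : ((s, 1) : S × S) • x = (((1 : S), b) : S × S) • x) :
    lam (co S (((s, 1) : S × S) • (blk S x).out)) = lam b := by
  have h1 := co_biAut S hfree (biIota S X s) x
  have e1 : ((biIota S X s : biAut S X) : Equiv.Perm X) x = ((s, 1) : S × S) • x := rfl
  have e2 : ((biIota S X s : biAut S X) : Equiv.Perm X) (blk S x).out =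
      ((s, 1) : S × S) • (blk S x).out := rfl
  rw [e1, e2, hb, co_smul S hfree] at h1
  have h2 := congrArg lam h1
  rw [map_mul, map_mul, mul_comm] at h2
  exact (mul_left_cancel h2).symm

/-- a block fixed by `s`: its representative is moved inside the block. -/
theorem out_smul_eq (s : S) (q : Blk S X) (hq : biIota S X s • q = q) :
    ((s, 1) : S × S) • q.out = (((1 : S), co S (((s, 1) : S × S) • q.out)) : S × S) • q.out := by
  have h1 := co_spec S (((s, 1) : S × S) • q.out)
  have h2 : blk S (((s, 1) : S × S) • q.out) = q := by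
    have h3 : biIota S X s • blk S q.out = blk S (((s, 1) : S × S) • q.out) := rfl
    have h4 : blk S q.out = q := Quotient.out_eq q
    rw [← h3, h4, hq]
  rw [h2] at h1
  exact h1

end Value

section Fixed

variable {S}
variable [Fintype (Subgroup (S × S))] (F : FusionSystem S) (k : Subgroup (S × S) → ℕ)
  (hk1 : ∀ D, k D ≠ 0 → D ∈ twSet F)

include hk1 in
/-- if every element of `C ≤ S` fixes the block of `x`, then `a ↦ b⁻¹`, where
`(a, 1) • x = (1, b) • x`, is a map of `F` defined on `C`. -/
theorem exists_hom_of_fixed (x : Real k) {C : Subgroup Ω} (hC : C ≤ S)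
    (hfix : ∀ a : C, ∃ c : S, ((⟨a, hC a.2⟩, 1) : S × S) • x = (((1 : S), c) : S × S) • x) :
    ∃ β ∈ F.Hom C, ∀ (a : C) (b : S),
      ((⟨a, hC a.2⟩, 1) : S × S) • x = (((1 : S), b) : S × S) • x → β a = (b : Ω)⁻¹ := by
  obtain ⟨Q, χ, hχ, hst⟩ := real_fix_tw F k hk1 x
  have key : ∀ (a : C) (b : S),
      ((⟨a, hC a.2⟩, 1) : S × S) • x = (((1 : S), b) : S × S) • x →
      ∃ hb : (b : Ω)⁻¹ ∈ Q, χ ⟨(b : Ω)⁻¹, hb⟩ = (a : Ω) := by
    intro a b hab
    have h1 : (((⟨a, hC a.2⟩ : S), b⁻¹) : S × S) • x = x := by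
      have e : (((⟨a, hC a.2⟩ : S), b⁻¹) : S × S) =
          (((1 : S), b⁻¹) : S × S) * (((⟨a, hC a.2⟩ : S), 1) : S × S) := by
        ext <;> simp
      rw [e, mul_smul, hab, smul_smul]
      have e2 : (((1 : S), b⁻¹) : S × S) * (((1 : S), b) : S × S) = 1 := by
        ext <;> simp
      rw [e2, one_smul]
    exact (hst _).1 h1
  have hle : C ≤ χ.range := by
    intro a ha
    obtain ⟨c, hc⟩ := hfix ⟨a, ha⟩
    obtain ⟨hb, e⟩ := key ⟨a, ha⟩ c hc
    exact ⟨_, e⟩
  obtain ⟨ψ, hψ, hinv⟩ := F.inv_mem hχ
  refine ⟨ψ.comp (Subgroup.inclusion hle), restrict_mem F hle hψ, ?_⟩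
  intro a b hab
  obtain ⟨hb, e⟩ := key a b hab
  have e2 : Subgroup.inclusion hle a = ⟨χ ⟨(b : Ω)⁻¹, hb⟩, ⟨_, rfl⟩⟩ := Subtype.ext e.symm
  show ψ (Subgroup.inclusion hle a) = _
  rw [e2, hinv]

end Fixed

end Cfsg.Agent.Lib.helper86
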